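import Mathlib
import Cfsg.Prelude.Def_Characters
import Cfsg.Prelude.Def_Blocks
import Cfsg.Agent.S4441
import Cfsg.Agent.S0910
import Cfsg.Agent.H78.DefectZero
import Cfsg.Agent.H21.E2Block
import Cfsg.Agent.H21.SimpleTools
import Cfsg.Agent.H21.ResidueTrick
import Cfsg.Agent.H81.BlockDeg
import Cfsg.Agent.H5.Ord5040B
import Cfsg.Agent.H16.Ord5040Grp

/-!
# Order 5040, case B: `C(P7) = P7`, `e7 = 6`, `e5 = 4` is impossible

Piece `S0978-PB` of helper26's project (`caseB_false_of_conj` is the statement with the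
Frobenius-type conjugacy data of `S0978-CONJ` as hypotheses).
-/

set_option autoImplicit false
set_option linter.style.haveILetI false

namespace Cfsg.Agent.H5.Ord5040

open Cfsg Cfsg.Agent.H21 Cfsg.Agent.H21.E2Block

theorem sum_mod7 {ι : Type*} (F : Finset ι) (f : ι → ℤ)
    (h : ∀ i ∈ F, f i % 7 = 0 ∨ f i % 7 = 1) :
    ∃ j : ℕ, j ≤ F.card ∧ (7 : ℤ) ∣ (∑ i ∈ F, f i) - j := by
  classical
  induction F using Finset.induction_on with
  | empty => exact ⟨0, by simp, by simp⟩
  | insert a s ha ih =>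
    obtain ⟨j, hj, hdvd⟩ := ih (fun i hi => h i (Finset.mem_insert_of_mem hi))
    rw [Finset.sum_insert ha, Finset.card_insert_of_notMem ha]
    rcases h a (Finset.mem_insert_self a s) with h0 | h1
    · exact ⟨j, by omega, by omega⟩
    · exact ⟨j + 1, by omega, by push_cast; omega⟩

theorem charDegree_triv (G : Type*) [Group G] : charDegree (triv G : G → ℂ) = 1 := by
  unfold charDegree
  rw [triv_apply]
  simp

theorem triv_mem_principalBlock {G : Type*} [Group G] {p : ℕ} {M : Ideal AlgInt}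
    (hM : IsPModular p M) : triv G ∈ principalBlock M G :=
  Cfsg.Agent.H81.mem_blockOf_self hM (triv G)

/-- Degree bound from the sum of squares: a nontrivial irreducible character of a group of
order `5040` has degree at most `70`. -/
theorem degree_le_70 {G : Type*} [Group G] [Finite G] (hcard : Nat.card G = 5040)
    (ψ : IrrCharacter G) (hψ : ψ ≠ triv G) : charDegree (ψ : G → ℂ) ≤ 70 := by
  classical
  letI := Cfsg.Agent.H4.fintypeIrr G
  have hsq := Cfsg.Agent.H4.sum_irr_sq (G := G)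
  rw [Cfsg.Agent.H4.finsum_irr_eq_sum, hcard] at hsq
  have hsqN : ∑ χ : IrrCharacter G, charDegree (χ : G → ℂ) ^ 2 = 5040 := by
    have h1 : ∀ χ : IrrCharacter G, (χ : G → ℂ) 1 ^ 2 =
        ((charDegree (χ : G → ℂ) ^ 2 : ℕ) : ℂ) := by
      intro χ
      rw [(Cfsg.Agent.H81.irr_charDegree χ).1]
      push_cast
      ring
    rw [Finset.sum_congr rfl (fun χ _ => h1 χ)] at hsq
    exact_mod_cast hsq
  have hle : ∑ χ ∈ ({triv G, ψ} : Finset (IrrCharacter G)), charDegree (χ : G → ℂ) ^ 2 ≤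
      ∑ χ : IrrCharacter G, charDegree (χ : G → ℂ) ^ 2 :=
    Finset.sum_le_sum_of_subset (Finset.subset_univ _)
  rw [Finset.sum_pair (Ne.symm hψ), hsqN, charDegree_triv] at hle
  by_contra hcon
  push Not at hcon
  nlinarith

theorem deg_key : ∀ d ∈ Finset.range 71, d ∣ 5040 → (d % 7 = 0 ∨ d % 7 = 1 ∨ d % 7 = 6) →
    d ≠ 1 → d ≠ 6 → ((d % 5 = 1 → d % 7 = 0 ∨ d % 7 = 1) ∧ (d % 5 = 4 → d % 7 = 0)) := by
  decide

theorem caseB_false_of_conj {G : Type*} [Group G] [Finite G] [IsSimpleGroup G]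
    (hcard : Nat.card G = 5040) (P7 : Sylow 7 G)
    (hC : Nat.card (Subgroup.centralizer ((P7 : Subgroup G) : Set G)) = 7)
    (he7 : (Subgroup.centralizer ((P7 : Subgroup G) : Set G)).relIndex
        (Subgroup.normalizer ((P7 : Subgroup G) : Set G)) = 6)
    (P5 : Sylow 5 G)
    (he5 : (Subgroup.centralizer ((P5 : Subgroup G) : Set G)).relIndex
        (Subgroup.normalizer ((P5 : Subgroup G) : Set G)) = 4)
    (x : G) (hxP : x ∈ (P7 : Subgroup G)) (hx1 : x ≠ 1)
    (hconj : ∀ i : ℕ, ¬ 7 ∣ i → ∃ c : G, c * x * c⁻¹ = x ^ i)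
    (t : G) (ht : orderOf t = 2) (htx : t * x * t⁻¹ = x⁻¹) : False := by
  classical
  have hnp : ¬ (Nat.card G).Prime := by rw [hcard]; norm_num
  have hG : ¬ IsMulCommutative G := Cfsg.Agent.H21.not_comm_of_not_prime hnp
  have hna : ∃ u v : G, u * v ≠ v * u := by
    by_contra hcon
    push Not at hcon
    exact hG ⟨⟨hcon⟩⟩
  have hperf : commutator G = ⊤ := by
    rcases (inferInstance : (commutator G).Normal).eq_bot_or_eq_top with h0 | h0
    · exfalso
      obtain ⟨a, b, hab⟩ := hna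
      rw [commutator_eq_bot_iff] at h0
      exact hab (h0.is_comm.comm a b)
    · exact h0
  haveI : Fact (Nat.Prime 7) := ⟨by norm_num⟩
  haveI : Fact (Nat.Prime 5) := ⟨by norm_num⟩
  letI : Fintype G := Fintype.ofFinite G
  haveI := Cfsg.Agent.H4.finite_irr G
  have hP7 : Nat.card (P7 : Subgroup G) = 7 := by
    have := Cfsg.Agent.H21.sylow_card_of_card_eq (p := 7) (k := 1) (m := 720)
      (by rw [hcard]; norm_num) (by norm_num) P7
    simpa using this
  have hP5 : Nat.card (P5 : Subgroup G) = 5 := by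
    have := Cfsg.Agent.H21.sylow_card_of_card_eq (p := 5) (k := 1) (m := 1008)
      (by rw [hcard]; norm_num) (by norm_num) P5
    simpa using this
  obtain ⟨M7, hM7⟩ := Cfsg.Agent.H78.exists_isPModular 7 (by norm_num)
  obtain ⟨M5, hM5⟩ := Cfsg.Agent.H78.exists_isPModular 5 (by norm_num)
  -- the prime 7
  obtain ⟨X7, Y7, -, -, hX7, -, εX7, ε7, hX7p, -⟩ :=
    Cfsg.Agent.S4441.result 7 M7 hM7 (by norm_num) P7 hP7 6 he7
  have hx7 : orderOf x = 7 :=
    Cfsg.Agent.H21.orderOf_eq_of_mem_card_prime (by norm_num) (P7 : Subgroup G) hP7 x hxP hx1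
  have hcx : Subgroup.centralizer ({x} : Set G) =
      Subgroup.centralizer ((P7 : Subgroup G) : Set G) :=
    centralizer_singleton_eq 7 P7 hP7 x hxP hx1
  have hcent : Nat.card (Subgroup.centralizer ({x} : Set G)) = 7 := by rw [hcx]; exact hC
  have hX7fin : X7.Finite := Set.toFinite X7
  have hXv : ∀ χ ∈ hX7fin.toFinset, (χ : G → ℂ) x = 1 ∨ (χ : G → ℂ) x = -1 := by
    intro χ hχ
    rw [Set.Finite.mem_toFinset] at hχ
    obtain ⟨hs, -, hval⟩ := hX7p χ hχ
    have h := hval x hxP hx1 1 (Subgroup.one_mem _) (by rw [orderOf_one]; norm_num)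
    rw [mul_one] at h
    rcases hs with hs | hs
    · left; rw [h, hs]; norm_num
    · right; rw [h, hs]; norm_num
  have hXcard : hX7fin.toFinset.card = 6 := by
    rw [← Set.ncard_eq_toFinset_card X7 hX7fin, ← Nat.card_coe_set_eq]
    exact hX7
  have hdeg7 := caseB_degree x hx7 hconj hcent hX7fin.toFinset hXcard hXv
  -- facts on the nontrivial members of the principal 5-block
  have hfacts : ∀ ψ : IrrCharacter G, ψ ∈ principalBlock M5 G → ψ ≠ triv G →
      charDegree (ψ : G → ℂ) ∈ Finset.range 71 ∧ charDegree (ψ : G → ℂ) ∣ 5040 ∧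
      (charDegree (ψ : G → ℂ) % 7 = 0 ∨ charDegree (ψ : G → ℂ) % 7 = 1 ∨
        charDegree (ψ : G → ℂ) % 7 = 6) ∧
      charDegree (ψ : G → ℂ) ≠ 1 ∧ charDegree (ψ : G → ℂ) ≠ 6 := by
    intro ψ hψB hψ
    have hd1 : charDegree (ψ : G → ℂ) ≠ 1 := by
      intro h1
      apply hψ
      apply Subtype.ext
      have := Cfsg.Agent.S0910.result 5 M5 hM5 hna ψ hψB 0 (by
        rw [(Cfsg.Agent.H81.irr_charDegree ψ).1, h1]; norm_num)
      rw [this]
      rfl
    refine ⟨Finset.mem_range.mpr (Nat.lt_succ_of_le (degree_le_70 hcard ψ hψ)), ?_, hdeg7 ψ,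
      hd1, ?_⟩
    · have := Cfsg.Agent.H81.irr_charDegree_dvd ψ
      rwa [hcard] at this
    · apply caseB_no_six hperf x t hx7 hconj ht htx ψ
      apply Cfsg.Agent.H21.ResidueTrick.irr_apply_ne_degree ψ _ x hx1
      rw [(Cfsg.Agent.H81.irr_charDegree ψ).1]
      exact_mod_cast hd1
  -- the prime 5
  obtain ⟨X5, Y5, hB5, hdisj5, hX5, hY5, εX5, ε5, hX5p, hε5, hY5deg, -, hY5sum⟩ :=
    Cfsg.Agent.S4441.result 5 M5 hM5 (by norm_num) P5 hP5 4 he5
  have hY5' : Y5.ncard = 1 := by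
    rw [← Nat.card_coe_set_eq, hY5]
  obtain ⟨θ, hθ⟩ := Set.ncard_eq_one.mp hY5'
  have hθY : θ ∈ Y5 := by rw [hθ]; rfl
  have hX5fin : X5.Finite := Set.toFinite X5
  have hF5card : hX5fin.toFinset.card = 4 := by
    rw [← Set.ncard_eq_toFinset_card X5 hX5fin, ← Nat.card_coe_set_eq]
    exact hX5
  have heq := hY5sum θ hθY 1 (by rw [orderOf_one]; norm_num)
  rw [finsum_mem_eq_finite_toFinset_sum _ hX5fin] at heq
  have heqZ : ε5 * (charDegree (θ : G → ℂ) : ℤ) =
      ∑ χ ∈ hX5fin.toFinset, εX5 χ * (charDegree (χ : G → ℂ) : ℤ) := by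
    have h1 : ((ε5 * (charDegree (θ : G → ℂ) : ℤ) : ℤ) : ℂ) =
        ((∑ χ ∈ hX5fin.toFinset, εX5 χ * (charDegree (χ : G → ℂ) : ℤ) : ℤ) : ℂ) := by
      push_cast
      rw [← (Cfsg.Agent.H81.irr_charDegree θ).1, heq]
      apply Finset.sum_congr rfl
      intro χ _
      rw [(Cfsg.Agent.H81.irr_charDegree χ).1]
    exact_mod_cast h1
  -- signed degrees of the nontrivial members
  have hXt : ∀ χ ∈ X5, χ ≠ triv G →
      (εX5 χ * (charDegree (χ : G → ℂ) : ℤ)) % 7 = 0 ∨
        (εX5 χ * (charDegree (χ : G → ℂ) : ℤ)) % 7 = 1 := by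
    intro χ hχ hne
    obtain ⟨hs, hmod, -⟩ := hX5p χ hχ
    obtain ⟨hr, hdvd, h7, hn1, hn6⟩ := hfacts χ (by rw [hB5]; exact Or.inl hχ) hne
    obtain ⟨k1, k2⟩ := deg_key _ hr hdvd h7 hn1 hn6
    unfold Int.ModEq at hmod
    rcases hs with hs | hs
    · rw [hs] at hmod ⊢
      have := k1 (by omega)
      omega
    · rw [hs] at hmod ⊢
      have := k2 (by omega)
      omega
  have hθmod := hY5deg θ hθY
  unfold Int.ModEq at hθmod
  have htrivB : triv G ∈ X5 ∪ Y5 := by rw [← hB5]; exact triv_mem_principalBlock hM5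
  rcases htrivB with htX | htY
  · -- the trivial character lies in `X5`
    have hθne : θ ≠ triv G := by
      rintro rfl
      exact (Set.disjoint_left.mp hdisj5 htX) hθY
    have hεt : εX5 (triv G) = 1 := by
      obtain ⟨hs, hmod, -⟩ := hX5p (triv G) htX
      rw [charDegree_triv] at hmod
      unfold Int.ModEq at hmod
      rcases hs with hs | hs
      · exact hs
      · rw [hs] at hmod; omega
    have hmemF : triv G ∈ hX5fin.toFinset := by rw [Set.Finite.mem_toFinset]; exact htX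
    rw [← Finset.add_sum_erase _ _ hmemF, hεt, charDegree_triv] at heqZ
    obtain ⟨j, hj, hdvd⟩ := sum_mod7 (hX5fin.toFinset.erase (triv G))
      (fun χ => εX5 χ * (charDegree (χ : G → ℂ) : ℤ)) (by
        intro χ hχ
        rw [Finset.mem_erase, Set.Finite.mem_toFinset] at hχ
        exact hXt χ hχ.2 hχ.1)
    rw [Finset.card_erase_of_mem hmemF, hF5card] at hj
    obtain ⟨hr, hdvdθ, h7, hn1, hn6⟩ := hfacts θ (by rw [hB5]; exact Or.inr hθY) hθne
    obtain ⟨k1, k2⟩ := deg_key _ hr hdvdθ h7 hn1 hn6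
    rcases hε5 with hε | hε
    · rw [hε] at hθmod heqZ
      have := k2 (by omega)
      omega
    · rw [hε] at hθmod heqZ
      have := k1 (by omega)
      omega
  · -- the trivial character is `θ`
    have hθt : θ = triv G := by
      rw [hθ] at htY
      exact (Set.mem_singleton_iff.mp htY).symm
    rw [hθt, charDegree_triv] at heqZ hθmod
    have hε : ε5 = -1 := by
      rcases hε5 with hε | hε
      · rw [hε] at hθmod; omega
      · exact hε
    obtain ⟨j, hj, hdvd⟩ := sum_mod7 hX5fin.toFinset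
      (fun χ => εX5 χ * (charDegree (χ : G → ℂ) : ℤ)) (by
        intro χ hχ
        rw [Set.Finite.mem_toFinset] at hχ
        refine hXt χ hχ ?_
        rintro rfl
        exact (Set.disjoint_left.mp hdisj5 hχ) htY)
    rw [hF5card] at hj
    rw [hε] at heqZ
    omega

/-- `S0978-PB`. -/
theorem caseB_false {G : Type*} [Group G] [Finite G] [IsSimpleGroup G] (hcard : Nat.card G = 5040)
    (P7 : Sylow 7 G)
    (hC : Nat.card (Subgroup.centralizer ((P7 : Subgroup G) : Set G)) = 7)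
    (he7 : (Subgroup.centralizer ((P7 : Subgroup G) : Set G)).relIndex
        (Subgroup.normalizer ((P7 : Subgroup G) : Set G)) = 6)
    (P5 : Sylow 5 G)
    (he5 : (Subgroup.centralizer ((P5 : Subgroup G) : Set G)).relIndex
        (Subgroup.normalizer ((P5 : Subgroup G) : Set G)) = 4) : False := by
  haveI : Fact (Nat.Prime 7) := ⟨by norm_num⟩
  have hP7 : Nat.card (P7 : Subgroup G) = 7 := by
    have := Cfsg.Agent.H21.sylow_card_of_card_eq (p := 7) (k := 1) (m := 720)
      (by rw [hcard]; norm_num) (by norm_num) P7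
    simpa using this
  obtain ⟨x, hxP, hx7⟩ : ∃ x ∈ (P7 : Subgroup G), orderOf x = 7 :=
    Cfsg.Agent.H21.exists_mem_orderOf_eq_prime (P7 : Subgroup G) 7 (by rw [hP7])
  have hx1 : x ≠ 1 := by
    rintro rfl
    rw [orderOf_one] at hx7
    omega
  obtain ⟨hconj, ht⟩ := Cfsg.Agent.H16.Ord5040.frob_conj 7 P7 hP7 hC he7 x hxP hx1
  obtain ⟨t, ht2, htx⟩ := ht (by norm_num)
  exact caseB_false_of_conj hcard P7 hC he7 P5 he5 x hxP hx1 hconj t ht2 htx

end Cfsg.Agent.H5.Ord5040
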