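import Mathlib
import Cfsg.Agent.H4.CharBasic

/-!
# helper5: determinant of `ρ g` through eigenvalues

* `det_eq_prod_eig` : `det (ρ g) = ∏ μ ∈ eigFinset ρ g, μ ^ eigMult ρ g μ` (with helper4's
  `eigFinset`, `eigMult`).
* `det_eq_one_of_perfect` : for a perfect group, `det (ρ g) = 1`.
-/

set_option autoImplicit false

namespace Cfsg.Agent.H5.EigDet

open Module DirectSum Cfsg.Agent.H4

variable {G : Type*} [Group G] [Finite G] {V : Type*} [AddCommGroup V] [Module ℂ V]
  [FiniteDimensional ℂ V] (ρ : Representation ℂ G V)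

theorem det_eq_prod_eig (g : G) :
    LinearMap.det (ρ g) = ∏ μ ∈ eigFinset ρ g, μ ^ eigMult ρ g μ := by
  classical
  have hss := rho_isSemisimple ρ g
  have htop := hss.iSup_eigenspace_eq_top
  have hind := Module.End.eigenspaces_iSupIndep (ρ g)
  have hds := DirectSum.isInternal_submodule_of_iSupIndep_of_iSup_eq_top hind htop
  have hfin : {μ : ℂ | Module.End.eigenspace (ρ g) μ ≠ ⊥}.Finite :=
    WellFoundedGT.finite_ne_bot_of_iSupIndep hind
  letI : Fintype {μ : ℂ // Module.End.eigenspace (ρ g) μ ≠ ⊥} := hfin.fintype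
  have hds' : IsInternal (fun i : {μ : ℂ // Module.End.eigenspace (ρ g) μ ≠ ⊥} => Module.End.eigenspace (ρ g) i) :=
    isInternal_ne_bot_iff.mpr hds
  let v : (i : {μ : ℂ // Module.End.eigenspace (ρ g) μ ≠ ⊥}) →
      Basis (Module.Free.ChooseBasisIndex ℂ (Module.End.eigenspace (ρ g) i)) ℂ (Module.End.eigenspace (ρ g) i) :=
    fun i => Module.Free.chooseBasis ℂ _
  have hb : ∀ a, (ρ g) (hds'.collectedBasis v a) = (a.1 : ℂ) • hds'.collectedBasis v a := by
    intro a
    exact Module.End.mem_eigenspace_iff.mp (hds'.collectedBasis_mem v a)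
  have hmat : LinearMap.toMatrix (hds'.collectedBasis v) (hds'.collectedBasis v) (ρ g)
      = Matrix.diagonal (fun a => ((a.1 : {μ : ℂ // Module.End.eigenspace (ρ g) μ ≠ ⊥}) : ℂ)) := by
    ext i j
    rw [LinearMap.toMatrix_apply, hb, map_smul, Finsupp.smul_apply, Basis.repr_self,
      Finsupp.single_apply, Matrix.diagonal_apply]
    by_cases h : i = j
    · subst h; simp
    · rw [if_neg h, if_neg (fun h' => h h'.symm)]; simp
  rw [← LinearMap.det_toMatrix (hds'.collectedBasis v), hmat, Matrix.det_diagonal,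
    Fintype.prod_sigma]
  simp only [Finset.prod_const, Finset.card_univ]
  have hcard : ∀ i : {μ : ℂ // Module.End.eigenspace (ρ g) μ ≠ ⊥},
      Fintype.card (Module.Free.ChooseBasisIndex ℂ (Module.End.eigenspace (ρ g) i)) = eigMult ρ g i :=
    fun i => (Module.finrank_eq_card_chooseBasisIndex ℂ _).symm
  simp_rw [hcard]
  exact (Finset.prod_subtype (eigFinset ρ g) (fun μ => mem_eigFinset ρ)
    (fun μ => μ ^ eigMult ρ g μ)).symm

omit [Finite G] [FiniteDimensional ℂ V] in
theorem det_eq_one_of_perfect (hperf : commutator G = ⊤) (g : G) :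
    LinearMap.det (ρ g) = 1 := by
  let f : G →* ℂ := (LinearMap.det : (V →ₗ[ℂ] V) →* ℂ).comp ρ
  have hle : commutator G ≤ f.ker := by
    rw [commutator_def, Subgroup.commutator_le]
    intro a _ b _
    rw [MonoidHom.mem_ker, commutatorElement_def, map_mul, map_mul, map_mul]
    have h1 : f a * f a⁻¹ = 1 := by rw [← map_mul, mul_inv_cancel, map_one]
    have h2 : f b * f b⁻¹ = 1 := by rw [← map_mul, mul_inv_cancel, map_one]
    calc f a * f b * f a⁻¹ * f b⁻¹ = (f a * f a⁻¹) * (f b * f b⁻¹) := by ring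
      _ = 1 := by rw [h1, h2, one_mul]
  have : g ∈ f.ker := hle (hperf ▸ Subgroup.mem_top g)
  exact MonoidHom.mem_ker.mp this

end Cfsg.Agent.H5.EigDet
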