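import Mathlib
import Cfsg.Prelude.Def_Characters
import Cfsg.Prelude.Def_Blocks
import Cfsg.Agent.S4729
import Cfsg.Agent.H5.Ord5040PB

/-!
# Order 5040: the prime 5

Piece `S0978-P5` of helper26's project: in a simple group of order `5040` the Sylow
`5`-normalizer has `e = 4` and the centralizer of a Sylow `5`-subgroup contains an element of
order `2` or `7`.
-/

set_option autoImplicit false
set_option linter.style.haveILetI false

namespace Cfsg.Agent.H5.Ord5040

open Cfsg Cfsg.Agent.H21 Cfsg.Agent.H21.E2Block

/-- Sum of squares of the degrees of distinct irreducible characters. -/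
theorem sum_sq_le {G : Type*} [Group G] [Finite G] (S : Finset (IrrCharacter G)) :
    ∑ χ ∈ S, charDegree (χ : G → ℂ) ^ 2 ≤ Nat.card G := by
  classical
  letI := Cfsg.Agent.H4.fintypeIrr G
  have hsq := Cfsg.Agent.H4.sum_irr_sq (G := G)
  rw [Cfsg.Agent.H4.finsum_irr_eq_sum] at hsq
  have hsqN : ∑ χ : IrrCharacter G, charDegree (χ : G → ℂ) ^ 2 = Nat.card G := by
    have h1 : ∀ χ : IrrCharacter G, (χ : G → ℂ) 1 ^ 2 =
        ((charDegree (χ : G → ℂ) ^ 2 : ℕ) : ℂ) := by
      intro χ
      rw [(Cfsg.Agent.H81.irr_charDegree χ).1]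
      push_cast
      ring
    rw [Finset.sum_congr rfl (fun χ _ => h1 χ)] at hsq
    exact_mod_cast hsq
  rw [← hsqN]
  exact Finset.sum_le_sum_of_subset (Finset.subset_univ _)

/-- A simple group of non-prime order is perfect. -/
theorem perfect_of_card {G : Type*} [Group G] [Finite G] [IsSimpleGroup G]
    (hnp : ¬ (Nat.card G).Prime) : (∃ u v : G, u * v ≠ v * u) ∧ commutator G = ⊤ := by
  have hG : ¬ IsMulCommutative G := Cfsg.Agent.H21.not_comm_of_not_prime hnp
  have hna : ∃ u v : G, u * v ≠ v * u := by
    by_contra hcon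
    push Not at hcon
    exact hG ⟨⟨hcon⟩⟩
  refine ⟨hna, ?_⟩
  rcases (inferInstance : (commutator G).Normal).eq_bot_or_eq_top with h0 | h0
  · exfalso
    obtain ⟨a, b, hab⟩ := hna
    rw [commutator_eq_bot_iff] at h0
    exact hab (h0.is_comm.comm a b)
  · exact h0

/-- A nontrivial member of a principal block of a non-abelian simple group is not linear. -/
theorem charDegree_ne_one {G : Type*} [Group G] [Finite G] [IsSimpleGroup G]
    (hna : ∃ a b : G, a * b ≠ b * a) (p : ℕ) [Fact p.Prime] (M : Ideal AlgInt)
    (hM : IsPModular p M) (ψ : IrrCharacter G) (hψB : ψ ∈ principalBlock M G)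
    (hψ : ψ ≠ triv G) : charDegree (ψ : G → ℂ) ≠ 1 := by
  intro h1
  apply hψ
  apply Subtype.ext
  have := Cfsg.Agent.S0910.result p M hM hna ψ hψB 0 (by
    rw [(Cfsg.Agent.H81.irr_charDegree ψ).1, h1]; norm_num)
  rw [this]
  rfl

/-- If the centralizer of a Sylow `p`-subgroup is not a `p`-group, the nontrivial members of
the principal `p`-block of a non-abelian simple group have degree at least `2p`. -/
theorem two_mul_le_charDegree {G : Type*} [Group G] [Finite G] [IsSimpleGroup G]
    (hna : ∃ a b : G, a * b ≠ b * a) (hperf : commutator G = ⊤) (p : ℕ) [Fact p.Prime]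
    (M : Ideal AlgInt) (hM : IsPModular p M) (P : Sylow p G)
    (hC : ¬ IsPGroup p ↥(Subgroup.centralizer ((P : Subgroup G) : Set G)))
    (ψ : IrrCharacter G) (hψB : ψ ∈ principalBlock M G) (hψ : ψ ≠ triv G) :
    2 * p ≤ charDegree (ψ : G → ℂ) := by
  by_contra hlt
  push Not at hlt
  apply hC
  refine Cfsg.Agent.S4729.result p M hM hperf P ψ hψB ?_ hlt
  intro g hg
  by_contra hg1
  refine Cfsg.Agent.H21.ResidueTrick.irr_apply_ne_degree ψ ?_ g hg1 hg
  rw [(Cfsg.Agent.H81.irr_charDegree ψ).1]
  exact_mod_cast charDegree_ne_one hna p M hM ψ hψB hψ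

theorem p5_key1 : ∀ d ∈ Finset.range 71, d ∣ 5040 → 10 ≤ d → d % 5 = 1 → (d + 1) ∣ 5040 →
    False := by
  decide

theorem p5_key2 : ∀ d ∈ Finset.range 71, d ∣ 5040 → 10 ≤ d → d % 5 = 4 → (d - 1) ∣ 5040 →
    False := by
  decide

set_option maxRecDepth 8000 in
theorem p5_key3 : ∀ n ∈ Finset.range 253, n ∣ 252 → n % 5 = 1 →
    8 ≤ n → 2 ∣ 252 / n ∨ 7 ∣ 252 / n := by
  decide

/-- `S0978-P5`. -/
theorem p5_facts {G : Type*} [Group G] [Finite G] [IsSimpleGroup G] (hcard : Nat.card G = 5040)
    (P : Sylow 5 G) :
    (Subgroup.centralizer ((P : Subgroup G) : Set G)).relIndex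
        (Subgroup.normalizer ((P : Subgroup G) : Set G)) = 4 ∧
    ∃ u ∈ Subgroup.centralizer ((P : Subgroup G) : Set G), orderOf u = 2 ∨ orderOf u = 7 := by
  classical
  have hnp : ¬ (Nat.card G).Prime := by rw [hcard]; norm_num
  obtain ⟨hna, hperf⟩ := perfect_of_card hnp
  haveI : Fact (Nat.Prime 5) := ⟨by norm_num⟩
  letI : Fintype G := Fintype.ofFinite G
  haveI := Cfsg.Agent.H4.finite_irr G
  obtain ⟨hP5, e, k, n, he, hCk, hnek, hn5, hn8, hed, he1, hpk, hcau⟩ :=
    Cfsg.Agent.H16.Ord5040.sylow_data hcard 5 (Or.inl rfl) P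
  have he24 : e = 2 ∨ e = 4 := by
    have hle : e ≤ 4 := Nat.le_of_dvd (by norm_num) hed
    have h0 : e ≠ 0 := by
      rintro rfl
      simp at hed
    interval_cases e
    · exact absurd rfl h0
    · exact absurd rfl he1
    · exact Or.inl rfl
    · exfalso; revert hed; norm_num
    · exact Or.inr rfl
  have hk1 : k ≠ 1 := by
    rintro rfl
    rcases he24 with rfl | rfl <;> omega
  have hCnp : ¬ IsPGroup 5 ↥(Subgroup.centralizer ((P : Subgroup G) : Set G)) :=
    fun h => hk1 (hpk h)
  obtain ⟨M5, hM5⟩ := Cfsg.Agent.H78.exists_isPModular 5 (by norm_num)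
  have hdeg10 : ∀ ψ : IrrCharacter G, ψ ∈ principalBlock M5 G → ψ ≠ triv G →
      10 ≤ charDegree (ψ : G → ℂ) := fun ψ hψB hψ =>
    two_mul_le_charDegree hna hperf 5 M5 hM5 P hCnp ψ hψB hψ
  have he4 : e = 4 := by
    rcases he24 with he2 | he4
    · exfalso
      rw [he2] at he
      obtain ⟨X, Y, hB, hdisj, hX, hY, εX, ε, hXp, hε, hYdeg, hYeq, hYsum⟩ :=
        Cfsg.Agent.S4441.result 5 M5 hM5 (by norm_num) P hP5 2 he
      have hY' : Y.ncard = 2 := by rw [← Nat.card_coe_set_eq, hY]
      have hX' : X.ncard = 2 := by rw [← Nat.card_coe_set_eq, hX]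
      obtain ⟨θ, θ', hθne, hYpair⟩ := Set.ncard_eq_two.mp hY'
      have hθY : θ ∈ Y := by rw [hYpair]; exact Set.mem_insert _ _
      have hθ'Y : θ' ∈ Y := by rw [hYpair]; exact Set.mem_insert_of_mem _ rfl
      have hone : ¬ (5 ∣ orderOf (1 : G)) := by rw [orderOf_one]; norm_num
      have htrivB : triv G ∈ X ∪ Y := by rw [← hB]; exact triv_mem_principalBlock hM5
      have hYB : ∀ η ∈ Y, η ∈ principalBlock M5 G := fun η hη => by rw [hB]; exact Or.inr hη
      have hXB : ∀ η ∈ X, η ∈ principalBlock M5 G := fun η hη => by rw [hB]; exact Or.inl hη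
      rcases htrivB with htX | htY
      · -- the trivial character lies in `X`
        obtain ⟨χ, hχne, hXpair⟩ : ∃ χ : IrrCharacter G, triv G ≠ χ ∧ X = {triv G, χ} := by
          obtain ⟨a, b, hab, hXab⟩ := Set.ncard_eq_two.mp hX'
          rw [hXab] at htX
          rcases htX with h | h
          · exact ⟨b, by rw [h]; exact hab, by rw [hXab, h]⟩
          · rw [Set.mem_singleton_iff] at h
            exact ⟨a, by rw [h]; exact hab.symm, by rw [hXab, h, Set.pair_comm]⟩
        have hχX : χ ∈ X := by rw [hXpair]; exact Set.mem_insert_of_mem _ rfl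
        have hθt : θ ≠ triv G := by
          rintro rfl
          exact (Set.disjoint_left.mp hdisj htX) hθY
        have hθ't : θ' ≠ triv G := by
          rintro rfl
          exact (Set.disjoint_left.mp hdisj htX) hθ'Y
        have hχθ : χ ≠ θ := by
          rintro rfl
          exact (Set.disjoint_left.mp hdisj hχX) hθY
        have hχθ' : χ ≠ θ' := by
          rintro rfl
          exact (Set.disjoint_left.mp hdisj hχX) hθ'Y
        have hεt : εX (triv G) = 1 := by
          obtain ⟨hs, hmod, -⟩ := hXp (triv G) htX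
          rw [charDegree_triv] at hmod
          unfold Int.ModEq at hmod
          rcases hs with hs | hs
          · exact hs
          · rw [hs] at hmod; omega
        -- the degree equation
        have heq := hYsum θ hθY 1 hone
        rw [hXpair, finsum_mem_pair hχne, triv_apply, hεt] at heq
        have heqZ : ε * (charDegree (θ : G → ℂ) : ℤ) =
            1 + εX χ * (charDegree (χ : G → ℂ) : ℤ) := by
          have h1 : ((ε * (charDegree (θ : G → ℂ) : ℤ) : ℤ) : ℂ) =
              ((1 + εX χ * (charDegree (χ : G → ℂ) : ℤ) : ℤ) : ℂ) := by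
            push_cast
            rw [← (Cfsg.Agent.H81.irr_charDegree θ).1, heq,
              (Cfsg.Agent.H81.irr_charDegree χ).1]
            push_cast
            ring
          exact_mod_cast h1
        -- equal degrees in `Y`
        have hyy : charDegree (θ' : G → ℂ) = charDegree (θ : G → ℂ) := by
          have h1 := hYeq θ' hθ'Y θ hθY 1 hone
          rw [(Cfsg.Agent.H81.irr_charDegree θ').1, (Cfsg.Agent.H81.irr_charDegree θ).1] at h1
          exact_mod_cast h1
        -- the sum of squares
        have hsq := sum_sq_le ({triv G, χ, θ, θ'} : Finset (IrrCharacter G))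
        rw [Finset.sum_insert (by
            simp only [Finset.mem_insert, Finset.mem_singleton, not_or]
            exact ⟨hχne, hθt.symm, hθ't.symm⟩),
          Finset.sum_insert (by
            simp only [Finset.mem_insert, Finset.mem_singleton, not_or]
            exact ⟨hχθ, hχθ'⟩),
          Finset.sum_pair hθne, charDegree_triv, hyy, hcard] at hsq
        have hd10 := hdeg10 χ (hXB χ hχX) hχne.symm
        have hy10 := hdeg10 θ (hYB θ hθY) hθt
        have hddvd : charDegree (χ : G → ℂ) ∣ 5040 := by
          have := Cfsg.Agent.H81.irr_charDegree_dvd χ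
          rwa [hcard] at this
        have hydvd : charDegree (θ : G → ℂ) ∣ 5040 := by
          have := Cfsg.Agent.H81.irr_charDegree_dvd θ
          rwa [hcard] at this
        obtain ⟨hs, hmod, -⟩ := hXp χ hχX
        unfold Int.ModEq at hmod
        have hd70 : charDegree (χ : G → ℂ) ∈ Finset.range 71 := by
          rw [Finset.mem_range]
          by_contra hcon
          push Not at hcon
          nlinarith
        generalize charDegree (χ : G → ℂ) = d at *
        generalize charDegree (θ : G → ℂ) = y at *
        rcases hs with hs | hs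
        · rw [hs] at hmod heqZ
          have hy : y = d + 1 := by
            rcases hε with hε | hε
            · rw [hε] at heqZ; omega
            · rw [hε] at heqZ; omega
          rw [hy] at hydvd
          exact p5_key1 d hd70 hddvd hd10 (by omega) hydvd
        · rw [hs] at hmod heqZ
          have hy : y = d - 1 := by
            rcases hε with hε | hε
            · rw [hε] at heqZ; omega
            · rw [hε] at heqZ; omega
          rw [hy] at hydvd
          exact p5_key2 d hd70 hddvd hd10 (by omega) hydvd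
      · -- the trivial character lies in `Y`: impossible
        have hall : ∀ η ∈ Y, η = triv G := by
          intro η hη
          by_contra hne
          have h1 := hYeq η hη (triv G) htY 1 hone
          rw [triv_apply] at h1
          refine charDegree_ne_one hna 5 M5 hM5 η (hYB η hη) hne ?_
          rw [(Cfsg.Agent.H81.irr_charDegree η).1] at h1
          exact_mod_cast h1
        exact hθne ((hall θ hθY).trans (hall θ' hθ'Y).symm)
    · exact he4
  refine ⟨by rw [he, he4], ?_⟩
  rw [he4] at hnek
  have hnk : n * k = 252 := by nlinarith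
  have hn0 : 0 < n := by omega
  have hk0 : 0 < k := by
    rcases Nat.eq_zero_or_pos k with h | h
    · rw [h] at hnk; omega
    · exact h
  have hn252 : n ∈ Finset.range 253 := by
    rw [Finset.mem_range]
    have : n ≤ n * k := Nat.le_mul_of_pos_right n hk0
    omega
  have hkdiv : 252 / n = k := Nat.div_eq_of_eq_mul_right hn0 hnk.symm
  have h27 := p5_key3 n hn252 (Dvd.intro k hnk) hn5 hn8
  rw [hkdiv] at h27
  rcases h27 with h2 | h7
  · obtain ⟨u, hu, hou⟩ := hcau 2 Nat.prime_two h2
    exact ⟨u, hu, Or.inl hou⟩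
  · obtain ⟨u, hu, hou⟩ := hcau 7 (by norm_num) h7
    exact ⟨u, hu, Or.inr hou⟩

end Cfsg.Agent.H5.Ord5040
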