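import Mathlib
import Cfsg.Prelude.Def_Characters
import Cfsg.Prelude.Def_OddOrderChar
import Cfsg.Agent.H4.Frob
import Cfsg.Agent.H4.Induction
import Cfsg.Agent.H4.Clifford
import Cfsg.Agent.H82.PermChar
import Cfsg.Agent.H81.Counting
import Cfsg.Agent.Lib.Clifford

/-!
# Frobenius kernels without a chosen complement (helper5)

`K ⊴ L` is a *Frobenius-type kernel* when no element outside `K` commutes with a non-identity
element of `K` (`hfpf`).  Then
* `fpf_conj_ne`, `fpf_indFun_irreducible` : non-principal `τ ∈ Irr(K)` is moved by every element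
  outside `K` and induces irreducibly to `L`;
* `fpf_exists_ind` : an irreducible character of `L` without `K` in its kernel is induced from a
  non-principal irreducible character of `K`;
* `fpf_ind_relevant`, `indFun_normal_vanish` : such characters do not have `K` in the kernel and
  vanish off `K`;
* `const_off_one` : a class function `f` of `K` with `[f, τ] = s τ(1)` for all non-principal `τ`
  is constant (`= [f, 1] - s`) off the identity;
* `int_of_mul_degree` : if `x τ(1) ∈ ℤ` for all non-principal `τ ∈ Irr(K)`, `K ≠ 1`, then `x ∈ ℤ`.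
-/

set_option autoImplicit false
set_option linter.unusedSectionVars false
set_option linter.style.haveILetI false

namespace Cfsg.Agent.H5

open Cfsg Cfsg.Agent.H4
open scoped ComplexConjugate

universe u

section FrobKer

variable {L : Type u} [Group L]

/-- In a group with Frobenius-type kernel `K`, a non-principal irreducible character of `K` is
not fixed by conjugation with an element outside `K`. -/
theorem fpf_conj_ne [Finite L] (K : Subgroup L) [K.Normal]
    (hfpf : ∀ x : L, x ∉ K → ∀ k ∈ K, x * k = k * x → k = 1)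
    (τ : K → ℂ) (hτ : IsIrrCharacter K τ) (hτ1 : τ ≠ fun _ => 1) (x : L) (hx : x ∉ K) :
    (fun k : K => τ (MulAut.conjNormal x k)) ≠ τ := by
  classical
  haveI : Fintype K := Fintype.ofFinite K
  intro hfix
  let σ : IrrCharacter K → IrrCharacter K := fun χ =>
    ⟨fun k => χ.1 (MulAut.conjNormal x k),
      isIrrCharacter_comp_surjective (MulAut.conjNormal x : K ≃* K).toMonoidHom
        (MulEquiv.surjective _) χ.2⟩
  have hbp := brauer_permutation (G := K) (fun k => MulAut.conjNormal x k) σ (fun χ g => rfl)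
  have hsum : ∑ h : K, (Nat.card {c : K // c * (MulAut.conjNormal x h) * c⁻¹ = h} : ℂ) =
      (Nat.card K : ℂ) := by
    rw [Finset.sum_eq_single (1 : K)]
    · congr 1
      have h1 : ∀ c : K, c * (MulAut.conjNormal x (1 : K)) * c⁻¹ = 1 := by intro c; simp
      exact Nat.card_congr (Equiv.subtypeUnivEquiv h1)
    · intro h _ hne
      have hemp : IsEmpty {c : K // c * (MulAut.conjNormal x h) * c⁻¹ = h} := by
        constructor
        rintro ⟨c, hc⟩
        apply hne
        have hc' : (c : L) * (x * h * x⁻¹) * (c : L)⁻¹ = h := by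
          have := congrArg Subtype.val hc
          simpa [MulAut.conjNormal_apply] using this
        have hcx : (c : L) * x ∉ K := fun hmem => hx (by
          have := K.mul_mem (K.inv_mem c.2) hmem
          simpa using this)
        have hcomm : ((c : L) * x) * h = h * ((c : L) * x) := by
          calc ((c : L) * x) * h = (c : L) * (x * h * x⁻¹) * (c : L)⁻¹ * ((c : L) * x) := by group
            _ = h * ((c : L) * x) := by rw [hc']
        exact Subtype.ext (hfpf _ hcx h h.2 hcomm)
      rw [Nat.card_of_isEmpty]; simp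
    · intro h; exact absurd (Finset.mem_univ _) h
  rw [hsum] at hbp
  have hN : (Nat.card K : ℂ) ≠ 0 := (neZero_card_complex K).out
  have h1 : (Nat.card {χ : IrrCharacter K // σ χ = χ} : ℂ) = 1 := by
    have := mul_left_cancel₀ hN (hbp.trans (mul_one _).symm)
    exact this
  have h1' : Nat.card {χ : IrrCharacter K // σ χ = χ} = 1 := by exact_mod_cast h1
  have hsub := (Nat.card_eq_one_iff_unique.mp h1').1
  have e : (⟨trivialIrr K, Subtype.ext rfl⟩ : {χ : IrrCharacter K // σ χ = χ}) =
      ⟨⟨τ, hτ⟩, Subtype.ext hfix⟩ := Subsingleton.elim _ _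
  apply hτ1
  have := congrArg (fun z => z.1.1) e
  exact this.symm

/-- In a group with Frobenius-type kernel `K`, every non-principal irreducible character of `K`
induces to an irreducible character. -/
theorem fpf_indFun_irreducible [Fintype L] (K : Subgroup L) [K.Normal]
    (hfpf : ∀ x : L, x ∉ K → ∀ k ∈ K, x * k = k * x → k = 1)
    (τ : K → ℂ) (hτ : IsIrrCharacter K τ) (hτ1 : τ ≠ fun _ => 1) :
    IsIrrCharacter L (indFun K τ) := by
  classical
  haveI : Fintype K := Fintype.ofFinite K
  refine isIrrCharacter_of_norm_one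
    (isCharacter_indFun K τ (isCharacter_of_isIrrCharacter hτ)) ?_
  rw [frobenius_reciprocity K τ (indFun K τ) (indFun_isClassFunction K τ)]
  have hres : (fun k : K => indFun K τ k) =
      (Nat.card K : ℂ)⁻¹ • ∑ x : L, (fun k : K => τ (MulAut.conjNormal x⁻¹ k)) := by
    funext k
    rw [indFun_apply, Pi.smul_apply, Finset.sum_apply, smul_eq_mul]
    congr 1
    refine Finset.sum_congr rfl fun x _ => ?_
    have : x⁻¹ * (k : L) * x = (MulAut.conjNormal x⁻¹ k : K) := by
      rw [MulAut.conjNormal_apply, inv_inv]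
    rw [this, extendByZero_coe]
  rw [hres, classInner_smul_right, classInner_sum_right]
  have hterm : ∀ x : L, classInner τ (fun k : K => τ (MulAut.conjNormal x⁻¹ k)) =
      if x ∈ K then 1 else 0 := by
    intro x
    split_ifs with hx
    · have : (fun k : K => τ (MulAut.conjNormal x⁻¹ k)) = τ := by
        funext k
        have hcl := irr_isClassFunction (⟨τ, hτ⟩ : IrrCharacter K)
        have := hcl k ⟨x⁻¹, K.inv_mem hx⟩
        convert this using 2
        apply Subtype.ext
        rw [MulAut.conjNormal_apply]; simp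
      rw [this]; exact irr_inner_self ⟨τ, hτ⟩
    · have hx' : x⁻¹ ∉ K := fun h => hx (by simpa using K.inv_mem h)
      have hne := fpf_conj_ne K hfpf τ hτ hτ1 x⁻¹ hx'
      let τ' : IrrCharacter K := ⟨fun k => τ (MulAut.conjNormal x⁻¹ k),
        isIrrCharacter_comp_surjective (MulAut.conjNormal x⁻¹ : K ≃* K).toMonoidHom
          (MulEquiv.surjective _) hτ⟩
      exact irr_inner_ne (χ := ⟨τ, hτ⟩) (ψ := τ') (fun h => hne (congrArg Subtype.val h).symm)
  simp only [hterm]
  rw [Finset.sum_boole]
  have hcard : ((Finset.univ.filter fun x : L => x ∈ K).card : ℂ) = (Nat.card K : ℂ) := by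
    congr 1
    rw [Nat.card_eq_fintype_card, Fintype.card_subtype]
  rw [hcard, map_inv₀, Complex.conj_natCast]
  exact inv_mul_cancel₀ (neZero_card_complex K).out

/-- A function induced from a normal subgroup vanishes outside it. -/
theorem indFun_normal_vanish [Fintype L] (K : Subgroup L) [K.Normal] (τ : K → ℂ) {x : L}
    (hx : x ∉ K) : indFun K τ x = 0 := by
  rw [indFun_apply]
  have : ∀ y : L, extendByZero K τ (y⁻¹ * x * y) = 0 := by
    intro y
    apply extendByZero_of_not_mem
    intro hmem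
    apply hx
    have := Subgroup.Normal.conj_mem (inferInstance : K.Normal) _ hmem y
    simpa [mul_assoc] using this
  rw [Finset.sum_eq_zero (fun y _ => this y), mul_zero]

/-- An irreducible character of `L` which is not constant on `K` lies over a non-principal
irreducible character of `K`. -/
theorem exists_nonprincipal_constituent [Fintype L] (K : Subgroup L) [Fintype K]
    (χ : L → ℂ) (hχ : IsClassFunction L χ) (hrel : ∃ k : L, k ∈ K ∧ χ k ≠ χ 1) :
    ∃ τ : K → ℂ, IsIrrCharacter K τ ∧ τ ≠ (fun _ => 1) ∧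
      classInner (fun k : K => χ k) τ ≠ 0 := by
  classical
  by_contra hcon
  push Not at hcon
  obtain ⟨k, hk, hne⟩ := hrel
  set c : ℂ := classInner (fun k : K => χ k) (fun _ : K => (1 : ℂ)) with hc
  have hrescf : IsClassFunction K (fun k : K => χ k) := by
    intro g h
    exact hχ (g : L) (h : L)
  have h1cf : IsClassFunction K (fun _ : K => (1 : ℂ)) := fun _ _ => rfl
  have hzero : (fun k : K => χ k) - c • (fun _ : K => (1 : ℂ)) = 0 := by
    apply eq_zero_of_inner_irr_eq_zero
    · intro g h
      simp only [Pi.sub_apply, Pi.smul_apply]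
      have := hrescf g h
      simp only at this
      rw [this]
    · intro τ
      rw [classInner_sub_left, classInner_smul_left]
      by_cases hτ : τ.1 = fun _ => 1
      · rw [hτ, ← hc]
        have : classInner (fun _ : K => (1 : ℂ)) (fun _ : K => (1 : ℂ)) = 1 :=
          irr_inner_self (trivialIrr K)
        rw [this, mul_one, sub_self]
      · rw [hcon τ.1 τ.2 hτ]
        have : classInner (fun _ : K => (1 : ℂ)) τ.1 = 0 :=
          irr_inner_ne (χ := trivialIrr K) (ψ := τ) (fun h => hτ (congrArg Subtype.val h).symm)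
        rw [this, mul_zero, sub_zero]
  have hval : ∀ k : K, χ k = c := by
    intro k
    have := congrFun hzero k
    simp only [Pi.sub_apply, Pi.smul_apply, smul_eq_mul, mul_one, Pi.zero_apply] at this
    exact sub_eq_zero.mp this
  apply hne
  have h1 := hval ⟨k, hk⟩
  have h2 := hval 1
  simp only [OneMemClass.coe_one] at h2
  rw [h2]
  exact h1

/-- In a group with Frobenius-type kernel `K`, an irreducible character which is not constant on
`K` is induced from a non-principal irreducible character of `K`. -/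
theorem fpf_exists_ind [Fintype L] (K : Subgroup L) [K.Normal]
    (hfpf : ∀ x : L, x ∉ K → ∀ k ∈ K, x * k = k * x → k = 1)
    (χ : L → ℂ) (hχ : IsIrrCharacter L χ) (hrel : ∃ k : L, k ∈ K ∧ χ k ≠ χ 1) :
    ∃ τ : K → ℂ, IsIrrCharacter K τ ∧ τ ≠ (fun _ => 1) ∧ χ = indFun K τ := by
  classical
  haveI : Fintype K := Fintype.ofFinite K
  have hχcf : IsClassFunction L χ := isClassFunction_of_isCharacter (isCharacter_of_isIrrCharacter hχ)
  obtain ⟨τ, hτ, hτ1, hne⟩ := exists_nonprincipal_constituent K χ hχcf hrel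
  refine ⟨τ, hτ, hτ1, ?_⟩
  have hirr := fpf_indFun_irreducible K hfpf τ hτ hτ1
  symm
  apply Cfsg.Agent.Clifford.eq_of_classInner_ne_zero hirr hχ
  rw [frobenius_reciprocity K τ χ hχcf, ← classInner_conj_symm]
  intro h0
  exact hne ((map_eq_zero _).mp h0)

/-- A character induced from a non-principal irreducible character of a Frobenius-type kernel
is not constant on the kernel. -/
theorem fpf_ind_relevant [Fintype L] (K : Subgroup L) [K.Normal]
    (hfpf : ∀ x : L, x ∉ K → ∀ k ∈ K, x * k = k * x → k = 1)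
    (τ : K → ℂ) (hτ : IsIrrCharacter K τ) (hτ1 : τ ≠ fun _ => 1) :
    ∃ k : L, k ∈ K ∧ indFun K τ k ≠ indFun K τ 1 := by
  classical
  haveI : Fintype K := Fintype.ofFinite K
  by_contra hcon
  push Not at hcon
  have hirr := fpf_indFun_irreducible K hfpf τ hτ hτ1
  have h1 : classInner (indFun K τ) (indFun K τ) = 1 := irr_inner_self ⟨_, hirr⟩
  rw [frobenius_reciprocity K τ (indFun K τ) (indFun_isClassFunction K τ)] at h1
  have hres : (fun k : K => indFun K τ k) = (indFun K τ 1) • (fun _ : K => (1 : ℂ)) := by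
    funext k
    simp only [Pi.smul_apply, smul_eq_mul, mul_one]
    exact hcon k k.2
  rw [hres, classInner_smul_right] at h1
  have : classInner τ (fun _ : K => (1 : ℂ)) = 0 :=
    irr_inner_ne (χ := ⟨τ, hτ⟩) (ψ := trivialIrr K) (fun h => hτ1 (congrArg Subtype.val h))
  rw [this, mul_zero] at h1
  exact zero_ne_one h1

end FrobKer

section ClassFun

variable {K : Type u} [Group K] [Fintype K]

/-- The regular character vanishes off the identity: `∑_τ τ(1) τ(k) = 0` for `k ≠ 1`. -/
theorem sum_irr_one_mul_eq_zero (k : K) (hk : k ≠ 1) :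
    ∑ᶠ τ : IrrCharacter K, (τ : K → ℂ) 1 * (τ : K → ℂ) k = 0 := by
  classical
  have h := column_orthogonality (G := K) k 1
  have hemp : IsEmpty {c : K // c * k * c⁻¹ = 1} := by
    constructor
    rintro ⟨c, hc⟩
    apply hk
    have : k = c⁻¹ * 1 * c := by rw [← hc]; group
    simpa using this
  rw [Nat.card_of_isEmpty, Nat.cast_zero] at h
  rw [← h]
  congr 1
  funext τ
  rw [irr_one_conj, mul_comm]

/-- A class function `f` with `[f, τ] = s τ(1)` for all non-principal irreducible `τ` is constant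
off the identity, with value `[f, 1] - s`. -/
theorem const_off_one {f : K → ℂ} (hf : IsClassFunction K f) (s : ℂ)
    (hs : ∀ τ : IrrCharacter K, (τ : K → ℂ) ≠ (fun _ => 1) →
      classInner f (τ : K → ℂ) = s * (τ : K → ℂ) 1)
    (k : K) (hk : k ≠ 1) : f k = classInner f (fun _ : K => (1 : ℂ)) - s := by
  classical
  letI := fintypeIrr K
  have hexp := classFunction_eq_finsum hf
  rw [finsum_irr_eq_sum] at hexp
  have hk' : f k = ∑ τ : IrrCharacter K, classInner f (τ : K → ℂ) * (τ : K → ℂ) k := by
    have := congrFun hexp k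
    rw [Finset.sum_apply] at this
    exact this
  have hterm : ∀ τ : IrrCharacter K, classInner f (τ : K → ℂ) * (τ : K → ℂ) k =
      s * ((τ : K → ℂ) 1 * (τ : K → ℂ) k) +
        if τ = trivialIrr K then (classInner f (fun _ : K => (1 : ℂ)) - s) else 0 := by
    intro τ
    split_ifs with hτ
    · subst hτ
      change classInner f (fun _ : K => (1 : ℂ)) * 1 = s * (1 * 1) + _
      ring
    · have hτ' : (τ : K → ℂ) ≠ (fun _ => 1) := fun h => hτ (Subtype.ext h)
      rw [hs τ hτ']
      ring
  have hreg := sum_irr_one_mul_eq_zero k hk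
  rw [finsum_irr_eq_sum] at hreg
  rw [hk', Finset.sum_congr rfl (fun τ _ => hterm τ), Finset.sum_add_distrib, ← Finset.mul_sum,
    hreg, mul_zero, zero_add, Finset.sum_ite_eq' Finset.univ (trivialIrr K)]
  simp

/-- A nontrivial group has a non-principal irreducible character. -/
theorem exists_irr_ne_one [Nontrivial K] : ∃ τ : IrrCharacter K, (τ : K → ℂ) ≠ (fun _ => 1) := by
  obtain ⟨k, hk⟩ := exists_ne (1 : K)
  by_contra hcon
  push Not at hcon
  apply hk
  have hconj : IsConj k 1 := by
    rw [isConj_iff_irr]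
    intro χ
    rw [hcon χ]
  exact isConj_one_left.mp hconj

/-- If `x τ(1)` is an integer for every non-principal irreducible character `τ` of the
nontrivial group `K`, then `x` is an integer (the degrees of the non-principal irreducible
characters are coprime as a family). -/
theorem int_of_mul_degree [Nontrivial K] (x : ℂ)
    (hx : ∀ τ : IrrCharacter K, (τ : K → ℂ) ≠ (fun _ => 1) → ∃ z : ℤ, x * (τ : K → ℂ) 1 = z) :
    ∃ z : ℤ, x = z := by
  classical
  letI := fintypeIrr K
  choose d hd0 hddvd hd using fun τ : IrrCharacter K => Cfsg.Agent.H81.irr_degree_dvd τ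
  have hsq := sum_irr_sq (G := K)
  rw [finsum_irr_eq_sum] at hsq
  -- integers `y τ` with `y τ = x τ(1)` for non-principal `τ`
  have hy : ∀ τ : IrrCharacter K, ∃ z : ℤ,
      (z : ℂ) = if (τ : K → ℂ) = (fun _ => 1) then 0 else x * (τ : K → ℂ) 1 := by
    intro τ
    split_ifs with h
    · exact ⟨0, by simp⟩
    · obtain ⟨z, hz⟩ := hx τ h
      exact ⟨z, hz.symm⟩
  choose y hy using hy
  -- `x (|K| - 1)` is an integer
  have h1 : x * (Nat.card K : ℂ) - x = ((∑ τ : IrrCharacter K, y τ * (d τ : ℤ) : ℤ) : ℂ) := by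
    push_cast
    rw [← hsq, Finset.mul_sum]
    have hterm : ∀ τ : IrrCharacter K, x * (τ : K → ℂ) 1 ^ 2 =
        (y τ : ℂ) * (d τ : ℂ) + if τ = trivialIrr K then x else 0 := by
      intro τ
      rw [hy τ]
      by_cases hτ : (τ : K → ℂ) = (fun _ => 1)
      · have hτ' : τ = trivialIrr K := Subtype.ext hτ
        rw [if_pos hτ, if_pos hτ', hτ]
        ring
      · have hτ' : τ ≠ trivialIrr K := fun h => hτ (congrArg Subtype.val h)
        rw [if_neg hτ, if_neg hτ', ← hd τ]
        ring
    rw [Finset.sum_congr rfl (fun τ _ => hterm τ), Finset.sum_add_distrib,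
      Finset.sum_ite_eq' Finset.univ (trivialIrr K)]
    simp
  -- `x |K|` is an integer
  obtain ⟨τ₀, hτ₀⟩ := exists_irr_ne_one (K := K)
  obtain ⟨z₀, hz₀⟩ := hx τ₀ hτ₀
  obtain ⟨q, hq⟩ := hddvd τ₀
  have h2 : x * (Nat.card K : ℂ) = ((z₀ * (q : ℤ) : ℤ) : ℂ) := by
    push_cast
    rw [← hz₀, hd τ₀, hq]
    push_cast
    ring
  refine ⟨z₀ * (q : ℤ) - ∑ τ : IrrCharacter K, y τ * (d τ : ℤ), ?_⟩
  rw [Int.cast_sub, ← h1, ← h2]
  ring

end ClassFun

section Rel

variable {L : Type u} [Group L]

/-- The irreducible characters of `L` that are not constant on `K` (do not have `K` in the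
kernel). -/
def relSet (K : Subgroup L) : Set (L → ℂ) :=
  {χ | IsIrrCharacter L χ ∧ ∃ k : L, k ∈ K ∧ χ k ≠ χ 1}

theorem mem_relSet_iff [Fintype L] (K : Subgroup L) [K.Normal]
    (hfpf : ∀ x : L, x ∉ K → ∀ k ∈ K, x * k = k * x → k = 1) (χ : L → ℂ) :
    χ ∈ relSet K ↔ ∃ τ : K → ℂ, IsIrrCharacter K τ ∧ τ ≠ (fun _ => 1) ∧ χ = indFun K τ := by
  constructor
  · rintro ⟨hχ, hrel⟩
    exact fpf_exists_ind K hfpf χ hχ hrel
  · rintro ⟨τ, hτ, hτ1, rfl⟩
    exact ⟨fpf_indFun_irreducible K hfpf τ hτ hτ1, fpf_ind_relevant K hfpf τ hτ hτ1⟩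

theorem relSet_vanish [Fintype L] (K : Subgroup L) [K.Normal]
    (hfpf : ∀ x : L, x ∉ K → ∀ k ∈ K, x * k = k * x → k = 1) {χ : L → ℂ}
    (hχ : χ ∈ relSet K) {x : L} (hx : x ∉ K) : χ x = 0 := by
  obtain ⟨τ, -, -, rfl⟩ := (mem_relSet_iff K hfpf χ).mp hχ
  exact indFun_normal_vanish K τ hx

theorem zspan_relSet_vanish [Fintype L] (K : Subgroup L) [K.Normal]
    (hfpf : ∀ x : L, x ∉ K → ∀ k ∈ K, x * k = k * x → k = 1) {α : L → ℂ}
    (hα : α ∈ zspan (relSet K)) {x : L} (hx : x ∉ K) : α x = 0 := by
  unfold zspan at hα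
  induction hα using Submodule.span_induction with
  | mem χ hχ => exact relSet_vanish K hfpf hχ hx
  | zero => rfl
  | add a b _ _ ha hb => rw [Pi.add_apply, ha, hb, add_zero]
  | smul n a _ ha => rw [Pi.smul_apply, ha, smul_zero]

theorem zspan_relSet_isClassFunction (K : Subgroup L) {α : L → ℂ}
    (hα : α ∈ zspan (relSet K)) : IsClassFunction L α := by
  unfold zspan at hα
  induction hα using Submodule.span_induction with
  | mem χ hχ => exact isClassFunction_of_isCharacter (isCharacter_of_isIrrCharacter hχ.1)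
  | zero => exact fun _ _ => rfl
  | add a b _ _ ha hb => exact fun g h => by rw [Pi.add_apply, Pi.add_apply, ha g h, hb g h]
  | smul n a _ ha => exact fun g h => by rw [Pi.smul_apply, Pi.smul_apply, ha g h]

theorem mem_zspan_of_mem {X : Type*} {S : Set (X → ℂ)} {χ : X → ℂ} (hχ : χ ∈ S) : χ ∈ zspan S :=
  Submodule.subset_span hχ

/-- The degree-weighted difference of two relevant characters lies in the span and vanishes at
the identity. -/
theorem diff_mem_zspanOn (K : Subgroup L) {χ ξ : L → ℂ} (hχ : χ ∈ relSet K)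
    (hξ : ξ ∈ relSet K) (n m : ℕ) (hn : χ 1 = n) (hm : ξ 1 = m) :
    (m : ℤ) • χ - (n : ℤ) • ξ ∈ zspanOn (relSet K) ({1}ᶜ : Set L) := by
  refine ⟨?_, ?_⟩
  · exact Submodule.sub_mem _ (Submodule.smul_mem _ _ (Submodule.subset_span hχ))
      (Submodule.smul_mem _ _ (Submodule.subset_span hξ))
  · intro x hx
    have hx1 : x = 1 := by
      by_contra h
      exact hx h
    subst hx1
    rw [Pi.sub_apply, Pi.smul_apply, Pi.smul_apply, hn, hm, zsmul_eq_mul, zsmul_eq_mul]
    push_cast
    ring

/-- A sum over the group of a function vanishing off a subgroup. -/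
theorem sum_eq_sum_subgroup [Fintype L] (K : Subgroup L) [Fintype K] (F : L → ℂ)
    (hF : ∀ x : L, x ∉ K → F x = 0) : ∑ x : L, F x = ∑ k : K, F k := by
  classical
  rw [← Finset.sum_filter_of_ne (p := fun g => g ∈ K)]
  · rw [Finset.sum_subtype (Finset.univ.filter fun g => g ∈ K) (p := fun g => g ∈ K) (by simp)]
  · intro g _ hne
    by_contra hg
    exact hne (hF g hg)

/-- A class function of `L` orthogonal to all integer combinations of relevant characters
vanishing at the identity is constant on `K ∖ {1}`; more precisely its restriction to `K` is a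
combination of the principal and the regular character. -/
theorem const_of_orth [Fintype L] (K : Subgroup L) [K.Normal] [Fintype K]
    (hfpf : ∀ x : L, x ∉ K → ∀ k ∈ K, x * k = k * x → k = 1)
    (D : L → ℂ) (hD : IsClassFunction L D)
    (horth : ∀ α ∈ zspanOn (relSet K) ({1}ᶜ : Set L), classInner α D = 0) :
    ∃ s : ℂ, (∀ τ : IrrCharacter K, (τ : K → ℂ) ≠ (fun _ => 1) →
        classInner (fun k : K => D k) (τ : K → ℂ) = s * (τ : K → ℂ) 1) ∧
      ∀ k : K, k ≠ 1 → D k = classInner (fun k : K => D k) (fun _ : K => (1 : ℂ)) - s := by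
  classical
  have hDK : IsClassFunction K (fun k : K => D k) := fun g h => hD (g : L) (h : L)
  have hidx : (K.index : ℂ) ≠ 0 := by
    have : K.index ≠ 0 := Subgroup.index_ne_zero_of_finite
    exact_mod_cast this
  have hrel : ∀ τ τ' : IrrCharacter K, (τ : K → ℂ) ≠ (fun _ => 1) → (τ' : K → ℂ) ≠ (fun _ => 1) →
      (τ' : K → ℂ) 1 * classInner (fun k : K => D k) (τ : K → ℂ) =
        (τ : K → ℂ) 1 * classInner (fun k : K => D k) (τ' : K → ℂ) := by
    intro τ τ' hτ hτ'
    obtain ⟨n, hn0, hn⟩ := irr_one_eq_natCast τ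
    obtain ⟨n', hn'0, hn'⟩ := irr_one_eq_natCast τ'
    have hχ : indFun K (τ : K → ℂ) ∈ relSet K :=
      (mem_relSet_iff K hfpf _).mpr ⟨τ.1, τ.2, hτ, rfl⟩
    have hξ : indFun K (τ' : K → ℂ) ∈ relSet K :=
      (mem_relSet_iff K hfpf _).mpr ⟨τ'.1, τ'.2, hτ', rfl⟩
    have h1 : indFun K (τ : K → ℂ) 1 = ((K.index * n : ℕ) : ℂ) := by
      rw [indFun_one_eq, hn]; push_cast; ring
    have h1' : indFun K (τ' : K → ℂ) 1 = ((K.index * n' : ℕ) : ℂ) := by
      rw [indFun_one_eq, hn']; push_cast; ring
    have h0 := horth _ (diff_mem_zspanOn K hχ hξ _ _ h1 h1')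
    rw [classInner_sub_left, ← Int.cast_smul_eq_zsmul ℂ, ← Int.cast_smul_eq_zsmul ℂ,
      classInner_smul_left, classInner_smul_left, frobenius_reciprocity K _ D hD,
      frobenius_reciprocity K _ D hD] at h0
    have h2 := congrArg (starRingEnd ℂ) h0
    simp only [map_sub, map_mul, map_zero, Int.cast_natCast, Complex.conj_natCast,
      classInner_conj_symm] at h2
    rw [hn, hn']
    have h3 : (K.index : ℂ) * ((n' : ℂ) * classInner (fun k : K => D k) (τ : K → ℂ) -
        (n : ℂ) * classInner (fun k : K => D k) (τ' : K → ℂ)) = 0 := by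
      push_cast at h2
      linear_combination h2
    rcases mul_eq_zero.mp h3 with h | h
    · exact absurd h hidx
    · exact sub_eq_zero.mp h
  by_cases hex : ∃ τ₀ : IrrCharacter K, (τ₀ : K → ℂ) ≠ (fun _ => 1)
  · obtain ⟨τ₀, hτ₀⟩ := hex
    set s : ℂ := classInner (fun k : K => D k) (τ₀ : K → ℂ) / (τ₀ : K → ℂ) 1 with hs
    have hs' : ∀ τ : IrrCharacter K, (τ : K → ℂ) ≠ (fun _ => 1) →
        classInner (fun k : K => D k) (τ : K → ℂ) = s * (τ : K → ℂ) 1 := by
      intro τ hτ
      have h := hrel τ τ₀ hτ hτ₀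
      have h0 : (τ₀ : K → ℂ) 1 ≠ 0 := irr_one_ne_zero τ₀
      rw [hs]
      field_simp
      linear_combination h
    exact ⟨s, hs', fun k hk => const_off_one hDK s hs' k hk⟩
  · push Not at hex
    refine ⟨0, fun τ hτ => absurd (hex τ) hτ, fun k hk => ?_⟩
    exfalso
    have : Nontrivial K := ⟨⟨k, 1, hk⟩⟩
    obtain ⟨τ, hτ⟩ := exists_irr_ne_one (K := K)
    exact hτ (hex τ)

/-- Two distinct relevant characters: neither is constant on `K ∖ {1}`. -/
theorem relSet_not_const [Fintype L] (K : Subgroup L) [K.Normal]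
    (hfpf : ∀ x : L, x ∉ K → ∀ k ∈ K, x * k = k * x → k = 1) {χ ξ : L → ℂ}
    (hχ : χ ∈ relSet K) (hξ : ξ ∈ relSet K) (hne : χ ≠ ξ) :
    ∃ a b : K, a ≠ 1 ∧ b ≠ 1 ∧ χ a ≠ χ b := by
  classical
  haveI : Fintype K := Fintype.ofFinite K
  by_contra hcon
  push Not at hcon
  obtain ⟨k₁, hk₁, hk₁ne⟩ := hχ.2
  have hk₁1 : (⟨k₁, hk₁⟩ : K) ≠ 1 := by
    intro h
    apply hk₁ne
    have := congrArg Subtype.val h
    simp only [OneMemClass.coe_one] at this
    rw [this]
  have hconst : ∀ k : K, k ≠ 1 → χ k = χ k₁ := fun k hk => hcon k ⟨k₁, hk₁⟩ hk hk₁1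
  -- orthogonality of `χ` and `ξ`
  have horth : classInner χ ξ = 0 :=
    irr_inner_ne (χ := ⟨χ, hχ.1⟩) (ψ := ⟨ξ, hξ.1⟩) (fun h => hne (congrArg Subtype.val h))
  have hsum : ∑ x : L, χ x * conj (ξ x) = 0 := by
    unfold classInner at horth
    rcases mul_eq_zero.mp horth with h | h
    · exact absurd (inv_eq_zero.mp h) (neZero_card_complex L).out
    · exact h
  rw [sum_eq_sum_subgroup K (fun x => χ x * conj (ξ x))
    (fun x hx => by rw [relSet_vanish K hfpf hχ hx, zero_mul])] at hsum
  -- the sum of `ξ` over `K` vanishes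
  have hξsum : ∑ k : K, conj (ξ k) = 0 := by
    have h0 := Cfsg.Agent.H82.classInner_permChar_eq_zero K ⟨ξ, hξ.1⟩ (by
      intro hle
      rw [Subgroup.normalCore_eq_self] at hle
      obtain ⟨k, hk, hkne⟩ := hξ.2
      exact hkne (hle hk))
    rw [frobenius_reciprocity K _ _
      (isClassFunction_of_isCharacter (isCharacter_of_isIrrCharacter hξ.1))] at h0
    unfold classInner at h0
    rcases mul_eq_zero.mp h0 with h | h
    · exact absurd (inv_eq_zero.mp h) (neZero_card_complex K).out
    · simpa using h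
  have hsplit : ∑ k : K, χ k * conj (ξ k) =
      (χ 1 - χ k₁) * conj (ξ 1) + χ k₁ * ∑ k : K, conj (ξ k) := by
    rw [Finset.mul_sum, ← Finset.add_sum_erase Finset.univ _ (Finset.mem_univ (1 : K)),
      ← Finset.add_sum_erase Finset.univ (fun k : K => χ k₁ * conj (ξ k)) (Finset.mem_univ (1 : K))]
    have : ∑ k ∈ Finset.univ.erase (1 : K), χ k * conj (ξ k) =
        ∑ k ∈ Finset.univ.erase (1 : K), χ k₁ * conj (ξ k) := by
      refine Finset.sum_congr rfl fun k hk => ?_
      rw [hconst k (Finset.ne_of_mem_erase hk)]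
    rw [this]
    simp only [OneMemClass.coe_one]
    ring
  rw [hsplit, hξsum, mul_zero, add_zero] at hsum
  rcases mul_eq_zero.mp hsum with h | h
  · exact hk₁ne (sub_eq_zero.mp h).symm
  · have h1 : ξ 1 ≠ 0 := irr_one_ne_zero ⟨ξ, hξ.1⟩
    exact h1 ((map_eq_zero _).mp h)

end Rel

end Cfsg.Agent.H5
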