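import Mathlib
import Cfsg.Prelude.Def_Characters
import Cfsg.Prelude.Def_OddOrderChar
import Cfsg.Agent.H5.FrobKer
import Cfsg.Agent.H4.Exceptional

/-!
# Coherence for a T.I. subgroup with Frobenius normalizer (helper5)

`K ≤ G` is a T.I. subgroup with `N = N_G(K)`, `C_G(k) ≤ K` for `1 ≠ k ∈ K`; `S` is the set of
irreducible characters of `N` not constant on `K`; `st` is a linear isometry on `ℤ[S]` extending
induction on the members vanishing at `1`.

* `normalizer_fpf` : `K ∩ N` is a Frobenius-type kernel of `N`;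
* `isometry_zspan_*` : linearity consequences;
* `star_sub_const` : `st χ - χ` is a constant integer on `K ∖ {1}`;
* `star_sub_ratio` : that constant is proportional to `χ 1`;
* `orth_const` : a class function of `G` orthogonal to `st χ` for all `χ ∈ S` is constant on
  `K ∖ {1}`.
-/

set_option autoImplicit false
set_option linter.unusedSectionVars false
set_option linter.style.haveILetI false

namespace Cfsg.Agent.H5

open Cfsg Cfsg.Agent.H4
open scoped ComplexConjugate

section TI

variable {G : Type*} [Group G]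

/-- If `K` contains the centralizers of its non-identity elements, then `K ∩ N_G(K)` is a
Frobenius-type kernel of `N_G(K)`. -/
theorem normalizer_fpf (K : Subgroup G)
    (hC : ∀ k ∈ K, k ≠ 1 → Subgroup.centralizer ({k} : Set G) ≤ K) :
    ∀ x : Subgroup.normalizer (K : Set G),
      x ∉ K.subgroupOf (Subgroup.normalizer (K : Set G)) →
      ∀ k ∈ K.subgroupOf (Subgroup.normalizer (K : Set G)), x * k = k * x → k = 1 := by
  intro x hx k hk hcomm
  by_contra hk1
  apply hx
  rw [Subgroup.mem_subgroupOf] at hk ⊢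
  have hk1' : (k : G) ≠ 1 := fun h => hk1 (Subtype.ext h)
  apply hC (k : G) hk hk1'
  rw [Subgroup.mem_centralizer_iff]
  intro h hh
  rw [Set.mem_singleton_iff] at hh
  subst hh
  have := congrArg Subtype.val hcomm
  simpa using this.symm

/-- A generalized character is a class function. -/
theorem isClassFunction_of_isGeneralizedCharacter {θ : G → ℂ}
    (h : IsGeneralizedCharacter G θ) : IsClassFunction G θ := by
  obtain ⟨Φ, Ψ, hΦ, hΨ, rfl⟩ := h
  exact isClassFunction_sub (isClassFunction_of_isCharacter hΦ) (isClassFunction_of_isCharacter hΨ)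

variable [Fintype G]

/-- Linearity of an isometry on differences of integer multiples. -/
theorem isometry_sub_smul {L : Type*} [Group L] [Fintype L] {S : Set (L → ℂ)}
    {st : (L → ℂ) → (G → ℂ)} (hst : IsLinearIsometryOn (zspan S) st) {a b : L → ℂ}
    (ha : a ∈ zspan S) (hb : b ∈ zspan S) (m n : ℤ) :
    st (m • a - n • b) = m • st a - n • st b := by
  obtain ⟨hadd, hsmul, -, -⟩ := hst
  have h1 : m • a ∈ zspan S := Submodule.smul_mem _ m ha
  have h2 : (-n) • b ∈ zspan S := Submodule.smul_mem _ (-n) hb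
  have e : m • a - n • b = m • a + (-n) • b := by rw [neg_smul, sub_eq_add_neg]
  rw [e, hadd _ h1 _ h2, hsmul _ ha, hsmul _ hb, neg_smul, sub_eq_add_neg]

/-- If `ψ` is orthogonal to `st χ` for all `χ ∈ S`, it is orthogonal to `st α` for all
`α ∈ ℤ[S]`. -/
theorem isometry_orth_zspan {L : Type*} [Group L] [Fintype L] {S : Set (L → ℂ)}
    {st : (L → ℂ) → (G → ℂ)} (hst : IsLinearIsometryOn (zspan S) st) (ψ : G → ℂ)
    (h : ∀ χ ∈ S, classInner (st χ) ψ = 0) {α : L → ℂ} (hα : α ∈ zspan S) :
    classInner (st α) ψ = 0 := by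
  obtain ⟨hadd, hsmul, -, -⟩ := hst
  have h0 : (0 : L → ℂ) ∈ zspan S := Submodule.zero_mem _
  unfold zspan at hα
  induction hα using Submodule.span_induction with
  | mem χ hχ => exact h χ hχ
  | zero =>
    have := hsmul 0 h0 0
    rw [zero_smul, zero_smul] at this
    rw [this, classInner_zero_left]
  | add a b ha hb iha ihb =>
    rw [hadd a ha b hb, classInner_add_left, iha, ihb, add_zero]
  | smul n a ha iha =>
    rw [hsmul a ha n, ← Int.cast_smul_eq_zsmul ℂ, classInner_smul_left, iha, mul_zero]

variable (K : Subgroup G)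
  (hTI : ∀ g : G, g ∉ Subgroup.normalizer (K : Set G) → ∀ k ∈ K, g * k * g⁻¹ ∈ K → k = 1)
  (hC : ∀ k ∈ K, k ≠ 1 → Subgroup.centralizer ({k} : Set G) ≤ K)
  [Fintype ↥(Subgroup.normalizer (K : Set G))]
  (st : (↥(Subgroup.normalizer (K : Set G)) → ℂ) → (G → ℂ))
  (hst : IsLinearIsometryOn (zspan (relSet (K.subgroupOf (Subgroup.normalizer (K : Set G))))) st)
  (hext : ∀ α ∈ zspanOn (relSet (K.subgroupOf (Subgroup.normalizer (K : Set G))))
    ({1}ᶜ : Set ↥(Subgroup.normalizer (K : Set G))),
    st α = indFun (Subgroup.normalizer (K : Set G)) α)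

include hC hst hext in
/-- A class function of `G` orthogonal to all `st χ`, `χ ∈ S`, restricts to a class function of
`N` orthogonal to the members of `ℤ[S]` vanishing at the identity. -/
theorem orth_res (ψ : G → ℂ) (hψ : IsClassFunction G ψ)
    (h : ∀ χ ∈ relSet (K.subgroupOf (Subgroup.normalizer (K : Set G))), classInner (st χ) ψ = 0) :
    ∀ α ∈ zspanOn (relSet (K.subgroupOf (Subgroup.normalizer (K : Set G))))
      ({1}ᶜ : Set ↥(Subgroup.normalizer (K : Set G))),
      classInner α (fun n : Subgroup.normalizer (K : Set G) => ψ n) = 0 := by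
  intro α hα
  rw [← frobenius_reciprocity (Subgroup.normalizer (K : Set G)) α ψ hψ, ← hext α hα]
  exact isometry_orth_zspan hst ψ h hα.1

include hC hst hext in
/-- `st χ - χ` is orthogonal to the members of `ℤ[S]` vanishing at the identity. -/
theorem star_sub_orth (χ : ↥(Subgroup.normalizer (K : Set G)) → ℂ)
    (hχ : χ ∈ relSet (K.subgroupOf (Subgroup.normalizer (K : Set G)))) :
    ∀ α ∈ zspanOn (relSet (K.subgroupOf (Subgroup.normalizer (K : Set G))))
      ({1}ᶜ : Set ↥(Subgroup.normalizer (K : Set G))),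
      classInner α (fun n : Subgroup.normalizer (K : Set G) => st χ n - χ n) = 0 := by
  intro α hα
  have hχs : χ ∈ zspan (relSet (K.subgroupOf (Subgroup.normalizer (K : Set G)))) :=
    Submodule.subset_span hχ
  have hcf : IsClassFunction G (st χ) :=
    isClassFunction_of_isGeneralizedCharacter (hst.2.2.2 χ hχs)
  have e : (fun n : Subgroup.normalizer (K : Set G) => st χ n - χ n) =
      (fun n : Subgroup.normalizer (K : Set G) => st χ n) - χ := rfl
  rw [e, classInner_sub_right,
    ← frobenius_reciprocity (Subgroup.normalizer (K : Set G)) α (st χ) hcf, ← hext α hα,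
    hst.2.2.1 α hα.1 χ hχs, sub_self]

include hC hst hext in
/-- `st χ - χ` takes a constant integer value on `K ∖ {1}`. -/
theorem star_sub_const (χ : ↥(Subgroup.normalizer (K : Set G)) → ℂ)
    (hχ : χ ∈ relSet (K.subgroupOf (Subgroup.normalizer (K : Set G)))) :
    ∃ d : ℤ, ∀ k : Subgroup.normalizer (K : Set G), (k : G) ∈ K → k ≠ 1 →
      st χ k - χ k = d := by
  classical
  have hfpf := normalizer_fpf K hC
  haveI : Fintype (K.subgroupOf (Subgroup.normalizer (K : Set G))) := Fintype.ofFinite _
  have hχs : χ ∈ zspan (relSet (K.subgroupOf (Subgroup.normalizer (K : Set G)))) :=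
    Submodule.subset_span hχ
  have hgen := hst.2.2.2 χ hχs
  have hcf : IsClassFunction G (st χ) := isClassFunction_of_isGeneralizedCharacter hgen
  have hχcf : IsClassFunction (Subgroup.normalizer (K : Set G)) χ :=
    isClassFunction_of_isCharacter (isCharacter_of_isIrrCharacter hχ.1)
  set D : Subgroup.normalizer (K : Set G) → ℂ := fun n => st χ n - χ n with hD
  have hDcf : IsClassFunction (Subgroup.normalizer (K : Set G)) D := by
    intro g h
    simp only [hD]
    have h1 := hcf (g : G) (h : G)
    have h2 := hχcf g h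
    rw [h2]
    simp only [Subgroup.coe_mul, InvMemClass.coe_inv]
    rw [h1]
  obtain ⟨s, hs, hconst⟩ := const_of_orth (K.subgroupOf (Subgroup.normalizer (K : Set G)))
    hfpf D hDcf (star_sub_orth K hC st hst hext χ hχ)
  -- integrality of the multiplicities
  have hint : ∀ τ : IrrCharacter (K.subgroupOf (Subgroup.normalizer (K : Set G))),
      ∃ z : ℤ, classInner (fun k : K.subgroupOf (Subgroup.normalizer (K : Set G)) => D k)
        (τ : _ → ℂ) = z := by
    intro τ
    obtain ⟨Φ, Ψ, hΦ, hΨ, hΦΨ⟩ := hgen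
    have hτc := isCharacter_of_isIrrCharacter τ.2
    have c1 := isCharacter_comp ((Subgroup.normalizer (K : Set G)).subtype.comp
      (K.subgroupOf (Subgroup.normalizer (K : Set G))).subtype) hΦ
    have c2 := isCharacter_comp ((Subgroup.normalizer (K : Set G)).subtype.comp
      (K.subgroupOf (Subgroup.normalizer (K : Set G))).subtype) hΨ
    have c3 := isCharacter_comp (K.subgroupOf (Subgroup.normalizer (K : Set G))).subtype
      (isCharacter_of_isIrrCharacter hχ.1)
    obtain ⟨n1, hn1⟩ := classInner_isCharacter_nat c1 hτc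
    obtain ⟨n2, hn2⟩ := classInner_isCharacter_nat c2 hτc
    obtain ⟨n3, hn3⟩ := classInner_isCharacter_nat c3 hτc
    refine ⟨(n1 : ℤ) - n2 - n3, ?_⟩
    have e : (fun k : K.subgroupOf (Subgroup.normalizer (K : Set G)) => D k) =
        (fun k => Φ (((Subgroup.normalizer (K : Set G)).subtype.comp
          (K.subgroupOf (Subgroup.normalizer (K : Set G))).subtype) k)) -
        (fun k => Ψ (((Subgroup.normalizer (K : Set G)).subtype.comp
          (K.subgroupOf (Subgroup.normalizer (K : Set G))).subtype) k)) -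
        (fun k => χ ((K.subgroupOf (Subgroup.normalizer (K : Set G))).subtype k)) := by
      funext k
      simp only [hD, hΦΨ, Pi.sub_apply, MonoidHom.coe_comp, Subgroup.coe_subtype,
        Function.comp_apply]
    rw [e, classInner_sub_left, classInner_sub_left, hn1, hn2, hn3]
    push_cast
    ring
  by_cases hnt : Nontrivial (K.subgroupOf (Subgroup.normalizer (K : Set G)))
  · obtain ⟨zs, hzs⟩ := int_of_mul_degree s (fun τ hτ => by
      obtain ⟨z, hz⟩ := hint τ
      exact ⟨z, by rw [← hs τ hτ, hz]⟩)
    obtain ⟨z1, hz1⟩ := hint (trivialIrr _)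
    refine ⟨z1 - zs, fun k hk hk1 => ?_⟩
    have := hconst ⟨k, hk⟩ (fun h => hk1 (by
      have := congrArg Subtype.val h
      exact this))
    change D k = _
    push_cast
    rw [← hz1, ← hzs]
    exact this
  · refine ⟨0, fun k hk hk1 => ?_⟩
    exfalso
    apply hnt
    refine ⟨⟨⟨k, hk⟩, 1, fun h => hk1 ?_⟩⟩
    have := congrArg Subtype.val h
    exact this

include hTI hC hst hext in
/-- The constants of `star_sub_const` are proportional to the degrees. -/
theorem star_sub_ratio (χ ξ : ↥(Subgroup.normalizer (K : Set G)) → ℂ)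
    (hχ : χ ∈ relSet (K.subgroupOf (Subgroup.normalizer (K : Set G))))
    (hξ : ξ ∈ relSet (K.subgroupOf (Subgroup.normalizer (K : Set G))))
    (k : Subgroup.normalizer (K : Set G)) (hk : (k : G) ∈ K) (hk1 : k ≠ 1) :
    ξ 1 * (st χ k - χ k) = χ 1 * (st ξ k - ξ k) := by
  classical
  have hfpf := normalizer_fpf K hC
  obtain ⟨n, -, hn⟩ := irr_one_eq_natCast (⟨χ, hχ.1⟩ : IrrCharacter _)
  obtain ⟨m, -, hm⟩ := irr_one_eq_natCast (⟨ξ, hξ.1⟩ : IrrCharacter _)
  change χ 1 = n at hn
  change ξ 1 = m at hm
  have hα := diff_mem_zspanOn (K.subgroupOf (Subgroup.normalizer (K : Set G))) hχ hξ n m hn hm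
  have h1 := hext _ hα
  rw [isometry_sub_smul hst (Submodule.subset_span hχ) (Submodule.subset_span hξ)] at h1
  have h2 := congrFun h1 (k : G)
  rw [indFun_TI (K : Set G) hTI _ (zspan_relSet_isClassFunction _ hα.1)
    (fun x hx => zspan_relSet_vanish _ hfpf hα.1 (fun hmem => hx hmem)) k hk hk1] at h2
  rw [Pi.sub_apply, Pi.sub_apply, Pi.smul_apply, Pi.smul_apply, Pi.smul_apply, Pi.smul_apply] at h2
  simp only [zsmul_eq_mul, Int.cast_natCast] at h2
  rw [hn, hm]
  linear_combination h2

end TI

end Cfsg.Agent.H5
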