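import Mathlib
import Cfsg.Agent.H60.ZD8Fusion

/-!
# Local analysis of an involution centralizer isomorphic to `D₈` (helper5)

`t` an involution of `G` with `e : C_G(t) ≃* DihedralGroup 4`.  We transport the structure of
`D₈` along the embedding `emb : DihedralGroup 4 →* G`: `t = emb (r 2)`, `σ = emb (r 1)` has
centralizer of order `4`, `C_G(t)` is a Sylow `2`-subgroup, and in a perfect group all involutions
are conjugate (Thompson transfer), so there are exactly four pairs of involutions with
product `σ`.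
-/

set_option autoImplicit false
set_option linter.unusedSectionVars false
set_option linter.style.haveILetI false

namespace Cfsg.Agent.H5.D8Local

open DihedralGroup

variable {G : Type*} [Group G] (t : G)
  (e : Subgroup.centralizer ({t} : Set G) ≃* DihedralGroup 4)

/-- The embedding of `D₈` as the centralizer of `t`. -/
noncomputable def emb : DihedralGroup 4 →* G :=
  (Subgroup.centralizer ({t} : Set G)).subtype.comp e.symm.toMonoidHom

theorem emb_injective : Function.Injective (emb t e) := by
  intro a b h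
  have h' : (e.symm a : G) = (e.symm b : G) := h
  exact e.symm.injective (Subtype.ext h')

theorem emb_mem (d : DihedralGroup 4) : emb t e d * t = t * emb t e d := by
  have h := (e.symm d).2
  rw [Subgroup.mem_centralizer_iff] at h
  exact (h t rfl).symm

theorem exists_emb_of_comm {x : G} (hx : x * t = t * x) : ∃ d, emb t e d = x := by
  have hmem : x ∈ Subgroup.centralizer ({t} : Set G) := by
    rw [Subgroup.mem_centralizer_iff]
    intro h hh
    rw [Set.mem_singleton_iff] at hh
    rw [hh, hx]
  refine ⟨e ⟨x, hmem⟩, ?_⟩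
  show ((e.symm (e ⟨x, hmem⟩) : Subgroup.centralizer ({t} : Set G)) : G) = x
  rw [MulEquiv.symm_apply_apply]

theorem range_emb : (emb t e).range = Subgroup.centralizer ({t} : Set G) := by
  ext x
  constructor
  · rintro ⟨d, rfl⟩
    exact (e.symm d).2
  · intro hx
    rw [Subgroup.mem_centralizer_iff] at hx
    exact exists_emb_of_comm t e (hx t rfl).symm

theorem emb_r2 (ht : orderOf t = 2) : emb t e (r 2) = t := by
  obtain ⟨d, hd⟩ := exists_emb_of_comm t e (rfl : t * t = t * t)
  have hcent : ∀ y : DihedralGroup 4, y * d = d * y := by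
    intro y
    apply emb_injective t e
    rw [map_mul, map_mul, hd]
    exact emb_mem t e y
  have hne : d ≠ 1 := by
    rintro rfl
    rw [map_one] at hd
    rw [← hd, orderOf_one] at ht
    omega
  have key : ∀ d : DihedralGroup 4, (∀ y : DihedralGroup 4, y * d = d * y) → d = 1 ∨ d = r 2 := by
    decide
  rcases key d hcent with h | h
  · exact absurd h hne
  · rw [← h, hd]

/-- The element of order four. -/
noncomputable def sig : G := emb t e (r 1)

theorem sig_mul_sig (ht : orderOf t = 2) : sig t e * sig t e = t := by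
  unfold sig
  have h2 : (r 1 : DihedralGroup 4) * r 1 = r 2 := by decide
  rw [← map_mul, h2]
  exact emb_r2 t e ht

theorem sig_pow_two (ht : orderOf t = 2) : sig t e ^ 2 = t := by
  rw [pow_two, sig_mul_sig t e ht]

theorem sig_pow_four : sig t e ^ 4 = 1 := by
  unfold sig
  rw [← map_pow]
  have : (r 1 : DihedralGroup 4) ^ 4 = 1 := by decide
  rw [this, map_one]

theorem sig_ne_one : sig t e ≠ 1 := by
  unfold sig
  intro h
  rw [← map_one (emb t e)] at h
  exact absurd (emb_injective t e h) (by decide)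

theorem sig_conj_inv : ∃ c : G, c * sig t e * c⁻¹ = sig t e ^ 3 := by
  refine ⟨emb t e (sr 0), ?_⟩
  unfold sig
  rw [← map_inv, ← map_mul, ← map_mul, ← map_pow]
  congr 1

theorem t_mul_t (ht : orderOf t = 2) : t * t = 1 := by
  rw [← pow_two, ← ht, pow_orderOf_eq_one]

theorem t_ne_one (ht : orderOf t = 2) : t ≠ 1 := by
  rintro rfl
  rw [orderOf_one] at ht
  omega

/-- Counting along the embedding. -/
theorem card_transport (P : G → Prop) (hP : ∀ x, P x → x * t = t * x) :
    Nat.card {x : G // P x} = Nat.card {d : DihedralGroup 4 // P (emb t e d)} := by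
  symm
  apply Nat.card_congr
  refine Equiv.ofBijective (fun d => ⟨emb t e d.1, d.2⟩) ⟨?_, ?_⟩
  · intro a b h
    have h' : emb t e a.1 = emb t e b.1 := by
      have := congrArg (fun z : {x : G // P x} => (z : G)) h
      exact this
    exact Subtype.ext (emb_injective t e h')
  · rintro ⟨x, hx⟩
    obtain ⟨d, rfl⟩ := exists_emb_of_comm t e (hP x hx)
    exact ⟨⟨d, hx⟩, rfl⟩

theorem comm_t_of_conj_sig (ht : orderOf t = 2) {c : G}
    (hc : c * sig t e * c⁻¹ = sig t e) : c * t = t * c := by
  have h2 : c * t * c⁻¹ = t := by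
    rw [← sig_mul_sig t e ht]
    calc c * (sig t e * sig t e) * c⁻¹ = (c * sig t e * c⁻¹) * (c * sig t e * c⁻¹) := by group
      _ = sig t e * sig t e := by rw [hc]
  calc c * t = c * t * c⁻¹ * c := by group
    _ = t * c := by rw [h2]

theorem card_centralizer_sig (ht : orderOf t = 2) :
    Nat.card {c : G // c * sig t e * c⁻¹ = sig t e} = 4 := by
  rw [card_transport t e _ (fun c hc => comm_t_of_conj_sig t e ht hc)]
  have hiff : ∀ d : DihedralGroup 4,
      emb t e d * sig t e * (emb t e d)⁻¹ = sig t e ↔ d * r 1 * d⁻¹ = r 1 := by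
    intro d
    unfold sig
    rw [← map_inv, ← map_mul, ← map_mul]
    exact (emb_injective t e).eq_iff
  rw [Nat.card_congr (Equiv.subtypeEquivRight hiff), Nat.card_eq_fintype_card]
  decide

include e in
theorem card_centralizer_t (ht : orderOf t = 2) :
    Nat.card {c : G // c * t * c⁻¹ = t} = 8 := by
  have hP : ∀ c : G, c * t * c⁻¹ = t → c * t = t * c := by
    intro c hc
    calc c * t = c * t * c⁻¹ * c := by group
      _ = t * c := by rw [hc]
  rw [card_transport t e _ hP]
  have hiff : ∀ d : DihedralGroup 4,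
      emb t e d * t * (emb t e d)⁻¹ = t ↔ d * r 2 * d⁻¹ = r 2 := by
    intro d
    have h2 := emb_r2 t e ht
    constructor
    · intro h
      apply emb_injective t e
      rw [map_mul, map_mul, map_inv, h2]
      exact h
    · intro h
      have h3 := congrArg (emb t e) h
      rw [map_mul, map_mul, map_inv, h2] at h3
      exact h3
  rw [Nat.card_congr (Equiv.subtypeEquivRight hiff), Nat.card_eq_fintype_card]
  decide

theorem card_conj_sig_one : Nat.card {c : G // c * sig t e * c⁻¹ = 1} = 0 := by
  haveI : IsEmpty {c : G // c * sig t e * c⁻¹ = 1} := by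
    refine ⟨fun ⟨c, hc⟩ => sig_ne_one t e ?_⟩
    calc sig t e = c⁻¹ * (c * sig t e * c⁻¹) * c := by group
      _ = 1 := by rw [hc]; group
  exact Nat.card_of_isEmpty

theorem card_conj_sig_t (ht : orderOf t = 2) : Nat.card {c : G // c * sig t e * c⁻¹ = t} = 0 := by
  haveI : IsEmpty {c : G // c * sig t e * c⁻¹ = t} := by
    refine ⟨fun ⟨c, hc⟩ => t_ne_one t ht ?_⟩
    have h1 : (c * sig t e * c⁻¹) * (c * sig t e * c⁻¹) = 1 := by
      rw [hc]; exact t_mul_t t ht
    have h2 : sig t e * sig t e = 1 := by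
      calc sig t e * sig t e = c⁻¹ * ((c * sig t e * c⁻¹) * (c * sig t e * c⁻¹)) * c := by group
        _ = 1 := by rw [h1]; group
    rw [← sig_mul_sig t e ht, h2]
  exact Nat.card_of_isEmpty

include e in
theorem card_centralizer (ht : orderOf t = 2) :
    Nat.card (Subgroup.centralizer ({t} : Set G)) = 8 := by
  rw [Nat.card_congr e.toEquiv, DihedralGroup.nat_card]

include e in
/-- The centralizer of `t` is a Sylow `2`-subgroup. -/
theorem exists_sylow [Finite G] (ht : orderOf t = 2) :
    ∃ P : Sylow 2 G, (P : Subgroup G) = Subgroup.centralizer ({t} : Set G) := by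
  haveI : Fact (Nat.Prime 2) := ⟨Nat.prime_two⟩
  have hD : IsPGroup 2 (Subgroup.centralizer ({t} : Set G)) :=
    IsPGroup.of_card (n := 3) (by rw [card_centralizer t e ht]; norm_num)
  obtain ⟨P, hP⟩ := hD.exists_le_sylow
  refine ⟨P, le_antisymm ?_ hP⟩
  -- the center of `P` is `⟨t⟩`
  have htP : t ∈ (P : Subgroup G) := hP (by
    rw [Subgroup.mem_centralizer_iff]; intro h hh; rw [Set.mem_singleton_iff] at hh; rw [hh])
  haveI : Nontrivial (P : Subgroup G) :=
    ⟨⟨⟨t, htP⟩, 1, fun h => t_ne_one t ht (congrArg Subtype.val h)⟩⟩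
  haveI : Nontrivial (Subgroup.center (P : Subgroup G)) := P.isPGroup'.center_nontrivial
  obtain ⟨⟨z, hz⟩, hzne⟩ := exists_ne (1 : Subgroup.center (P : Subgroup G))
  rw [Subgroup.mem_center_iff] at hz
  have hzt : (z : G) * t = t * z := by
    have := hz ⟨t, htP⟩
    exact (congrArg Subtype.val this).symm
  obtain ⟨d, hd⟩ := exists_emb_of_comm t e hzt
  have hcent : ∀ y : DihedralGroup 4, y * d = d * y := by
    intro y
    apply emb_injective t e
    rw [map_mul, map_mul, hd]
    have hy : emb t e y ∈ (P : Subgroup G) := hP (by rw [← range_emb t e]; exact ⟨y, rfl⟩)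
    exact congrArg Subtype.val (hz ⟨emb t e y, hy⟩)
  have key : ∀ d : DihedralGroup 4, (∀ y : DihedralGroup 4, y * d = d * y) → d = 1 ∨ d = r 2 := by
    decide
  have hzt' : (z : G) = t := by
    rcases key d hcent with h | h
    · exfalso
      apply hzne
      apply Subtype.ext
      apply Subtype.ext
      show (z : G) = 1
      rw [← hd, h, map_one]
    · rw [← hd, h, emb_r2 t e ht]
  intro x hx
  rw [Subgroup.mem_centralizer_iff]
  intro h hh
  rw [Set.mem_singleton_iff] at hh
  rw [hh, ← hzt']
  exact (congrArg Subtype.val (hz ⟨x, hx⟩)).symm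

/-- In a perfect group there is no normal subgroup of index two. -/
theorem no_index_two (hperf : commutator G = ⊤) (M : Subgroup G) [M.Normal] (hM : M.index = 2) :
    False := by
  haveI : Fact (Nat.Prime 2) := ⟨Nat.prime_two⟩
  have hcard : Nat.card (G ⧸ M) = 2 := hM
  haveI : IsCyclic (G ⧸ M) := isCyclic_of_prime_card hcard
  have hle : commutator G ≤ M :=
    Subgroup.Normal.quotient_commutative_iff_commutator_le.mp inferInstance
  rw [hperf, top_le_iff] at hle
  rw [hle, Subgroup.index_top] at hM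
  omega

theorem emb_eq_one_iff (d : DihedralGroup 4) : emb t e d = 1 ↔ d = 1 := by
  rw [← map_one (emb t e)]
  exact (emb_injective t e).eq_iff

include e in
/-- All involutions of a perfect group with `C(t) ≅ D₈` are conjugate to `t`. -/
theorem all_involutions_conj [Finite G] (hperf : commutator G = ⊤) (ht : orderOf t = 2)
    (u : G) (hu : orderOf u = 2) : ∃ g : G, g * u * g⁻¹ = t := by
  obtain ⟨P, hP⟩ := exists_sylow t e ht
  set Q : Subgroup G := (Subgroup.zpowers (r 1 : DihedralGroup 4)).map (emb t e) with hQ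
  have hQP : Q ≤ (P : Subgroup G) := by
    rw [hP, ← range_emb t e, MonoidHom.range_eq_map]
    exact Subgroup.map_mono le_top
  have hQi : Q.relIndex (P : Subgroup G) = 2 := by
    rw [hP, ← range_emb t e, MonoidHom.range_eq_map, hQ,
      Subgroup.relIndex_map_map_of_injective _ _ (emb_injective t e), Subgroup.relIndex_top_right]
    have h1 := Subgroup.card_mul_index (Subgroup.zpowers (r 1 : DihedralGroup 4))
    rw [Nat.card_zpowers, DihedralGroup.orderOf_r_one, DihedralGroup.nat_card] at h1
    omega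
  by_contra hcon
  push Not at hcon
  have huu : u * u = 1 := by rw [← pow_two, ← hu, pow_orderOf_eq_one]
  have hu1 : u ≠ 1 := by
    rintro rfl
    rw [orderOf_one] at hu
    omega
  have huQ : ∀ g : G, g * u * g⁻¹ ∉ Q := by
    intro g hg
    obtain ⟨d, hd, hdg⟩ := hg
    obtain ⟨k, rfl⟩ := Subgroup.mem_zpowers_iff.mp hd
    rw [DihedralGroup.r_one_zpow] at hdg
    have key : ∀ i : ZMod 4, (r i : DihedralGroup 4) * r i = 1 → (r i : DihedralGroup 4) ≠ 1 →
        (r i : DihedralGroup 4) = r 2 := by decide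
    have h1 : (r (k : ZMod 4) : DihedralGroup 4) * r (k : ZMod 4) = 1 := by
      rw [← emb_eq_one_iff t e, map_mul, hdg]
      calc g * u * g⁻¹ * (g * u * g⁻¹) = g * (u * u) * g⁻¹ := by group
        _ = 1 := by rw [huu]; group
    have h2 : (r (k : ZMod 4) : DihedralGroup 4) ≠ 1 := by
      intro h
      rw [h, map_one] at hdg
      apply hu1
      calc u = g⁻¹ * (g * u * g⁻¹) * g := by group
        _ = 1 := by rw [← hdg]; group
    rw [key _ h1 h2, emb_r2 t e ht] at hdg
    exact hcon g hdg.symm
  obtain ⟨M, hMn, hMi, -⟩ := Cfsg.Agent.H60.thompson_transfer P Q hQP hQi u hu huQ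
  exact no_index_two hperf M hMi

include e in
theorem isConj_t_iff [Finite G] (hperf : commutator G = ⊤) (ht : orderOf t = 2) (x : G) :
    IsConj t x ↔ (x * x = 1 ∧ x ≠ 1) := by
  constructor
  · intro h
    obtain ⟨c, rfl⟩ := isConj_iff.mp h
    constructor
    · calc c * t * c⁻¹ * (c * t * c⁻¹) = c * (t * t) * c⁻¹ := by group
        _ = 1 := by rw [t_mul_t t ht]; group
    · intro h1
      apply t_ne_one t ht
      calc t = c⁻¹ * (c * t * c⁻¹) * c := by group
        _ = 1 := by rw [h1]; group
  · rintro ⟨h1, h2⟩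
    have hord : orderOf x = 2 := orderOf_eq_prime (by rw [pow_two]; exact h1) h2
    obtain ⟨g, hg⟩ := all_involutions_conj t e hperf ht x hord
    exact (isConj_iff.mpr ⟨g, hg⟩).symm

/-- There are exactly four ways of writing `σ` as a product of two conjugates of `t`. -/
theorem card_pairs [Finite G] (hperf : commutator G = ⊤) (ht : orderOf t = 2) :
    Nat.card {x : G // IsConj t x ∧ IsConj t (x⁻¹ * sig t e)} = 4 := by
  have h1 : ∀ x : G, (IsConj t x ∧ IsConj t (x⁻¹ * sig t e)) ↔
      ((x * x = 1 ∧ x ≠ 1) ∧ ((x⁻¹ * sig t e) * (x⁻¹ * sig t e) = 1 ∧ x⁻¹ * sig t e ≠ 1)) := by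
    intro x
    rw [isConj_t_iff t e hperf ht, isConj_t_iff t e hperf ht]
  rw [Nat.card_congr (Equiv.subtypeEquivRight h1)]
  have hP : ∀ x : G, ((x * x = 1 ∧ x ≠ 1) ∧
      ((x⁻¹ * sig t e) * (x⁻¹ * sig t e) = 1 ∧ x⁻¹ * sig t e ≠ 1)) → x * t = t * x := by
    rintro x ⟨⟨hxx, -⟩, ⟨hs, -⟩⟩
    have hinv : x⁻¹ = x := inv_eq_of_mul_eq_one_right hxx
    rw [hinv] at hs
    have h3 : x * sig t e * x⁻¹ = (sig t e)⁻¹ := by
      rw [hinv]
      calc x * sig t e * x = (x * sig t e * (x * sig t e)) * (sig t e)⁻¹ := by group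
        _ = (sig t e)⁻¹ := by rw [hs, one_mul]
    have h4 : x * t * x⁻¹ = t := by
      have htinv : t⁻¹ = t := inv_eq_of_mul_eq_one_right (t_mul_t t ht)
      calc x * t * x⁻¹ = x * (sig t e * sig t e) * x⁻¹ := by rw [sig_mul_sig t e ht]
        _ = (x * sig t e * x⁻¹) * (x * sig t e * x⁻¹) := by group
        _ = (sig t e * sig t e)⁻¹ := by rw [h3]; group
        _ = t := by rw [sig_mul_sig t e ht, htinv]
    calc x * t = x * t * x⁻¹ * x := by group
      _ = t * x := by rw [h4]
  rw [card_transport t e _ hP]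
  have hiff : ∀ d : DihedralGroup 4,
      ((emb t e d * emb t e d = 1 ∧ emb t e d ≠ 1) ∧
        (((emb t e d)⁻¹ * sig t e) * ((emb t e d)⁻¹ * sig t e) = 1 ∧
          (emb t e d)⁻¹ * sig t e ≠ 1)) ↔
      ((d * d = 1 ∧ d ≠ 1) ∧ ((d⁻¹ * r 1) * (d⁻¹ * r 1) = 1 ∧ d⁻¹ * r 1 ≠ 1)) := by
    intro d
    unfold sig
    rw [← map_inv, ← map_mul, ← map_mul, ← map_mul]
    simp only [ne_eq, emb_eq_one_iff]
  rw [Nat.card_congr (Equiv.subtypeEquivRight hiff), Nat.card_eq_fintype_card]
  decide

end Cfsg.Agent.H5.D8Local
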