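import Mathlib

/-!
# Arithmetic for Isaacs' Theorem 7.10 (helper5)

The Diophantine system coming from the three exceptional characters of a perfect group with an
involution centralizer `D₈` forces `|G| ∈ {168, 360}`.
-/

set_option autoImplicit false
set_option linter.unusedSectionVars false
set_option linter.style.haveILetI false

namespace Cfsg.Agent.H5.D8Arith

/-- Per-character facts: `M = ±1` and `F ≡ M (mod 4)`. -/
theorem idx_facts (F : ℕ) (X M : ℤ)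
    (h : ∃ a b c : ℕ, F = a + b + 2 * c ∧ X = a - b ∧ M = a + b - 2 * c)
    (hX : X = 1 ∨ X = -1) (hF : F ≠ 1) (hM : M ^ 2 ≤ 5) :
    (M = 1 ∧ F % 4 = 1 ∧ 5 ≤ F) ∨ (M = -1 ∧ F % 4 = 3) := by
  obtain ⟨a, b, c, rfl, rfl, rfl⟩ := h
  have h1 : -2 ≤ ((a : ℤ) + b - 2 * c) := by nlinarith
  have h2 : ((a : ℤ) + b - 2 * c) ≤ 2 := by nlinarith
  omega

/-- Two positive signs, one negative: degrees `a, b, a + b + 1`. -/
theorem subA (a b g : ℕ) (ha : 3 ≤ a) (hb : 3 ≤ b) (hoa : a % 2 = 1) (hob : b % 2 = 1)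
    (hcong : ¬ (a % 4 = 1 ∧ b % 4 = 1))
    (hN : g * ((a + 1) * (b + 1) * (a + b)) = 256 * (a * b * (a + b + 1)))
    (hge : 1 + a ^ 2 + b ^ 2 + (a + b + 1) ^ 2 ≤ g) (h8 : 8 ∣ g) : g = 168 ∨ g = 360 := by
  have hpos : 0 < (a + 1) * (b + 1) := by positivity
  have h1 : g * (a + b) ≤ 256 * (a + b + 1) := by
    apply Nat.le_of_mul_le_mul_right _ hpos
    have hab : a * b ≤ (a + 1) * (b + 1) := Nat.mul_le_mul (Nat.le_succ a) (Nat.le_succ b)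
    calc g * (a + b) * ((a + 1) * (b + 1)) = g * ((a + 1) * (b + 1) * (a + b)) := by ring
      _ = 256 * (a * b * (a + b + 1)) := hN
      _ = 256 * (a + b + 1) * (a * b) := by ring
      _ ≤ 256 * (a + b + 1) * ((a + 1) * (b + 1)) := Nat.mul_le_mul_left _ hab
  have h2 : g ≤ 298 := by
    by_contra hcon
    have h299 : 299 ≤ g := by omega
    have h3 : 299 * (a + b) ≤ g * (a + b) := Nat.mul_le_mul_right _ h299
    omega
  have h3 : a + b ≤ 16 := by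
    by_contra hcon
    have h18 : 18 ≤ a + b + 1 := by omega
    have h324 : 18 ^ 2 ≤ (a + b + 1) ^ 2 := Nat.pow_le_pow_left h18 2
    have h0 : 0 ≤ a ^ 2 := Nat.zero_le _
    have h0' : 0 ≤ b ^ 2 := Nat.zero_le _
    linarith
  have ha' : a ≤ 13 := by omega
  have hb' : b ≤ 13 := by omega
  interval_cases a <;> interval_cases b <;> omega

/-- One positive sign, two negative: degrees `u + 1, v + 1, u + v + 1`. -/
theorem subB (u v g : ℕ) (hu : 2 ≤ u) (hv : 2 ≤ v) (hou : u % 2 = 0) (hov : v % 2 = 0)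
    (hcong : ¬ (u % 4 = 2 ∧ v % 4 = 2))
    (hN : g * ((u + v + 2) * u * v) = 256 * ((u + v + 1) * (u + 1) * (v + 1)))
    (hge : 1 + (u + v + 1) ^ 2 + (u + 1) ^ 2 + (v + 1) ^ 2 ≤ g) (h8 : 8 ∣ g) :
    g = 168 ∨ g = 360 := by
  have hpos : 0 < u * v := by positivity
  have h9 : 4 * ((u + 1) * (v + 1)) ≤ 9 * (u * v) := by nlinarith
  have h1 : 4 * g * (u + v + 2) ≤ 2304 * (u + v + 1) := by
    apply Nat.le_of_mul_le_mul_right _ hpos
    calc 4 * g * (u + v + 2) * (u * v) = 4 * (g * ((u + v + 2) * u * v)) := by ring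
      _ = 4 * (256 * ((u + v + 1) * (u + 1) * (v + 1))) := by rw [hN]
      _ = 256 * (u + v + 1) * (4 * ((u + 1) * (v + 1))) := by ring
      _ ≤ 256 * (u + v + 1) * (9 * (u * v)) := Nat.mul_le_mul_left _ h9
      _ = 2304 * (u + v + 1) * (u * v) := by ring
  have h2 : g ≤ 575 := by
    by_contra hcon
    have h576 : 576 ≤ g := by omega
    have h3 : 576 * (u + v + 2) ≤ g * (u + v + 2) := Nat.mul_le_mul_right _ h576
    have h4 : 4 * g * (u + v + 2) = 4 * (g * (u + v + 2)) := by ring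
    omega
  have h3 : u + v ≤ 22 := by
    by_contra hcon
    have h24 : 24 ≤ u + v + 1 := by omega
    have h576 : 24 ^ 2 ≤ (u + v + 1) ^ 2 := Nat.pow_le_pow_left h24 2
    have h0 : 0 ≤ (u + 1) ^ 2 := Nat.zero_le _
    have h0' : 0 ≤ (v + 1) ^ 2 := Nat.zero_le _
    linarith
  have hu' : u ≤ 20 := by omega
  have hv' : v ≤ 20 := by omega
  interval_cases u <;> interval_cases v <;> omega

theorem one_le_sq (F : ℕ) (X M : ℤ)
    (h : ∃ a b c : ℕ, F = a + b + 2 * c ∧ X = a - b ∧ M = a + b - 2 * c)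
    (hX : X = 1 ∨ X = -1) : 1 ≤ M ^ 2 := by
  obtain ⟨a, b, c, rfl, rfl, rfl⟩ := h
  have hne : ((a : ℤ) + b - 2 * c) ≠ 0 := by omega
  rcases lt_or_gt_of_ne hne with h | h <;> nlinarith

/-- The Diophantine system of Isaacs' Theorem 7.10. -/
theorem main (g : ℕ) (F₁ F₂ F₃ : ℕ) (X₁ X₂ X₃ M₁ M₂ M₃ : ℤ)
    (h1 : ∃ a b c : ℕ, F₁ = a + b + 2 * c ∧ X₁ = a - b ∧ M₁ = a + b - 2 * c)
    (h2 : ∃ a b c : ℕ, F₂ = a + b + 2 * c ∧ X₂ = a - b ∧ M₂ = a + b - 2 * c)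
    (h3 : ∃ a b c : ℕ, F₃ = a + b + 2 * c ∧ X₃ = a - b ∧ M₃ = a + b - 2 * c)
    (hX₁ : X₁ = 1 ∨ X₁ = -1) (hX₂ : X₂ = 1 ∨ X₂ = -1) (hX₃ : X₃ = 1 ∨ X₃ = -1)
    (hF₁ : F₁ ≠ 1) (hF₂ : F₂ ≠ 1) (hF₃ : F₃ ≠ 1)
    (E1 : 1 + X₁ * F₁ + X₂ * F₂ + X₃ * F₃ = 0)
    (E2 : 1 + X₁ * M₁ + X₂ * M₂ + X₃ * M₃ = 0)
    (E3 : 1 + M₁ ^ 2 + M₂ ^ 2 + M₃ ^ 2 ≤ 8)
    (E4 : (g : ℤ) * ((F₁ : ℤ) * F₂ * F₃ + X₁ * M₁ ^ 2 * F₂ * F₃ + X₂ * M₂ ^ 2 * F₁ * F₃
        + X₃ * M₃ ^ 2 * F₁ * F₂) = 256 * ((F₁ : ℤ) * F₂ * F₃))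
    (E5 : 1 + F₁ ^ 2 + F₂ ^ 2 + F₃ ^ 2 ≤ g) (h8 : 8 ∣ g) : g = 168 ∨ g = 360 := by
  have s1 := one_le_sq F₁ X₁ M₁ h1 hX₁
  have s2 := one_le_sq F₂ X₂ M₂ h2 hX₂
  have s3 := one_le_sq F₃ X₃ M₃ h3 hX₃
  have hf1 := idx_facts F₁ X₁ M₁ h1 hX₁ hF₁ (by linarith)
  have hf2 := idx_facts F₂ X₂ M₂ h2 hX₂ hF₂ (by linarith)
  have hf3 := idx_facts F₃ X₃ M₃ h3 hX₃ hF₃ (by linarith)
  have q1 : M₁ ^ 2 = 1 := by rcases hf1 with ⟨h, -⟩ | ⟨h, -⟩ <;> rw [h] <;> norm_num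
  have q2 : M₂ ^ 2 = 1 := by rcases hf2 with ⟨h, -⟩ | ⟨h, -⟩ <;> rw [h] <;> norm_num
  have q3 : M₃ ^ 2 = 1 := by rcases hf3 with ⟨h, -⟩ | ⟨h, -⟩ <;> rw [h] <;> norm_num
  rw [q1, q2, q3] at E4
  clear h1 h2 h3 s1 s2 s3 E3 q1 q2 q3
  rcases hX₁ with rfl | rfl <;> rcases hX₂ with rfl | rfl <;> rcases hX₃ with rfl | rfl
  · -- (1,1,1)
    omega
  · -- (1,1,-1)
    have hF : F₃ = F₁ + F₂ + 1 := by omega
    subst hF
    refine subA F₁ F₂ g (by omega) (by omega) (by omega) (by omega) (by omega) ?_ E5 h8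
    have hZ : ((g * ((F₁ + 1) * (F₂ + 1) * (F₁ + F₂)) : ℕ) : ℤ)
        = ((256 * (F₁ * F₂ * (F₁ + F₂ + 1)) : ℕ) : ℤ) := by
      push_cast
      push_cast at E4
      linear_combination E4
    exact_mod_cast hZ
  · -- (1,-1,1)
    have hF : F₂ = F₁ + F₃ + 1 := by omega
    subst hF
    refine subA F₁ F₃ g (by omega) (by omega) (by omega) (by omega) (by omega) ?_ (by linarith) h8
    have hZ : ((g * ((F₁ + 1) * (F₃ + 1) * (F₁ + F₃)) : ℕ) : ℤ)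
        = ((256 * (F₁ * F₃ * (F₁ + F₃ + 1)) : ℕ) : ℤ) := by
      push_cast
      push_cast at E4
      linear_combination E4
    exact_mod_cast hZ
  · -- (1,-1,-1)
    obtain ⟨u, rfl⟩ : ∃ u, F₂ = u + 1 := ⟨F₂ - 1, by omega⟩
    obtain ⟨v, rfl⟩ : ∃ v, F₃ = v + 1 := ⟨F₃ - 1, by omega⟩
    have hF : F₁ = u + v + 1 := by omega
    subst hF
    refine subB u v g (by omega) (by omega) (by omega) (by omega) (by omega) ?_ (by linarith) h8
    have hZ : ((g * ((u + v + 2) * u * v) : ℕ) : ℤ)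
        = ((256 * ((u + v + 1) * (u + 1) * (v + 1)) : ℕ) : ℤ) := by
      push_cast
      push_cast at E4
      linear_combination E4
    exact_mod_cast hZ
  · -- (-1,1,1)
    have hF : F₁ = F₂ + F₃ + 1 := by omega
    subst hF
    refine subA F₂ F₃ g (by omega) (by omega) (by omega) (by omega) (by omega) ?_ (by linarith) h8
    have hZ : ((g * ((F₂ + 1) * (F₃ + 1) * (F₂ + F₃)) : ℕ) : ℤ)
        = ((256 * (F₂ * F₃ * (F₂ + F₃ + 1)) : ℕ) : ℤ) := by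
      push_cast
      push_cast at E4
      linear_combination E4
    exact_mod_cast hZ
  · -- (-1,1,-1)
    obtain ⟨u, rfl⟩ : ∃ u, F₁ = u + 1 := ⟨F₁ - 1, by omega⟩
    obtain ⟨v, rfl⟩ : ∃ v, F₃ = v + 1 := ⟨F₃ - 1, by omega⟩
    have hF : F₂ = u + v + 1 := by omega
    subst hF
    refine subB u v g (by omega) (by omega) (by omega) (by omega) (by omega) ?_ (by linarith) h8
    have hZ : ((g * ((u + v + 2) * u * v) : ℕ) : ℤ)
        = ((256 * ((u + v + 1) * (u + 1) * (v + 1)) : ℕ) : ℤ) := by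
      push_cast
      push_cast at E4
      linear_combination E4
    exact_mod_cast hZ
  · -- (-1,-1,1)
    obtain ⟨u, rfl⟩ : ∃ u, F₁ = u + 1 := ⟨F₁ - 1, by omega⟩
    obtain ⟨v, rfl⟩ : ∃ v, F₂ = v + 1 := ⟨F₂ - 1, by omega⟩
    have hF : F₃ = u + v + 1 := by omega
    subst hF
    refine subB u v g (by omega) (by omega) (by omega) (by omega) (by omega) ?_ (by linarith) h8
    have hZ : ((g * ((u + v + 2) * u * v) : ℕ) : ℤ)
        = ((256 * ((u + v + 1) * (u + 1) * (v + 1)) : ℕ) : ℤ) := by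
      push_cast
      push_cast at E4
      linear_combination E4
    exact_mod_cast hZ
  · -- (-1,-1,-1)
    omega

end Cfsg.Agent.H5.D8Arith
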