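import Mathlib
import Cfsg.Prelude.Def_Characters
import Cfsg.Agent.H4.CharBasic
import Cfsg.Agent.H4.IrrCount
import Cfsg.Agent.H4.PaQb
import Cfsg.Agent.H82.Irr
import Cfsg.Agent.H20.CentralChar
import Cfsg.Agent.H5.D8Local

/-!
# Characters of a perfect group with an involution centralizer `D₈` (helper5)

Character-theoretic data for Isaacs' Theorem 7.10: if `G` is perfect and `C_G(t) ≅ D₈`, there
are exactly three non-principal irreducible characters not vanishing at an element `σ` of order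
`4`; their values at `1`, `σ`, `t` satisfy the equations collected in `d8_data`.
-/

set_option autoImplicit false
set_option linter.unusedSectionVars false
set_option linter.style.haveILetI false

namespace Cfsg.Agent.H5.D8Char

open Cfsg Cfsg.Agent.H4
open scoped ComplexConjugate

universe u

section Eigen

theorem eig_four {μ : ℂ} (h : μ ^ 4 = 1) :
    μ = 1 ∨ μ = -1 ∨ μ = Complex.I ∨ μ = -Complex.I := by
  have hI : Complex.I ^ 2 = -1 := Complex.I_sq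
  have h1 : (μ - 1) * (μ + 1) * ((μ - Complex.I) * (μ + Complex.I)) = 0 := by
    linear_combination h - (μ ^ 2 - 1) * hI
  rcases mul_eq_zero.mp h1 with h2 | h2
  · rcases mul_eq_zero.mp h2 with h3 | h3
    · left; linear_combination h3
    · right; left; linear_combination h3
  · rcases mul_eq_zero.mp h2 with h3 | h3
    · right; right; left; linear_combination h3
    · right; right; right; linear_combination h3

variable {G : Type u} [Group G] [Finite G]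

/-- Values of a character on the powers of an element `σ` with `σ⁴ = 1` which is conjugate to
its inverse. -/
theorem order_four_values {χ : G → ℂ} (hχ : IsCharacter G χ) (σ : G) (h4 : σ ^ 4 = 1)
    (h3 : χ (σ ^ 3) = χ σ) :
    ∃ a b c : ℕ, χ 1 = a + b + 2 * c ∧ χ σ = a - b ∧ χ (σ ^ 2) = a + b - 2 * c := by
  classical
  obtain ⟨n, ρ, rfl⟩ := hχ
  have hI2 : Complex.I ^ 2 = -1 := Complex.I_sq
  have hI3 : Complex.I ^ 3 = -Complex.I := by rw [pow_succ, hI2]; ring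
  have hnI2 : (-Complex.I) ^ 2 = -1 := by rw [neg_sq, hI2]
  have hnI3 : (-Complex.I) ^ 3 = Complex.I := by rw [pow_succ, hnI2]; ring
  set S : Finset ℂ := {1, -1, Complex.I, -Complex.I} with hS
  have hsub : eigFinset ρ σ ⊆ S := by
    intro μ hμ
    have h := eigFinset_pow_orderOf ρ hμ
    obtain ⟨k, hk⟩ := orderOf_dvd_of_pow_eq_one h4
    have h4' : μ ^ 4 = 1 := by rw [hk, pow_mul, h, one_pow]
    rcases eig_four h4' with h | h | h | h <;> simp [hS, h]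
  have hzero : ∀ μ ∈ S, μ ∉ eigFinset ρ σ → ∀ k : ℕ, (eigMult ρ σ μ : ℂ) * μ ^ k = 0 := by
    intro μ _ hμ k
    rw [mem_eigFinset, not_not] at hμ
    have h0 : eigMult ρ σ μ = 0 := by
      unfold eigMult
      rw [hμ]
      simp
    rw [h0]; simp
  have hpow : ∀ k : ℕ, ρ.character (σ ^ k) = ∑ μ ∈ S, (eigMult ρ σ μ : ℂ) * μ ^ k := by
    intro k
    rw [character_pow ρ σ k]
    exact Finset.sum_subset hsub (fun μ hμS hμ => hzero μ hμS hμ k)
  have hn1 : (1 : ℂ) ∉ ({-1, Complex.I, -Complex.I} : Finset ℂ) := by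
    simp [Complex.ext_iff]
    norm_num
  have hn2 : (-1 : ℂ) ∉ ({Complex.I, -Complex.I} : Finset ℂ) := by
    simp [Complex.ext_iff]
  have hn3 : Complex.I ∉ ({-Complex.I} : Finset ℂ) := by
    simp [Complex.ext_iff]
    norm_num
  have hexp : ∀ k : ℕ, ρ.character (σ ^ k) =
      (eigMult ρ σ 1 : ℂ) * 1 ^ k + (eigMult ρ σ (-1) : ℂ) * (-1) ^ k +
        (eigMult ρ σ Complex.I : ℂ) * Complex.I ^ k +
        (eigMult ρ σ (-Complex.I) : ℂ) * (-Complex.I) ^ k := by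
    intro k
    rw [hpow k, hS, Finset.sum_insert hn1, Finset.sum_insert hn2, Finset.sum_insert hn3,
      Finset.sum_singleton]
    ring
  set a := eigMult ρ σ 1
  set b := eigMult ρ σ (-1)
  set c := eigMult ρ σ Complex.I
  set d := eigMult ρ σ (-Complex.I)
  have e0 := hexp 0
  have e1 := hexp 1
  have e2 := hexp 2
  have e3 := hexp 3
  rw [pow_zero] at e0
  rw [pow_one] at e1
  rw [hI3, hnI3] at e3
  rw [hI2, hnI2] at e2
  rw [e3, e1] at h3
  have hcd : ((c : ℂ) - d) * Complex.I = 0 := by linear_combination (-1 / 2 : ℂ) * h3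
  have hcd' : (d : ℂ) = c := by
    rcases mul_eq_zero.mp hcd with h | h
    · exact (sub_eq_zero.mp h).symm
    · exact absurd h Complex.I_ne_zero
  refine ⟨a, b, c, ?_, ?_, ?_⟩
  · linear_combination e0 + hcd'
  · linear_combination e1 - Complex.I * hcd'
  · linear_combination e2 - hcd'

end Eigen

section Comb

/-- Four squares summing to `4` with one of them equal to `1`. -/
theorem three_extract {ι : Type*} [Fintype ι] [DecidableEq ι] (X : ι → ℤ) (i₀ : ι)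
    (h0 : X i₀ = 1) (hsum : ∑ i, X i ^ 2 = 4) :
    ∃ i₁ i₂ i₃ : ι, i₁ ≠ i₀ ∧ i₂ ≠ i₀ ∧ i₃ ≠ i₀ ∧ i₁ ≠ i₂ ∧ i₁ ≠ i₃ ∧ i₂ ≠ i₃ ∧
      (X i₁ = 1 ∨ X i₁ = -1) ∧ (X i₂ = 1 ∨ X i₂ = -1) ∧ (X i₃ = 1 ∨ X i₃ = -1) ∧
      ∀ i, i ≠ i₀ → i ≠ i₁ → i ≠ i₂ → i ≠ i₃ → X i = 0 := by
  have hsum' : ∑ i ∈ Finset.univ.erase i₀, X i ^ 2 = 3 := by
    rw [← Finset.add_sum_erase _ _ (Finset.mem_univ i₀), h0] at hsum
    linarith
  have hle : ∀ i ∈ Finset.univ.erase i₀, X i ^ 2 ≤ 3 := by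
    intro i hi
    rw [← hsum']
    exact Finset.single_le_sum (f := fun i => X i ^ 2) (fun j _ => sq_nonneg (X j)) hi
  have hcases : ∀ i ∈ Finset.univ.erase i₀, X i = 0 ∨ X i = 1 ∨ X i = -1 := by
    intro i hi
    have h := hle i hi
    have h1 : -1 ≤ X i := by nlinarith
    have h2 : X i ≤ 1 := by nlinarith
    omega
  set T := (Finset.univ.erase i₀).filter (fun i => X i ≠ 0) with hT
  have hcard : T.card = 3 := by
    have h1 : ∑ i ∈ Finset.univ.erase i₀, X i ^ 2 = ∑ i ∈ T, X i ^ 2 := by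
      rw [hT, Finset.sum_filter]
      refine Finset.sum_congr rfl fun i _ => ?_
      by_cases h : X i = 0
      · simp [h]
      · simp [h]
    have h2 : ∑ i ∈ T, X i ^ 2 = ∑ i ∈ T, (1 : ℤ) := by
      refine Finset.sum_congr rfl fun i hi => ?_
      rw [hT, Finset.mem_filter] at hi
      rcases hcases i hi.1 with h | h | h
      · exact absurd h hi.2
      · rw [h]; norm_num
      · rw [h]; norm_num
    rw [h1, h2, Finset.sum_const, nsmul_eq_mul, mul_one] at hsum'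
    exact_mod_cast hsum'
  obtain ⟨x, y, z, hxy, hxz, hyz, hTeq⟩ := Finset.card_eq_three.mp hcard
  have hmem : ∀ i, i ∈ T ↔ (i ≠ i₀ ∧ X i ≠ 0) := by
    intro i
    rw [hT, Finset.mem_filter, Finset.mem_erase]
    simp
  have hx : x ∈ T := by rw [hTeq]; simp
  have hy : y ∈ T := by rw [hTeq]; simp
  have hz : z ∈ T := by rw [hTeq]; simp
  have hval : ∀ i, i ∈ T → (X i = 1 ∨ X i = -1) := by
    intro i hi
    have h1 := (hmem i).mp hi
    rcases hcases i (Finset.mem_erase.mpr ⟨h1.1, Finset.mem_univ i⟩) with h | h | h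
    · exact absurd h h1.2
    · exact Or.inl h
    · exact Or.inr h
  refine ⟨x, y, z, ((hmem x).mp hx).1, ((hmem y).mp hy).1, ((hmem z).mp hz).1, hxy, hxz, hyz,
    hval x hx, hval y hy, hval z hz, ?_⟩
  intro i hi0 hix hiy hiz
  by_contra hne
  have hi : i ∈ T := (hmem i).mpr ⟨hi0, hne⟩
  rw [hTeq] at hi
  simp only [Finset.mem_insert, Finset.mem_singleton] at hi
  rcases hi with h | h | h
  · exact hix h
  · exact hiy h
  · exact hiz h

theorem sum_four {ι : Type*} [Fintype ι] [DecidableEq ι] {R : Type*} [AddCommMonoid R]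
    (Ψ : ι → R) (i₀ i₁ i₂ i₃ : ι) (h10 : i₁ ≠ i₀) (h20 : i₂ ≠ i₀) (h30 : i₃ ≠ i₀)
    (h12 : i₁ ≠ i₂) (h13 : i₁ ≠ i₃) (h23 : i₂ ≠ i₃)
    (hz : ∀ i, i ≠ i₀ → i ≠ i₁ → i ≠ i₂ → i ≠ i₃ → Ψ i = 0) :
    ∑ i, Ψ i = Ψ i₀ + (Ψ i₁ + (Ψ i₂ + Ψ i₃)) := by
  have hsub : ∑ i ∈ ({i₀, i₁, i₂, i₃} : Finset ι), Ψ i = ∑ i, Ψ i := by
    apply Finset.sum_subset (Finset.subset_univ _)
    intro i _ hi
    simp only [Finset.mem_insert, Finset.mem_singleton, not_or] at hi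
    exact hz i hi.1 hi.2.1 hi.2.2.1 hi.2.2.2
  rw [← hsub, Finset.sum_insert, Finset.sum_insert, Finset.sum_insert, Finset.sum_singleton]
  · simp only [Finset.mem_singleton]; exact h23
  · simp only [Finset.mem_insert, Finset.mem_singleton, not_or]; exact ⟨h12, h13⟩
  · simp only [Finset.mem_insert, Finset.mem_singleton, not_or]
    exact ⟨h10.symm, h20.symm, h30.symm⟩

theorem sum_four_le {ι : Type*} [Fintype ι] [DecidableEq ι]
    (Ψ : ι → ℤ) (i₀ i₁ i₂ i₃ : ι) (h10 : i₁ ≠ i₀) (h20 : i₂ ≠ i₀) (h30 : i₃ ≠ i₀)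
    (h12 : i₁ ≠ i₂) (h13 : i₁ ≠ i₃) (h23 : i₂ ≠ i₃)
    (hnn : ∀ i, 0 ≤ Ψ i) :
    Ψ i₀ + (Ψ i₁ + (Ψ i₂ + Ψ i₃)) ≤ ∑ i, Ψ i := by
  have hsub : ∑ i ∈ ({i₀, i₁, i₂, i₃} : Finset ι), Ψ i ≤ ∑ i, Ψ i :=
    Finset.sum_le_sum_of_subset_of_nonneg (Finset.subset_univ _) (fun i _ _ => hnn i)
  rw [Finset.sum_insert, Finset.sum_insert, Finset.sum_insert, Finset.sum_singleton] at hsub
  · exact hsub
  · simp only [Finset.mem_singleton]; exact h23
  · simp only [Finset.mem_insert, Finset.mem_singleton, not_or]; exact ⟨h12, h13⟩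
  · simp only [Finset.mem_insert, Finset.mem_singleton, not_or]
    exact ⟨h10.symm, h20.symm, h30.symm⟩

end Comb

section ClassEq

open Cfsg.Agent.H20

variable {G : Type u} [Group G]

/-- The class-algebra constant in terms of characters. -/
theorem class_eq [Fintype G] (t σ : G) :
    ((Nat.card {x : G // IsConj t x ∧ IsConj t (x⁻¹ * σ)} : ℕ) : ℂ) =
      (Nat.card G : ℂ)⁻¹ * ∑ᶠ χ : IrrCharacter G, (χ : G → ℂ) 1 * conj ((χ : G → ℂ) σ) *
        (centralChar (χ : G → ℂ) t * centralChar (χ : G → ℂ) t) := by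
  classical
  have hz : IsCF (classSum t * classSum t) :=
    isCF_mul (classSum_mem ⊤ t).1 (classSum_mem ⊤ t).1
  have h := coeff_eq_finsum_irr hz σ
  rw [coeff_mul_fintype] at h
  have hl : ∑ x : G, (classSum t).coeff x * (classSum t).coeff (x⁻¹ * σ) =
      ((Nat.card {x : G // IsConj t x ∧ IsConj t (x⁻¹ * σ)} : ℕ) : ℂ) := by
    simp only [coeff_classSum]
    rw [Nat.card_eq_fintype_card, Fintype.card_subtype, Finset.card_filter]
    push_cast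
    refine Finset.sum_congr rfl fun x _ => ?_
    by_cases h1 : IsConj t x
    · by_cases h2 : IsConj t (x⁻¹ * σ)
      · have h12 : IsConj t x ∧ IsConj t (x⁻¹ * σ) := ⟨h1, h2⟩
        rw [if_pos h1, if_pos h2, if_pos h12, mul_one]
      · have h12 : ¬ (IsConj t x ∧ IsConj t (x⁻¹ * σ)) := fun h => h2 h.2
        rw [if_neg h2, if_neg h12, mul_zero]
    · have h12 : ¬ (IsConj t x ∧ IsConj t (x⁻¹ * σ)) := fun h => h1 h.1
      rw [if_neg h1, if_neg h12, zero_mul]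
  rw [hl] at h
  rw [h]
  congr 1
  apply finsum_congr
  intro χ
  rw [omega_mul χ (classSum_mem ⊤ t).1, omega_classSum _ (irr_isClassFunction χ)]

/-- A perfect group has no non-principal linear character. -/
theorem perfect_linear_trivial (hperf : commutator G = ⊤) (ψ : IrrCharacter G)
    (h1 : ψ.1 1 = 1) : ψ = trivialIrr G := by
  apply Subtype.ext
  funext g
  have hle := Abelianization.commutator_subset_ker (Cfsg.Agent.H82.irrLinearHom ψ h1)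
  rw [hperf, top_le_iff] at hle
  have hg : g ∈ (Cfsg.Agent.H82.irrLinearHom ψ h1).ker := by rw [hle]; exact Subgroup.mem_top g
  rw [MonoidHom.mem_ker] at hg
  have h2 := Cfsg.Agent.H82.irrLinearHom_apply ψ h1 g
  rw [hg] at h2
  change ψ.1 g = 1
  rw [← h2]; rfl

end ClassEq

section Main

attribute [local instance] fintypeIrr

open Classical in
/-- The arithmetic data of a perfect group with an involution centralizer `D₈`. -/
theorem d8_data {G : Type u} [Group G] [Finite G] (hperf : commutator G = ⊤) (t : G)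
    (ht : orderOf t = 2) (e : Subgroup.centralizer ({t} : Set G) ≃* DihedralGroup 4) :
    ∃ (F₁ F₂ F₃ : ℕ) (X₁ X₂ X₃ M₁ M₂ M₃ : ℤ),
      (∃ a b c : ℕ, F₁ = a + b + 2 * c ∧ X₁ = a - b ∧ M₁ = a + b - 2 * c) ∧
      (∃ a b c : ℕ, F₂ = a + b + 2 * c ∧ X₂ = a - b ∧ M₂ = a + b - 2 * c) ∧
      (∃ a b c : ℕ, F₃ = a + b + 2 * c ∧ X₃ = a - b ∧ M₃ = a + b - 2 * c) ∧
      (X₁ = 1 ∨ X₁ = -1) ∧ (X₂ = 1 ∨ X₂ = -1) ∧ (X₃ = 1 ∨ X₃ = -1) ∧
      F₁ ≠ 1 ∧ F₂ ≠ 1 ∧ F₃ ≠ 1 ∧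
      1 + X₁ * F₁ + X₂ * F₂ + X₃ * F₃ = 0 ∧
      1 + X₁ * M₁ + X₂ * M₂ + X₃ * M₃ = 0 ∧
      1 + M₁ ^ 2 + M₂ ^ 2 + M₃ ^ 2 ≤ 8 ∧
      (Nat.card G : ℤ) * ((F₁ : ℤ) * F₂ * F₃ + X₁ * M₁ ^ 2 * F₂ * F₃ + X₂ * M₂ ^ 2 * F₁ * F₃
        + X₃ * M₃ ^ 2 * F₁ * F₂) = 256 * ((F₁ : ℤ) * F₂ * F₃) ∧
      1 + F₁ ^ 2 + F₂ ^ 2 + F₃ ^ 2 ≤ Nat.card G ∧
      8 ∣ Nat.card G := by
  letI : Fintype G := Fintype.ofFinite G
  set σ := D8Local.sig t e with hσ
  obtain ⟨c₀, hc₀⟩ := D8Local.sig_conj_inv t e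
  have hσ2 : σ ^ 2 = t := D8Local.sig_pow_two t e ht
  have h3 : ∀ χ : IrrCharacter G, χ.1 (σ ^ 3) = χ.1 σ := fun χ => by
    rw [← hc₀]; exact irr_isClassFunction χ σ c₀
  have hval : ∀ χ : IrrCharacter G, ∃ a b c : ℕ, χ.1 1 = a + b + 2 * c ∧ χ.1 σ = a - b ∧
      χ.1 t = a + b - 2 * c := fun χ => by
    have := order_four_values (isCharacter_of_isIrrCharacter χ.2) σ
      (D8Local.sig_pow_four t e) (h3 χ)
    rwa [hσ2] at this
  choose A B C hA hB hC using hval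
  let X : IrrCharacter G → ℤ := fun χ => (A χ : ℤ) - B χ
  let M : IrrCharacter G → ℤ := fun χ => (A χ : ℤ) + B χ - 2 * C χ
  let F : IrrCharacter G → ℕ := fun χ => A χ + B χ + 2 * C χ
  have hX : ∀ χ : IrrCharacter G, χ.1 σ = ((X χ : ℤ) : ℂ) := fun χ => by
    rw [hB χ]; simp only [X]; push_cast; ring
  have hM : ∀ χ : IrrCharacter G, χ.1 t = ((M χ : ℤ) : ℂ) := fun χ => by
    rw [hC χ]; simp only [M]; push_cast; ring
  have hF : ∀ χ : IrrCharacter G, χ.1 1 = ((F χ : ℕ) : ℂ) := fun χ => by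
    rw [hA χ]; simp only [F]; push_cast; ring
  set χ₀ := trivialIrr G with hχ₀
  have h0 : ∀ g : G, χ₀.1 g = 1 := fun g => rfl
  have hX0 : X χ₀ = 1 := by
    have := hX χ₀; rw [h0] at this; exact_mod_cast this.symm
  have hM0 : M χ₀ = 1 := by
    have := hM χ₀; rw [h0] at this; exact_mod_cast this.symm
  have hF0 : F χ₀ = 1 := by
    have := hF χ₀; rw [h0] at this; exact_mod_cast this.symm
  have hFpos : ∀ χ : IrrCharacter G, F χ ≠ 0 := fun χ h => by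
    have := hF χ; rw [h] at this; exact irr_one_ne_zero χ (by simpa using this)
  -- column orthogonality
  have col1 : ∑ χ : IrrCharacter G, X χ ^ 2 = 4 := by
    have h := column_orthogonality (G := G) σ σ
    rw [D8Local.card_centralizer_sig t e ht, finsum_irr_eq_sum] at h
    have h' : ((∑ χ : IrrCharacter G, X χ ^ 2 : ℤ) : ℂ) = ((4 : ℕ) : ℂ) := by
      rw [← h, Int.cast_sum]
      refine Finset.sum_congr rfl fun χ _ => ?_
      rw [hX χ, map_intCast]; push_cast; ring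
    exact_mod_cast h'
  have col2 : ∑ χ : IrrCharacter G, X χ * (F χ : ℤ) = 0 := by
    have h := column_orthogonality (G := G) σ 1
    rw [D8Local.card_conj_sig_one t e, finsum_irr_eq_sum] at h
    have h' : ((∑ χ : IrrCharacter G, X χ * (F χ : ℤ) : ℤ) : ℂ) = ((0 : ℕ) : ℂ) := by
      rw [← h, Int.cast_sum]
      refine Finset.sum_congr rfl fun χ _ => ?_
      rw [hX χ, hF χ, Complex.conj_natCast]; push_cast; ring
    exact_mod_cast h'
  have col3 : ∑ χ : IrrCharacter G, X χ * M χ = 0 := by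
    have h := column_orthogonality (G := G) σ t
    rw [D8Local.card_conj_sig_t t e ht, finsum_irr_eq_sum] at h
    have h' : ((∑ χ : IrrCharacter G, X χ * M χ : ℤ) : ℂ) = ((0 : ℕ) : ℂ) := by
      rw [← h, Int.cast_sum]
      refine Finset.sum_congr rfl fun χ _ => ?_
      rw [hX χ, hM χ, map_intCast]; push_cast; ring
    exact_mod_cast h'
  have col4 : ∑ χ : IrrCharacter G, M χ ^ 2 = 8 := by
    have h := column_orthogonality (G := G) t t
    rw [D8Local.card_centralizer_t t e ht, finsum_irr_eq_sum] at h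
    have h' : ((∑ χ : IrrCharacter G, M χ ^ 2 : ℤ) : ℂ) = ((8 : ℕ) : ℂ) := by
      rw [← h, Int.cast_sum]
      refine Finset.sum_congr rfl fun χ _ => ?_
      rw [hM χ, map_intCast]; push_cast; ring
    exact_mod_cast h'
  have col5 : ∑ χ : IrrCharacter G, ((F χ : ℤ)) ^ 2 = (Nat.card G : ℤ) := by
    have h := sum_irr_sq (G := G)
    rw [finsum_irr_eq_sum] at h
    have h' : ((∑ χ : IrrCharacter G, ((F χ : ℤ)) ^ 2 : ℤ) : ℂ) = ((Nat.card G : ℤ) : ℂ) := by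
      rw [Int.cast_natCast, ← h, Int.cast_sum]
      refine Finset.sum_congr rfl fun χ _ => ?_
      rw [hF χ]; push_cast; ring
    exact_mod_cast h'
  obtain ⟨χ₁, χ₂, χ₃, h10, h20, h30, h12, h13, h23, hv1, hv2, hv3, hz⟩ :=
    three_extract X χ₀ hX0 col1
  -- reduce sums
  have E1 := sum_four (fun χ => X χ * (F χ : ℤ)) χ₀ χ₁ χ₂ χ₃ h10 h20 h30 h12 h13 h23
    (fun χ a b c d => by rw [hz χ a b c d, zero_mul])
  rw [col2] at E1
  have E2 := sum_four (fun χ => X χ * M χ) χ₀ χ₁ χ₂ χ₃ h10 h20 h30 h12 h13 h23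
    (fun χ a b c d => by rw [hz χ a b c d, zero_mul])
  rw [col3] at E2
  have E3 := sum_four_le (fun χ => M χ ^ 2) χ₀ χ₁ χ₂ χ₃ h10 h20 h30 h12 h13 h23
    (fun χ => sq_nonneg _)
  rw [col4] at E3
  have E5 := sum_four_le (fun χ => ((F χ : ℤ)) ^ 2) χ₀ χ₁ χ₂ χ₃ h10 h20 h30 h12 h13 h23
    (fun χ => sq_nonneg _)
  rw [col5] at E5
  simp only [hX0, hM0, hF0, Nat.cast_one, one_mul, one_pow] at E1 E2 E3 E5
  -- index
  obtain ⟨idx, hidxdef⟩ : ∃ idx : ℕ, (Subgroup.centralizer ({t} : Set G)).index = idx :=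
    ⟨_, rfl⟩
  have hidx : 8 * idx = Nat.card G := by
    rw [← hidxdef, ← D8Local.card_centralizer t e ht]; exact Subgroup.card_mul_index _
  have hidx0 : (idx : ℂ) ≠ 0 := by
    intro h
    have h' : idx = 0 := by exact_mod_cast h
    rw [h'] at hidx
    have := Nat.card_pos (α := G)
    omega
  -- class equation
  have hce := class_eq t σ
  rw [D8Local.card_pairs t e hperf ht, finsum_irr_eq_sum] at hce
  have hterm : ∀ χ : IrrCharacter G, (χ : G → ℂ) 1 * conj ((χ : G → ℂ) σ) *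
        (centralChar (χ : G → ℂ) t * centralChar (χ : G → ℂ) t) =
      (X χ : ℂ) * ((idx : ℂ) ^ 2 * (M χ : ℂ) ^ 2 / (F χ : ℂ)) := by
    intro χ
    have hF0' : ((F χ : ℕ) : ℂ) ≠ 0 := by exact_mod_cast hFpos χ
    unfold centralChar
    rw [hidxdef, hF χ, hX χ, hM χ, map_intCast]
    field_simp
  rw [Finset.sum_congr rfl (fun χ _ => hterm χ)] at hce
  have E4' := sum_four (fun χ => (X χ : ℂ) * ((idx : ℂ) ^ 2 * (M χ : ℂ) ^ 2 / (F χ : ℂ)))
    χ₀ χ₁ χ₂ χ₃ h10 h20 h30 h12 h13 h23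
    (fun χ a b c d => by rw [hz χ a b c d]; simp)
  rw [E4'] at hce
  simp only [hX0, hM0, hF0] at hce
  have hg : (Nat.card G : ℂ) = 8 * (idx : ℂ) := by rw [← hidx]; push_cast; ring
  have hF1 : ((F χ₁ : ℕ) : ℂ) ≠ 0 := by exact_mod_cast hFpos χ₁
  have hF2 : ((F χ₂ : ℕ) : ℂ) ≠ 0 := by exact_mod_cast hFpos χ₂
  have hF3 : ((F χ₃ : ℕ) : ℂ) ≠ 0 := by exact_mod_cast hFpos χ₃
  have E4 : (Nat.card G : ℤ) * ((F χ₁ : ℤ) * F χ₂ * F χ₃ + X χ₁ * M χ₁ ^ 2 * F χ₂ * F χ₃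
      + X χ₂ * M χ₂ ^ 2 * F χ₁ * F χ₃ + X χ₃ * M χ₃ ^ 2 * F χ₁ * F χ₂)
      = 256 * ((F χ₁ : ℤ) * F χ₂ * F χ₃) := by
    have hC : ((Nat.card G : ℕ) : ℂ) * (((F χ₁ : ℕ) : ℂ) * (F χ₂ : ℕ) * (F χ₃ : ℕ)
        + (X χ₁ : ℂ) * (M χ₁ : ℂ) ^ 2 * (F χ₂ : ℕ) * (F χ₃ : ℕ)
        + (X χ₂ : ℂ) * (M χ₂ : ℂ) ^ 2 * (F χ₁ : ℕ) * (F χ₃ : ℕ)
        + (X χ₃ : ℂ) * (M χ₃ : ℂ) ^ 2 * (F χ₁ : ℕ) * (F χ₂ : ℕ))
        = 256 * (((F χ₁ : ℕ) : ℂ) * (F χ₂ : ℕ) * (F χ₃ : ℕ)) := by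
      have h4 : ((4 : ℕ) : ℂ) = 4 := by norm_num
      rw [h4, hg] at hce
      have hce' : (4 : ℂ) * (8 * idx) = (idx : ℂ) ^ 2 * (1 + (X χ₁ : ℂ) * (M χ₁ : ℂ) ^ 2 / (F χ₁ : ℕ)
          + (X χ₂ : ℂ) * (M χ₂ : ℂ) ^ 2 / (F χ₂ : ℕ) + (X χ₃ : ℂ) * (M χ₃ : ℂ) ^ 2 / (F χ₃ : ℕ)) := by
        rw [hce]
        push_cast
        field_simp
        ring
      have hce'' : (32 : ℂ) = (idx : ℂ) * (1 + (X χ₁ : ℂ) * (M χ₁ : ℂ) ^ 2 / (F χ₁ : ℕ)
          + (X χ₂ : ℂ) * (M χ₂ : ℂ) ^ 2 / (F χ₂ : ℕ) + (X χ₃ : ℂ) * (M χ₃ : ℂ) ^ 2 / (F χ₃ : ℕ)) := by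
        apply mul_left_cancel₀ hidx0
        linear_combination hce'
      field_simp at hce''
      rw [hg]
      linear_combination (-8 : ℂ) * hce''
    exact_mod_cast hC
  -- degrees ≠ 1
  have hdeg : ∀ χ : IrrCharacter G, χ ≠ χ₀ → F χ ≠ 1 := by
    intro χ hne h1
    apply hne
    apply perfect_linear_trivial hperf χ
    rw [hF χ, h1]; simp
  refine ⟨F χ₁, F χ₂, F χ₃, X χ₁, X χ₂, X χ₃, M χ₁, M χ₂, M χ₃, ⟨A χ₁, B χ₁, C χ₁, rfl, rfl, rfl⟩,
    ⟨A χ₂, B χ₂, C χ₂, rfl, rfl, rfl⟩, ⟨A χ₃, B χ₃, C χ₃, rfl, rfl, rfl⟩, hv1, hv2, hv3,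
    hdeg χ₁ h10, hdeg χ₂ h20, hdeg χ₃ h30, ?_, ?_, ?_, E4, ?_, ?_⟩
  · linarith
  · linarith
  · linarith
  · have h5 : (1 + (F χ₁ : ℤ) ^ 2 + (F χ₂ : ℤ) ^ 2 + (F χ₃ : ℤ) ^ 2 : ℤ) ≤ (Nat.card G : ℤ) := by
      linarith
    exact_mod_cast h5
  · exact ⟨idx, hidx.symm⟩

end Main

end Cfsg.Agent.H5.D8Char
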