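import Mathlib

set_option autoImplicit false

namespace Cfsg.Agent.H5

open Polynomial

theorem rootsOfUnity_sum_rat_iff_aux (N : ℕ) [NeZero N] (K : Type) [Field K] [Algebra ℚ K]
    [IsCyclotomicExtension {N} ℚ K] (S : Finset ℂ) (c : ℂ → ℕ)
    (hS : ∀ μ ∈ S, μ ^ N = 1) :
    (∃ q : ℚ, ∑ μ ∈ S, (c μ : ℂ) * μ = q) ↔
      ∀ m : ℕ, m.Coprime N → ∑ μ ∈ S, (c μ : ℂ) * μ ^ m = ∑ μ ∈ S, (c μ : ℂ) * μ := by
  classical
  set ζ : K := IsCyclotomicExtension.zeta N ℚ K with hζdef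
  have hζ : IsPrimitiveRoot ζ N := IsCyclotomicExtension.zeta_spec N ℚ K
  have hirr : Irreducible (cyclotomic N ℚ) := cyclotomic.irreducible_rat (NeZero.pos N)
  haveI : FiniteDimensional ℚ K := IsCyclotomicExtension.finiteDimensional {N} ℚ K
  haveI : IsGalois ℚ K := IsCyclotomicExtension.isGalois {N} ℚ K
  let φ : K →ₐ[ℚ] ℂ := IsAlgClosed.lift
  have hφinj : Function.Injective φ := φ.injective
  have hζ' : IsPrimitiveRoot (φ ζ) N := hζ.map_of_injective hφinj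
  have hk : ∀ μ : ℂ, ∃ i : ℕ, μ ∈ S → (φ ζ) ^ i = μ := by
    intro μ
    by_cases hμ : μ ∈ S
    · obtain ⟨i, -, hi⟩ := hζ'.eq_pow_of_pow_eq_one (hS μ hμ)
      exact ⟨i, fun _ => hi⟩
    · exact ⟨0, fun h => absurd h hμ⟩
  choose k hk using hk
  set x : ℕ → K := fun m => ∑ μ ∈ S, (c μ : K) * ζ ^ (k μ * m) with hx
  have hφx : ∀ m, φ (x m) = ∑ μ ∈ S, (c μ : ℂ) * μ ^ m := by
    intro m
    simp only [hx, map_sum, map_mul, map_natCast, map_pow]
    refine Finset.sum_congr rfl fun μ hμ => ?_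
    rw [pow_mul, hk μ hμ]
  have hφx1 : φ (x 1) = ∑ μ ∈ S, (c μ : ℂ) * μ := by
    rw [hφx 1]; simp
  have hσ : ∀ (σ : K ≃ₐ[ℚ] K) (m : ℕ), σ ζ = ζ ^ m → σ (x 1) = x m := by
    intro σ m hm
    simp only [hx, map_sum, map_mul, map_natCast, map_pow, hm, mul_one]
    refine Finset.sum_congr rfl fun μ _ => ?_
    rw [← pow_mul, mul_comm m]
  constructor
  · rintro ⟨q, hq⟩ m hm
    have hx1 : x 1 = algebraMap ℚ K q := by
      apply hφinj
      rw [hφx1, hq, AlgHom.commutes]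
      simp
    have hμm : IsPrimitiveRoot (ζ ^ m) N := hζ.pow_of_coprime m hm
    have h1 := hσ (IsCyclotomicExtension.fromZetaAut hμm hirr)
      m (IsCyclotomicExtension.fromZetaAut_spec hμm hirr)
    rw [hx1, AlgEquiv.commutes, ← hx1] at h1
    rw [← hφx m, ← h1, hφx1]
  · intro h
    have hfix : ∀ σ : K ≃ₐ[ℚ] K, σ (x 1) = x 1 := by
      intro σ
      have hm := hζ.autToPow_spec ℚ σ
      have hcop : ((hζ.autToPow ℚ σ : (ZMod N)ˣ) : ZMod N).val.Coprime N :=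
        ZMod.val_coe_unit_coprime _
      rw [hσ σ _ hm.symm]
      apply hφinj
      rw [hφx, h _ hcop, hφx1]
    obtain ⟨q, hq⟩ := (IsGalois.mem_range_algebraMap_iff_fixed (F := ℚ) (E := K) (x 1)).mpr hfix
    refine ⟨q, ?_⟩
    rw [← hφx1, ← hq, AlgHom.commutes]
    simp

/-- Galois conjugation of nonnegative integer combinations of `N`-th roots of unity:
such a sum is rational iff it is unchanged by raising the roots to any power prime to `N`. -/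
theorem rootsOfUnity_sum_rat_iff (N : ℕ) [NeZero N] (S : Finset ℂ) (c : ℂ → ℕ)
    (hS : ∀ μ ∈ S, μ ^ N = 1) :
    (∃ q : ℚ, ∑ μ ∈ S, (c μ : ℂ) * μ = q) ↔
      ∀ m : ℕ, m.Coprime N → ∑ μ ∈ S, (c μ : ℂ) * μ ^ m = ∑ μ ∈ S, (c μ : ℂ) * μ := by
  haveI : NeZero ((N : ℕ) : ℚ) := ⟨by exact_mod_cast NeZero.ne N⟩
  haveI : IsCyclotomicExtension {N} ℚ (CyclotomicField N ℚ) :=
    CyclotomicField.isCyclotomicExtension N ℚ
  exact rootsOfUnity_sum_rat_iff_aux N (CyclotomicField N ℚ) S c hS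

end Cfsg.Agent.H5
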