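import Mathlib
import Cfsg.Prelude.Def_Characters
import Cfsg.Agent.H79.GaloisChar
import Cfsg.Agent.H4.Induction
import Cfsg.Agent.H4.CharBasic
import Cfsg.Agent.H5.Galois
import Cfsg.Agent.Lib.Clifford

/-!
# Galois twists of (signed) characters (helper5)

* `tw k F = fun g => F (g ^ k)`; for `k` coprime to `|G|` it preserves inner products
  (`classInner_tw`), signed irreducibility (`signed_tw`) and commutes with induction (`tw_indFun`);
* `Signed F` : `F` or `-F` is an irreducible character; `signed_trichotomy`, `signed_norm`;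
* `pin` : identifying a signed irreducible inside two "three-term" relations of an orthonormal
  signed family;
* `exists_coprime_modEq` : lifting a residue coprime to `n` to one coprime to a multiple `m`;
* `character_int_of_pow_invariant` : a character value fixed by all Galois twists at `g` is an
  integer.
-/

set_option autoImplicit false
set_option linter.unusedSectionVars false
set_option linter.style.haveILetI false

namespace Cfsg.Agent.H5

open Cfsg Cfsg.Agent.H4
open scoped ComplexConjugate

universe u

section Twist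

variable {G : Type u} [Group G]

/-- The Galois twist of a function on `G` by the power map. -/
def tw (k : ℕ) (F : G → ℂ) : G → ℂ := fun g => F (g ^ k)

theorem tw_apply (k : ℕ) (F : G → ℂ) (g : G) : tw k F g = F (g ^ k) := rfl

theorem tw_sub (k : ℕ) (F F' : G → ℂ) : tw k (F - F') = tw k F - tw k F' := rfl

theorem tw_add (k : ℕ) (F F' : G → ℂ) : tw k (F + F') = tw k F + tw k F' := rfl

theorem tw_neg (k : ℕ) (F : G → ℂ) : tw k (-F) = -tw k F := rfl

theorem tw_const (k : ℕ) (c : ℂ) : tw k (fun _ : G => c) = fun _ => c := rfl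

/-- `F` is an irreducible character up to sign. -/
def Signed (F : G → ℂ) : Prop := IsIrrCharacter G F ∨ IsIrrCharacter G (-F)

variable [Fintype G]

theorem classInner_tw (k : ℕ) (hk : k.Coprime (Nat.card G)) (F F' : G → ℂ) :
    classInner (tw k F) (tw k F') = classInner F F' := by
  unfold classInner tw
  congr 1
  exact Fintype.sum_equiv (powCoprime hk.symm) _ _ (fun g => rfl)

theorem signed_tw (k : ℕ) (hk : k.Coprime (Nat.card G)) {F : G → ℂ} (hF : Signed F) :
    Signed (tw k F) := by
  rcases hF with h | h
  · left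
    exact Cfsg.Agent.H79.isIrrCharacter_comp_pow k hk h
  · right
    exact Cfsg.Agent.H79.isIrrCharacter_comp_pow k hk h

theorem signed_norm {F : G → ℂ} (hF : Signed F) : classInner F F = 1 := by
  rcases hF with h | h
  · exact irr_inner_self ⟨F, h⟩
  · have := irr_inner_self ⟨-F, h⟩
    rw [classInner_neg_left, classInner_neg_right, neg_neg] at this
    exact this

theorem signed_trichotomy {F F' : G → ℂ} (hF : Signed F) (hF' : Signed F') :
    classInner F F' = 0 ∨ F = F' ∨ F = -F' := by
  rcases hF with h | h <;> rcases hF' with h' | h'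
  · by_cases e : F = F'
    · right; left; exact e
    · left
      rw [Cfsg.Agent.Clifford.classInner_irr_irr h h', if_neg e]
  · by_cases e : F = -F'
    · right; right; exact e
    · left
      have := Cfsg.Agent.Clifford.classInner_irr_irr h h'
      rw [if_neg e, classInner_neg_right] at this
      exact neg_eq_zero.mp this
  · by_cases e : -F = F'
    · right; right
      rw [← e, neg_neg]
    · left
      have := Cfsg.Agent.Clifford.classInner_irr_irr h h'
      rw [if_neg e, classInner_neg_left] at this
      exact neg_eq_zero.mp this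
  · by_cases e : -F = -F'
    · right; left
      exact neg_injective e
    · left
      have := Cfsg.Agent.Clifford.classInner_irr_irr h h'
      rw [if_neg e, classInner_neg_left, classInner_neg_right, neg_neg] at this
      exact this

/-- Pinning down a signed irreducible `F` from two three-term relations in an orthogonal family
of signed irreducibles. -/
theorem pin {Λ : Type*} (χ : Λ → G → ℂ) (hs : ∀ ω, Signed (χ ω))
    (horth : ∀ ω ω', ω ≠ ω' → classInner (χ ω) (χ ω') = 0) (F : G → ℂ) (hF : Signed F)
    (ω₀ ω₁ ω₂ ω₃ ω₄ : Λ) (h01 : ω₀ ≠ ω₁) (h02 : ω₀ ≠ ω₂) (h13 : ω₁ ≠ ω₃) (h14 : ω₁ ≠ ω₄)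
    (h23 : ω₂ ≠ ω₃) (h24 : ω₂ ≠ ω₄)
    (e1 : classInner (χ ω₀) F + classInner (χ ω₁) F - classInner (χ ω₂) F = 1)
    (e2 : classInner (χ ω₀) F + classInner (χ ω₃) F - classInner (χ ω₄) F = 1) :
    F = χ ω₀ := by
  have huniq : ∀ ω ω', classInner (χ ω) F ≠ 0 → classInner (χ ω') F ≠ 0 → ω = ω' := by
    intro ω ω' h h'
    by_contra hne
    have h0 := horth ω ω' hne
    rcases signed_trichotomy (hs ω) hF with a | a | a
    · exact h a
    · rcases signed_trichotomy (hs ω') hF with b | b | b
      · exact h' b
      · rw [a, b, signed_norm hF] at h0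
        exact one_ne_zero h0
      · rw [a, b, classInner_neg_right, signed_norm hF] at h0
        exact one_ne_zero (neg_eq_zero.mp h0)
    · rcases signed_trichotomy (hs ω') hF with b | b | b
      · exact h' b
      · rw [a, b, classInner_neg_left, signed_norm hF] at h0
        exact one_ne_zero (neg_eq_zero.mp h0)
      · rw [a, b, classInner_neg_left, classInner_neg_right, neg_neg, signed_norm hF] at h0
        exact one_ne_zero h0
  have h0ne : classInner (χ ω₀) F ≠ 0 := by
    intro h0
    rw [h0, zero_add] at e1 e2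
    have hA : classInner (χ ω₁) F ≠ 0 ∨ classInner (χ ω₂) F ≠ 0 := by
      by_contra hcon
      push Not at hcon
      rw [hcon.1, hcon.2, sub_zero] at e1
      exact zero_ne_one e1
    have hB : classInner (χ ω₃) F ≠ 0 ∨ classInner (χ ω₄) F ≠ 0 := by
      by_contra hcon
      push Not at hcon
      rw [hcon.1, hcon.2, sub_zero] at e2
      exact zero_ne_one e2
    rcases hA with hA | hA <;> rcases hB with hB | hB
    · exact h13 (huniq _ _ hA hB)
    · exact h14 (huniq _ _ hA hB)
    · exact h23 (huniq _ _ hA hB)
    · exact h24 (huniq _ _ hA hB)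
  have h1z : classInner (χ ω₁) F = 0 := by
    by_contra h
    exact h01 (huniq _ _ h0ne h)
  have h2z : classInner (χ ω₂) F = 0 := by
    by_contra h
    exact h02 (huniq _ _ h0ne h)
  rw [h1z, h2z, add_zero, sub_zero] at e1
  rcases signed_trichotomy (hs ω₀) hF with a | a | a
  · rw [a] at e1
    exact absurd e1 zero_ne_one
  · exact a.symm
  · rw [a, classInner_neg_left, signed_norm hF] at e1
    exfalso
    norm_num at e1

/-- The Galois twist commutes with induction. -/
theorem tw_indFun (k : ℕ) (hk : k.Coprime (Nat.card G)) (W : Subgroup G) (α : W → ℂ) :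
    tw k (indFun W α) = indFun W (fun w => α (w ^ k)) := by
  funext g
  rw [tw_apply, indFun_apply, indFun_apply]
  congr 1
  refine Finset.sum_congr rfl fun x _ => ?_
  have hconj : x⁻¹ * g ^ k * x = (x⁻¹ * g * x) ^ k := by
    have := conj_pow (a := x⁻¹) (b := g) (i := k)
    rw [inv_inv] at this
    exact this.symm
  rw [hconj]
  by_cases hy : x⁻¹ * g * x ∈ W
  · rw [extendByZero_of_mem W α (pow_mem hy k), extendByZero_of_mem W _ hy]
    rfl
  · rw [extendByZero_of_not_mem W _ hy]
    apply extendByZero_of_not_mem
    intro hmem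
    apply hy
    have hcop : k.Coprime (orderOf (x⁻¹ * g * x)) :=
      Nat.Coprime.coprime_dvd_right (orderOf_dvd_natCard _) hk
    obtain ⟨m, hm⟩ := exists_pow_eq_self_of_coprime hcop
    rw [← hm]
    exact pow_mem hmem m

end Twist

/-- Lifting a residue class coprime to `n` to a number coprime to a multiple `m` of `n`. -/
theorem exists_coprime_modEq {n m : ℕ} (hm : m ≠ 0) (h : n ∣ m) (x : ℕ) (hx : x.Coprime n) :
    ∃ K : ℕ, K.Coprime m ∧ K ≡ x [MOD n] := by
  haveI : NeZero m := ⟨hm⟩
  obtain ⟨v, hv⟩ := ZMod.unitsMap_surjective h (ZMod.unitOfCoprime x hx)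
  refine ⟨(v : ZMod m).val, ZMod.val_coe_unit_coprime v, ?_⟩
  rw [← ZMod.natCast_eq_natCast_iff]
  have h1 := congrArg (fun u : (ZMod n)ˣ => (u : ZMod n)) hv
  simp only [ZMod.unitsMap_def, Units.coe_map, MonoidHom.coe_coe, ZMod.castHom_apply,
    ZMod.coe_unitOfCoprime] at h1
  rw [ZMod.natCast_val]
  exact h1

/-- A character value at `g` that is fixed by all power maps prime to the order of `g` is an
integer. -/
theorem character_int_of_pow_invariant {G : Type u} [Group G] [Finite G] {Ξ : G → ℂ}
    (hΞ : IsCharacter G Ξ) (g : G)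
    (h : ∀ j : ℕ, j.Coprime (orderOf g) → Ξ (g ^ j) = Ξ g) : ∃ n : ℤ, Ξ g = n := by
  obtain ⟨d, ρ, rfl⟩ := hΞ
  haveI : NeZero (orderOf g) := ⟨(orderOf_pos g).ne'⟩
  have hS : ∀ μ ∈ eigFinset ρ g, μ ^ orderOf g = 1 := fun μ hμ => eigFinset_pow_orderOf ρ hμ
  obtain ⟨q, hq⟩ := (rootsOfUnity_sum_rat_iff (orderOf g) (eigFinset ρ g) (eigMult ρ g) hS).mpr
    (fun j hj => by
      rw [← character_pow, ← character_eq_sum]
      exact h j hj)
  rw [← character_eq_sum] at hq
  have hint : IsIntegral ℤ (ρ.character g) := character_isIntegral ρ g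
  rw [hq] at hint
  have hqint : IsIntegral ℤ q := by
    rw [← isIntegral_algebraMap_iff (algebraMap ℚ ℂ).injective]
    simpa using hint
  obtain ⟨y, hy⟩ := IsIntegrallyClosed.isIntegral_iff.mp hqint
  refine ⟨y, ?_⟩
  rw [hq, ← hy]
  simp

end Cfsg.Agent.H5
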