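import Cfsg.Agent.S0196

set_option autoImplicit false

/-!
# Groups with Klein four Sylow 2-subgroups: classes of involutions (helper5)
-/

namespace Cfsg.Agent.H5

open scoped Pointwise

section KleinSylow

variable {G : Type*} [Group G] [Finite G] (P : Sylow 2 G)

/-- The classes of involutions. -/
abbrev InvClasses (G : Type*) [Group G] : Type _ :=
  {C : ConjClasses G // ∃ t : G, orderOf t = 2 ∧ ConjClasses.mk t = C}

/-- Two distinct non-identity elements of `P` are conjugate in `G`. -/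
def Fused : Prop :=
  ∃ x y : G, x ∈ P ∧ y ∈ P ∧ x ≠ 1 ∧ y ≠ 1 ∧ x ≠ y ∧ IsConj x y

theorem klein_mul_self (hP : IsKleinFour (P : Subgroup G)) {x : G} (hx : x ∈ P) : x * x = 1 := by
  have := IsKleinFour.mul_self (⟨x, hx⟩ : (P : Subgroup G))
  exact congrArg Subtype.val this

theorem klein_orderOf (hP : IsKleinFour (P : Subgroup G)) {x : G} (hx : x ∈ P) (hx1 : x ≠ 1) :
    orderOf x = 2 :=
  orderOf_eq_prime (by rw [sq]; exact klein_mul_self P hP hx) hx1

theorem klein_comm (hP : IsKleinFour (P : Subgroup G)) {x y : G} (hx : x ∈ P) (hy : y ∈ P) :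
    x * y = y * x := by
  have h := (IsKleinFour.isMulCommutative (G := (P : Subgroup G))).is_comm.comm ⟨x, hx⟩ ⟨y, hy⟩
  exact congrArg Subtype.val h

theorem klein_card_nonid (hP : IsKleinFour (P : Subgroup G)) :
    Nat.card ↥(((P : Subgroup G) : Set G) \ {1}) = 3 := by
  rw [Nat.card_coe_set_eq, Set.ncard_sdiff_singleton_of_mem (Subgroup.one_mem _)]
  have : (((P : Subgroup G) : Set G)).ncard = Nat.card (P : Subgroup G) := by
    rw [← Nat.card_coe_set_eq]; rfl
  rw [this, hP.card_four]

/-- every involution is conjugate into `P`. -/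
theorem exists_conj_mem_sylow {t : G} (ht : orderOf t = 2) :
    ∃ x : G, x ∈ P ∧ x ≠ 1 ∧ IsConj t x := by
  have h2 : IsPGroup 2 (Subgroup.zpowers t) := by
    apply IsPGroup.of_card (n := 1)
    rw [Nat.card_zpowers, ht, pow_one]
  obtain ⟨Q, hQ⟩ := h2.exists_le_sylow
  obtain ⟨g, rfl⟩ := MulAction.exists_smul_eq G P Q
  have ht' := hQ (Subgroup.mem_zpowers t)
  rw [Sylow.coe_subgroup_smul, Subgroup.mem_pointwise_smul_iff_inv_smul_mem] at ht'
  have h3 : g⁻¹ * t * g⁻¹⁻¹ ∈ (P : Subgroup G) := by simpa [MulAut.smul_def] using ht'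
  refine ⟨g⁻¹ * t * g⁻¹⁻¹, h3, ?_, isConj_iff.mpr ⟨g⁻¹, rfl⟩⟩
  intro h
  have : t = 1 := by
    have e : t = g * (g⁻¹ * t * g⁻¹⁻¹) * g⁻¹ := by group
    rw [e, h]; group
  rw [this, orderOf_one] at ht
  omega

/-- Burnside fusion + odd index: if two distinct nonidentity elements of `P` are conjugate, then
all nonidentity elements of `P` are conjugate. -/
theorem all_conj_of_fused (hP : IsKleinFour (P : Subgroup G)) (hF : Fused P) :
    ∀ x y : G, x ∈ P → y ∈ P → x ≠ 1 → y ≠ 1 → IsConj x y := by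
  classical
  obtain ⟨a, b, haP, hbP, ha1, hb1, hab, hconj⟩ := hF
  have : IsMulCommutative ↥(P : Subgroup G) := IsKleinFour.isMulCommutative
  let _ := Cfsg.Agent.S0196.conjAction (P : Subgroup G)
  have hsmul : ∀ (n : Subgroup.normalizer ((P : Subgroup G) : Set G))
      (x : ↥(((P : Subgroup G) : Set G) \ {1})),
      ((n • x : ↥(((P : Subgroup G) : Set G) \ {1})) : G) = (n : G) * x * (n : G)⁻¹ := fun _ _ => rfl
  -- fusion: conjugate elements of Ω are in the same orbit
  have hfus : ∀ x y : ↥(((P : Subgroup G) : Set G) \ {1}), IsConj (x : G) (y : G) →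
      y ∈ MulAction.orbit (Subgroup.normalizer ((P : Subgroup G) : Set G)) x := by
    intro x y hxy
    obtain ⟨g, hg⟩ := isConj_iff.mp hxy
    have hy' : g⁻¹⁻¹ * (x : G) * g⁻¹ ∈ P := by
      rw [inv_inv, hg]; exact y.2.1
    obtain ⟨n, hn, hn'⟩ := P.conj_eq_normalizer_conj_of_mem (x : G) g⁻¹ x.2.1 hy'
    refine ⟨⟨n⁻¹, Subgroup.inv_mem _ hn⟩, ?_⟩
    apply Subtype.ext
    simp only
    rw [hsmul]
    simp only [inv_inv]
    rw [← hn', inv_inv, hg]
  -- orbits have odd size
  have hodd : ∀ x : ↥(((P : Subgroup G) : Set G) \ {1}),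
      ¬ 2 ∣ (MulAction.orbit (Subgroup.normalizer ((P : Subgroup G) : Set G)) x).ncard := by
    intro x
    rw [← MulAction.index_stabilizer]
    have hle : (P : Subgroup G).subgroupOf (Subgroup.normalizer ((P : Subgroup G) : Set G))
        ≤ MulAction.stabilizer (Subgroup.normalizer ((P : Subgroup G) : Set G)) x := by
      intro n hn
      rw [Subgroup.mem_subgroupOf] at hn
      rw [MulAction.mem_stabilizer_iff]
      apply Subtype.ext
      rw [hsmul, klein_comm P hP hn x.2.1, mul_inv_cancel_right]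
    have h1 := Subgroup.index_dvd_of_le hle
    have h2 : ((P : Subgroup G).subgroupOf (Subgroup.normalizer ((P : Subgroup G) : Set G))).index
        ∣ (P : Subgroup G).index := Subgroup.relIndex_dvd_index_of_le Subgroup.le_normalizer
    intro h
    exact P.not_dvd_index (dvd_trans h (dvd_trans h1 h2))
  -- the orbit of a is everything
  let a' : ↥(((P : Subgroup G) : Set G) \ {1}) := ⟨a, haP, ha1⟩
  let b' : ↥(((P : Subgroup G) : Set G) \ {1}) := ⟨b, hbP, hb1⟩
  have hab' : a' ≠ b' := fun h => hab (congrArg Subtype.val h)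
  have hb_orb := hfus a' b' hconj
  have ha_orb : a' ∈ MulAction.orbit (Subgroup.normalizer ((P : Subgroup G) : Set G)) a' :=
    MulAction.mem_orbit_self a'
  have hcard3 : Nat.card ↥(((P : Subgroup G) : Set G) \ {1}) = 3 := klein_card_nonid P hP
  have hfin : Finite ↥(((P : Subgroup G) : Set G) \ {1}) := Nat.finite_of_card_ne_zero (by omega)
  have h2le : 2 ≤ (MulAction.orbit (Subgroup.normalizer ((P : Subgroup G) : Set G)) a').ncard := by
    have hsub : ({a', b'} : Set ↥(((P : Subgroup G) : Set G) \ {1}))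
        ⊆ MulAction.orbit (Subgroup.normalizer ((P : Subgroup G) : Set G)) a' := by
      intro z hz
      rcases hz with rfl | rfl
      · exact ha_orb
      · exact hb_orb
    have := Set.ncard_le_ncard hsub (Set.toFinite _)
    rwa [Set.ncard_pair hab'] at this
  have hle3 : (MulAction.orbit (Subgroup.normalizer ((P : Subgroup G) : Set G)) a').ncard ≤ 3 := by
    have := Set.ncard_le_ncard (Set.subset_univ
      (MulAction.orbit (Subgroup.normalizer ((P : Subgroup G) : Set G)) a')) (Set.toFinite _)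
    rwa [Set.ncard_univ, hcard3] at this
  have h3 : (MulAction.orbit (Subgroup.normalizer ((P : Subgroup G) : Set G)) a').ncard = 3 := by
    have := hodd a'
    omega
  have huniv : MulAction.orbit (Subgroup.normalizer ((P : Subgroup G) : Set G)) a' = Set.univ := by
    apply Set.eq_of_subset_of_ncard_le (Set.subset_univ _)
    rw [Set.ncard_univ, hcard3, h3]
  -- conclude
  have hconj_a : ∀ x : G, x ∈ P → x ≠ 1 → IsConj a x := by
    intro x hxP hx1
    have hx : (⟨x, hxP, hx1⟩ : ↥(((P : Subgroup G) : Set G) \ {1}))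
        ∈ MulAction.orbit (Subgroup.normalizer ((P : Subgroup G) : Set G)) a' := by
      rw [huniv]; exact Set.mem_univ _
    obtain ⟨n, hn⟩ := hx
    have hn' := congrArg Subtype.val hn
    simp only at hn'
    rw [hsmul] at hn'
    exact isConj_iff.mpr ⟨n, hn'⟩
  intro x y hx hy hx1 hy1
  exact (hconj_a x hx hx1).symm.trans (hconj_a y hy hy1)

theorem card_invClasses_of_fused (hP : IsKleinFour (P : Subgroup G)) (hF : Fused P) :
    Nat.card (InvClasses G) = 1 := by
  have hall := all_conj_of_fused P hP hF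
  obtain ⟨a, b, haP, hbP, ha1, hb1, hab, hconj⟩ := hF
  rw [Nat.card_eq_one_iff_unique]
  constructor
  · constructor
    rintro ⟨C, t, ht, rfl⟩ ⟨D, s, hs, rfl⟩
    apply Subtype.ext
    simp only
    rw [ConjClasses.mk_eq_mk_iff_isConj]
    obtain ⟨x, hxP, hx1, hx⟩ := exists_conj_mem_sylow P ht
    obtain ⟨y, hyP, hy1, hy⟩ := exists_conj_mem_sylow P hs
    exact (hx.trans (hall x y hxP hyP hx1 hy1)).trans hy.symm
  · exact ⟨⟨ConjClasses.mk a, a, klein_orderOf P hP haP ha1, rfl⟩⟩

theorem card_invClasses_of_not_fused (hP : IsKleinFour (P : Subgroup G)) (hF : ¬ Fused P) :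
    Nat.card (InvClasses G) = 3 := by
  rw [← klein_card_nonid P hP]
  symm
  apply Nat.card_eq_of_bijective
    (fun x : ↥(((P : Subgroup G) : Set G) \ {1}) =>
      (⟨ConjClasses.mk (x : G), (x : G), klein_orderOf P hP x.2.1 x.2.2, rfl⟩ : InvClasses G))
  constructor
  · intro x y hxy
    have h1 : ConjClasses.mk (x : G) = ConjClasses.mk (y : G) := congrArg Subtype.val hxy
    rw [ConjClasses.mk_eq_mk_iff_isConj] at h1
    by_contra hne
    exact hF ⟨x, y, x.2.1, y.2.1, x.2.2, y.2.2, fun h => hne (Subtype.ext h), h1⟩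
  · rintro ⟨C, t, ht, rfl⟩
    obtain ⟨x, hxP, hx1, hx⟩ := exists_conj_mem_sylow P ht
    refine ⟨⟨x, hxP, hx1⟩, ?_⟩
    apply Subtype.ext
    simp only
    rw [ConjClasses.mk_eq_mk_iff_isConj]
    exact hx.symm

end KleinSylow

end Cfsg.Agent.H5
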