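import Mathlib

/-!
# S1152/S1157 piece G0: move an involution with known centraliser into a given Sylow 2-subgroup
-/

set_option autoImplicit false

namespace Cfsg.Agent.H5.R2

/-- conjugation by `g` as an isomorphism between the centralisers of `g a₀ g⁻¹` and `a₀` -/
def centConj {G : Type*} [Group G] (g a₀ : G) :
    ↥(Subgroup.centralizer ({g * a₀ * g⁻¹} : Set G)) ≃* ↥(Subgroup.centralizer ({a₀} : Set G)) where
  toFun x := ⟨g⁻¹ * x.1 * g, by
    have hx := Subgroup.mem_centralizer_singleton_iff.mp x.2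
    rw [Subgroup.mem_centralizer_singleton_iff]
    calc g⁻¹ * x.1 * g * a₀ = g⁻¹ * (x.1 * (g * a₀ * g⁻¹)) * g := by group
      _ = g⁻¹ * ((g * a₀ * g⁻¹) * x.1) * g := by rw [hx]
      _ = a₀ * (g⁻¹ * x.1 * g) := by group⟩
  invFun y := ⟨g * y.1 * g⁻¹, by
    have hy := Subgroup.mem_centralizer_singleton_iff.mp y.2
    rw [Subgroup.mem_centralizer_singleton_iff]
    calc g * y.1 * g⁻¹ * (g * a₀ * g⁻¹) = g * (y.1 * a₀) * g⁻¹ := by group
      _ = g * (a₀ * y.1) * g⁻¹ := by rw [hy]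
      _ = g * a₀ * g⁻¹ * (g * y.1 * g⁻¹) := by group⟩
  left_inv x := by
    apply Subtype.ext
    show g * (g⁻¹ * x.1 * g) * g⁻¹ = x.1
    group
  right_inv y := by
    apply Subtype.ext
    show g⁻¹ * (g * y.1 * g⁻¹) * g = y.1
    group
  map_mul' x y := by
    apply Subtype.ext
    show g⁻¹ * (x.1 * y.1) * g = g⁻¹ * x.1 * g * (g⁻¹ * y.1 * g)
    group

theorem conjInv.{u, v} (G : Type u) [Group G] [Finite G] (L : Type v) [Group L] (S : Sylow 2 G)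
    (a₀ : G)
    (Φ : ↥(Subgroup.centralizer ({a₀} : Set G)) ≃* Multiplicative (ZMod 2) × L) (h1 : a₀ ≠ 1)
    (h2 : a₀ * a₀ = 1) :
    ∃ a ∈ S, a ≠ 1 ∧
      Nonempty (↥(Subgroup.centralizer ({a} : Set G)) ≃* Multiplicative (ZMod 2) × L) := by
  have : Fact (Nat.Prime 2) := ⟨Nat.prime_two⟩
  have hp : IsPGroup 2 (Subgroup.zpowers a₀) := by
    rintro ⟨x, hx⟩
    refine ⟨1, ?_⟩
    apply Subtype.ext
    obtain ⟨k, rfl⟩ := Subgroup.mem_zpowers_iff.mp hx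
    show (a₀ ^ k) ^ 2 ^ 1 = 1
    rw [pow_one, ← zpow_natCast, ← zpow_mul, mul_comm, zpow_mul, zpow_natCast, pow_two, h2,
      one_zpow]
  obtain ⟨P, hP⟩ := hp.exists_le_sylow
  obtain ⟨g, hg⟩ := MulAction.exists_smul_eq G P S
  have ha₀P : a₀ ∈ P := hP (Subgroup.mem_zpowers a₀)
  refine ⟨g * a₀ * g⁻¹, ?_, ?_, ⟨(centConj g a₀).trans Φ⟩⟩
  · rw [← hg]
    show g * a₀ * g⁻¹ ∈ ((g • P : Sylow 2 G) : Subgroup G)
    rw [Sylow.coe_subgroup_smul]
    exact ⟨a₀, ha₀P, rfl⟩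
  · intro h
    apply h1
    have : a₀ = g⁻¹ * (g * a₀ * g⁻¹) * g := by group
    rw [this, h]; group

end Cfsg.Agent.H5.R2
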