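import Mathlib
import Cfsg.Agent.H45.R2Abs

/-!
# S1152/S1157 piece G3b: the counting argument `|N(S)| = 168`
-/

set_option autoImplicit false

universe u

namespace Cfsg.Agent.H5.R2

open Subgroup

theorem count : Cfsg.Agent.H45.R2.CountStmt.{u} := by
  intro G _ _ S a hS8 hexp haS ha1 h24 hc hn
  classical
  obtain ⟨c, hcN, hca, hcfix, hc3⟩ := hc
  obtain ⟨n, hnN, hna⟩ := hn
  obtain ⟨N, hN⟩ : ∃ N : Subgroup G, N = Subgroup.normalizer ((S : Subgroup G) : Set G) :=
    ⟨_, rfl⟩
  rw [← hN] at hcN hnN h24 ⊢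
  have hmemN : ∀ m : G, m ∈ N → ∀ x : G, x ∈ S → m * x * m⁻¹ ∈ S := by
    intro m hm x hx
    rw [hN, Subgroup.mem_normalizer_iff] at hm
    exact (hm x).1 hx
  letI act : MulAction ↥N G := MulAction.compHom G ((MulAut.conj : G →* MulAut G).comp N.subtype)
  have hsmul : ∀ (m : ↥N) (x : G), m • x = (m : G) * x * (m : G)⁻¹ := fun m x => rfl
  -- orbit-stabiliser
  have horb : (MulAction.stabilizer ↥N a).index = (MulAction.orbit ↥N a).ncard :=
    MulAction.index_stabilizer ↥N a
  have hstab : MulAction.stabilizer ↥N a =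
      (N ⊓ Subgroup.centralizer ({a} : Set G)).subgroupOf N := by
    ext m
    rw [MulAction.mem_stabilizer_iff, hsmul, Subgroup.mem_subgroupOf, Subgroup.mem_inf,
      Subgroup.mem_centralizer_iff]
    constructor
    · intro h
      refine ⟨m.2, ?_⟩
      intro x hx
      rw [Set.mem_singleton_iff] at hx
      subst hx
      calc x * (m : G) = ((m : G) * x * (m : G)⁻¹) * m := by rw [h]
        _ = m * x := by group
    · rintro ⟨-, h⟩
      have := h a (Set.mem_singleton a)
      calc (m : G) * a * (m : G)⁻¹ = (a * (m : G)) * (m : G)⁻¹ := by rw [this]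
        _ = a := by group
  have hstabcard : Nat.card (MulAction.stabilizer ↥N a) = 24 := by
    rw [hstab, ← h24]
    exact Nat.card_congr (Subgroup.subgroupOfEquivOfLe inf_le_left).toEquiv
  have hNcard : Nat.card ↥N = 24 * (MulAction.orbit ↥N a).ncard := by
    rw [← horb, ← hstabcard]
    exact (Subgroup.card_mul_index _).symm
  -- the orbit lies in S \ {1}
  have hOS : MulAction.orbit ↥N a ⊆ ((S : Subgroup G) : Set G) \ {1} := by
    rintro x ⟨m, rfl⟩
    show m • a ∈ _
    rw [hsmul]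
    refine ⟨hmemN m m.2 a haS, ?_⟩
    rw [Set.mem_singleton_iff]
    intro h
    apply ha1
    have : a = (m : G)⁻¹ * ((m : G) * a * (m : G)⁻¹) * m := by group
    rw [this, h]; group
  have hSfin : (((S : Subgroup G) : Set G) \ {1}).Finite := Set.toFinite _
  have hle7 : (MulAction.orbit ↥N a).ncard ≤ 7 := by
    have h1 := Set.ncard_le_ncard hOS hSfin
    have h2 : (((S : Subgroup G) : Set G) \ {1}).ncard = 7 := by
      rw [Set.ncard_sdiff_singleton_of_mem (S : Subgroup G).one_mem]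
      have : ((S : Subgroup G) : Set G).ncard = 8 := by
        rw [← hS8]; rfl
      rw [this]
    omega
  have haO : a ∈ MulAction.orbit ↥N a := MulAction.mem_orbit_self a
  have hnaO : n * a * n⁻¹ ∈ MulAction.orbit ↥N a := ⟨⟨n, hnN⟩, rfl⟩
  have hge2 : 2 ≤ (MulAction.orbit ↥N a).ncard := by
    have hfin : (MulAction.orbit ↥N a).Finite := Set.toFinite _
    have : ({a, n * a * n⁻¹} : Set G) ⊆ MulAction.orbit ↥N a := by
      intro x hx
      rcases hx with rfl | rfl
      · exact haO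
      · exact hnaO
    have h1 := Set.ncard_le_ncard this hfin
    rw [Set.ncard_pair (Ne.symm hna)] at h1
    exact h1
  -- parity
  have hSN : (S : Subgroup G) ≤ N := by rw [hN]; exact Subgroup.le_normalizer
  have hodd : ∃ r : ℕ, r % 2 = 1 ∧ Nat.card ↥N = 8 * r := by
    refine ⟨(S : Subgroup G).relIndex N, ?_, ?_⟩
    · have h1 : (S : Subgroup G).relIndex N * N.index = (S : Subgroup G).index :=
        Subgroup.relIndex_mul_index hSN
      have h2 : ¬ 2 ∣ (S : Subgroup G).index := Sylow.not_dvd_index S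
      have h3 : ¬ 2 ∣ (S : Subgroup G).relIndex N := fun h => h2 (h1 ▸ Dvd.dvd.mul_right h _)
      omega
    · have h1 : Nat.card ((S : Subgroup G).subgroupOf N) * ((S : Subgroup G).subgroupOf N).index =
          Nat.card ↥N := Subgroup.card_mul_index _
      have h2 : Nat.card ((S : Subgroup G).subgroupOf N) = 8 := by
        rw [← hS8]
        exact Nat.card_congr (Subgroup.subgroupOfEquivOfLe hSN).toEquiv
      rw [h2] at h1
      exact h1.symm
  -- the action of c on the orbit minus a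
  have hcinj : ∀ x : G, c * x * c⁻¹ = a → x = a := by
    intro x hx
    have : x = c⁻¹ * (c * x * c⁻¹) * c := by group
    rw [this, hx, mul_assoc, ← hca]; group
  have hcO : ∀ x : G, x ∈ MulAction.orbit ↥N a → c * x * c⁻¹ ∈ MulAction.orbit ↥N a := by
    rintro x ⟨m, rfl⟩
    refine ⟨⟨c, hcN⟩ * m, ?_⟩
    show (⟨c, hcN⟩ * m : ↥N) • a = c * (m • a) * c⁻¹
    rw [mul_smul, hsmul ⟨c, hcN⟩]
  let α : Type u := {x : G // x ∈ MulAction.orbit ↥N a ∧ x ≠ a}
  letI : Fintype α := Fintype.ofFinite α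
  let f : Function.End α := fun x => ⟨c * x.1 * c⁻¹, hcO x.1 x.2.1, fun h => x.2.2 (hcinj x.1 h)⟩
  have hf3 : f ^ 3 ^ 1 = 1 := by
    rw [pow_one, pow_succ, pow_two]
    funext x
    apply Subtype.ext
    show c * (c * (c * x.1 * c⁻¹) * c⁻¹) * c⁻¹ = x.1
    have hxS : x.1 ∈ S := (hOS x.2.1).1
    have h := hc3 x.1 hxS
    calc c * (c * (c * x.1 * c⁻¹) * c⁻¹) * c⁻¹ = (c * c * c * x.1) * (c * c * c)⁻¹ := by group
      _ = (x.1 * (c * c * c)) * (c * c * c)⁻¹ := by rw [h]
      _ = x.1 := by group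
  haveI : Fact (Nat.Prime 3) := ⟨by norm_num⟩
  have hmod := Equiv.Perm.card_fixedPoints_modEq (f := f) (p := 3) (n := 1) hf3
  have hfix0 : Fintype.card ↥(Function.fixedPoints f) = 0 := by
    rw [Fintype.card_eq_zero_iff]
    refine ⟨fun ⟨x, hx⟩ => ?_⟩
    have h1 : c * x.1 * c⁻¹ = x.1 := congrArg Subtype.val hx
    have hxS : x.1 ∈ S := (hOS x.2.1).1
    rcases hcfix x.1 hxS h1 with h | h
    · exact (hOS x.2.1).2 h
    · exact x.2.2 h
  have hcardα : Fintype.card α = (MulAction.orbit ↥N a).ncard - 1 := by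
    rw [← Nat.card_eq_fintype_card]
    have : Nat.card α = (MulAction.orbit ↥N a \ {a}).ncard := by
      rw [← Nat.card_coe_set_eq]
      exact Nat.card_congr (Equiv.subtypeEquivRight (fun x => by
        simp [Set.mem_diff]))
    rw [this, Set.ncard_sdiff_singleton_of_mem haO]
  rw [hfix0, hcardα] at hmod
  have h3 : ((MulAction.orbit ↥N a).ncard - 1) % 3 = 0 := hmod
  obtain ⟨r, hr, hNr⟩ := hodd
  rw [hNcard] at hNr ⊢
  omega

end Cfsg.Agent.H5.R2
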