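import Cfsg.Agent.H45.R2Defs

/-!
# S1152/S1157 piece R0: the only involution of `H¹` is `h(-1,-1)`
-/

set_option autoImplicit false
open Cfsg Cfsg.Lie Cfsg.Agent.H22 Cfsg.Agent.H22.GEx Cfsg.Agent.H22.Ree Cfsg.Agent.H45.R2 Matrix

namespace Cfsg.Agent.H5.R2

variable {K : Type*} [Field K] [CharP K 3] {e : ℕ} (C : Ctx K e)

theorem inv : InvStmt C := by
  intro x hx hx1 hxx
  obtain ⟨t, ht, rfl⟩ := C.exists_of_mem_H1 x hx
  have e1 : (C.hh (C.τ t) t : GL chevG2.Idx K) = C.eta (Units.mk0 t ht) := by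
    rw [C.eta_apply]; rfl
  rw [e1, ← map_mul] at hxx
  have h2 : Units.mk0 t ht * Units.mk0 t ht = 1 := C.eta_injective (by rw [hxx, map_one])
  have ht2 : t * t = 1 := by
    have := congrArg Units.val h2
    simpa using this
  rcases mul_self_eq_one_iff.mp ht2 with rfl | rfl
  · exfalso
    apply hx1
    rw [map_one]
    exact C.hh_one
  · rw [map_neg, map_one]

end Cfsg.Agent.H5.R2
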