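import Mathlib
import Cfsg.Agent.H45.S8Defs0
/-!
S1158 team project (helper45), piece S8-CYCSUB: a finite cyclic subgroup has a cyclic subgroup
of each order dividing its order.
-/
set_option autoImplicit false

namespace Cfsg.Agent.H5.S8

open Cfsg.Agent.H45.S8

universe u

theorem cycSub : StCycSub.{u} := by
  intro G _ _ H hcyc d hd
  obtain ⟨g, hg⟩ := hcyc.exists_generator
  have hHz : H = Subgroup.zpowers (g : G) := by
    ext x
    constructor
    · intro hx
      obtain ⟨k, hk⟩ := Subgroup.mem_zpowers_iff.mp (hg ⟨x, hx⟩)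
      refine Subgroup.mem_zpowers_iff.mpr ⟨k, ?_⟩
      have := congrArg (fun t : H => (t : G)) hk
      simpa using this
    · intro hx
      obtain ⟨k, hk⟩ := Subgroup.mem_zpowers_iff.mp hx
      rw [← hk]
      exact H.zpow_mem g.2 k
  have hcard : Nat.card H = orderOf (g : G) := by
    rw [← orderOf_eq_card_of_forall_mem_zpowers hg, Subgroup.orderOf_coe]
  have hpos : 0 < orderOf (g : G) := orderOf_pos (g : G)
  obtain ⟨e, he⟩ := hd
  rw [hcard] at he
  have hdpos : 0 < d := by
    rcases Nat.eq_zero_or_pos d with h0 | h0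
    · rw [h0, zero_mul] at he; omega
    · exact h0
  have hepos : 0 < e := by
    rcases Nat.eq_zero_or_pos e with h0 | h0
    · rw [h0, mul_zero] at he; omega
    · exact h0
  refine ⟨Subgroup.zpowers ((g : G) ^ e), ?_, ?_, ?_⟩
  · rw [Subgroup.zpowers_le]
    exact H.pow_mem g.2 e
  · infer_instance
  · rw [Nat.card_zpowers]
    rw [orderOf_pow, he]
    have : Nat.gcd (d * e) e = e := Nat.gcd_eq_right (Dvd.intro_left d rfl)
    rw [this]
    exact Nat.mul_div_cancel d hepos

example : StCycSub.{u} := cycSub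

end Cfsg.Agent.H5.S8

#print axioms Cfsg.Agent.H5.S8.cycSub
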