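import Mathlib
import Cfsg.Agent.H45.S8Defs0
/-!
S1158 team project (helper45), piece S8-NORMEQ: for a cyclic Hall subgroup `A` of a commutative
subgroup `C` which is the centraliser of every non-trivial subgroup of `A`, the normaliser of
every non-trivial subgroup of `A` is the normaliser of `C`.
-/
set_option autoImplicit false

namespace Cfsg.Agent.H5.S8

open Cfsg.Agent.H45.S8

universe u

/-- an element of a finite subgroup has order dividing the order of the subgroup -/
theorem pow_card_of_mem {G : Type u} [Group G] (H : Subgroup G) {a : G} (ha : a ∈ H) :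
    a ^ Nat.card H = 1 := by
  have h1 : (⟨a, ha⟩ : H) ^ Nat.card H = 1 := pow_card_eq_one'
  have h2 : (((⟨a, ha⟩ : H) ^ Nat.card H : H) : G) = ((1 : H) : G) := congrArg Subtype.val h1
  rw [Subgroup.coe_pow, Subgroup.coe_one] at h2
  exact h2

/-- In a finite cyclic subgroup `A`, a subgroup `A₀ ≤ A` contains every `x ∈ A` with
`x ^ |A₀| = 1`. -/
theorem mem_of_pow_card_eq_one {G : Type u} [Group G] [Finite G] (A A₀ : Subgroup G)
    (hcyc : IsCyclic A) (hle : A₀ ≤ A) (x : G) (hx : x ∈ A) (hxn : x ^ Nat.card A₀ = 1) :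
    x ∈ A₀ := by
  classical
  have : Fintype A := Fintype.ofFinite A
  obtain ⟨n, hn⟩ : ∃ n : ℕ, n = Nat.card A₀ := ⟨_, rfl⟩
  rw [← hn] at hxn
  have hnpos : 0 < n := by rw [hn]; exact Nat.card_pos
  have hle' := IsCyclic.card_pow_eq_one_le (α := A) hnpos
  have hTS : (Finset.univ.filter (fun a : A => a ∈ A₀.subgroupOf A)) ⊆
      (Finset.univ.filter (fun a : A => a ^ n = 1)) := by
    intro a ha
    simp only [Finset.mem_filter, Finset.mem_univ, true_and] at ha ⊢
    rw [Subgroup.mem_subgroupOf] at ha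
    apply Subtype.ext
    have := pow_card_of_mem A₀ ha
    rw [← hn] at this
    simpa using this
  have hT : (Finset.univ.filter (fun a : A => a ∈ A₀.subgroupOf A)).card = n := by
    rw [hn, ← Nat.card_congr (Subgroup.subgroupOfEquivOfLe hle).toEquiv, Nat.card_eq_fintype_card,
      Fintype.card_subtype]
  have hST := Finset.eq_of_subset_of_card_le hTS (by rw [hT]; exact hle')
  have hxS : (⟨x, hx⟩ : A) ∈ (Finset.univ.filter (fun a : A => a ^ n = 1)) := by
    simp only [Finset.mem_filter, Finset.mem_univ, true_and]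
    apply Subtype.ext
    simpa using hxn
  rw [← hST] at hxS
  simp only [Finset.mem_filter, Finset.mem_univ, true_and] at hxS
  rw [Subgroup.mem_subgroupOf] at hxS
  exact hxS

theorem normEq : StNormEq.{u} := by
  intro G _ _ A C hcyc hAC hcomm hcop hcent A₀ hle hne
  -- `A` is the set of elements of `C` of order dividing `|A|`
  have hA : ∀ x ∈ C, x ^ Nat.card A = 1 → x ∈ A := by
    intro x hx hxa
    have hnorm : (A.subgroupOf C).Normal := by
      constructor
      intro n hn g
      rw [Subgroup.mem_subgroupOf] at hn ⊢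
      have h1 : ((g * n * g⁻¹ : C) : G) = (n : G) := by
        have h2 : (g : G) * (n : G) = (n : G) * (g : G) := hcomm g g.2 n n.2
        push_cast
        rw [h2, mul_assoc, mul_inv_cancel, mul_one]
      rw [h1]; exact hn
    have hidx : (A.subgroupOf C).index = Nat.card C / Nat.card A := by
      have h1 : Nat.card (A.subgroupOf C) * (A.subgroupOf C).index = Nat.card C :=
        Subgroup.card_mul_index _
      have h2 : Nat.card (A.subgroupOf C) = Nat.card A :=
        Nat.card_congr (Subgroup.subgroupOfEquivOfLe hAC).toEquiv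
      rw [h2] at h1
      rw [← h1, Nat.mul_div_cancel_left _ Nat.card_pos]
    have hmem := Subgroup.pow_index_mem (A.subgroupOf C) (⟨x, hx⟩ : C)
    rw [hidx, Subgroup.mem_subgroupOf] at hmem
    have hxi : x ^ (Nat.card C / Nat.card A) ∈ A := by simpa using hmem
    have hb := Nat.gcd_eq_gcd_ab (Nat.card A) (Nat.card C / Nat.card A)
    rw [Nat.Coprime] at hcop
    rw [hcop] at hb
    have hx1 : x = x ^ ((1 : ℕ) : ℤ) := by simp
    rw [hx1, hb, zpow_add, zpow_mul, zpow_natCast, hxa, one_zpow, one_mul, zpow_mul, zpow_natCast]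
    exact A.zpow_mem hxi _
  apply le_antisymm
  · -- `N(A₀) ≤ N(C)`
    intro g hg
    apply Subgroup.mem_normalizer_fintype
    intro c hc
    have hc' : c ∈ Subgroup.centralizer (A₀ : Set G) := by rw [hcent A₀ hle hne]; exact hc
    have hconj : g * c * g⁻¹ ∈ Subgroup.centralizer (A₀ : Set G) := by
      rw [Subgroup.mem_centralizer_iff]
      intro a ha
      have ha' : g⁻¹ * a * g ∈ A₀ := (Subgroup.mem_set_normalizer_iff''.mp hg a).mp ha
      have hcomm' := (Subgroup.mem_centralizer_iff.mp hc') _ ha'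
      calc a * (g * c * g⁻¹) = g * ((g⁻¹ * a * g) * c) * g⁻¹ := by group
        _ = g * (c * (g⁻¹ * a * g)) * g⁻¹ := by rw [hcomm']
        _ = g * c * g⁻¹ * a := by group
    rw [hcent A₀ hle hne] at hconj
    exact hconj
  · -- `N(C) ≤ N(A₀)`
    intro g hg
    apply Subgroup.mem_normalizer_fintype
    intro a ha
    have h1 : g * a * g⁻¹ ∈ C := (Subgroup.mem_set_normalizer_iff.mp hg a).mp (hAC (hle ha))
    have h2 : (g * a * g⁻¹) ^ Nat.card A = 1 := by
      rw [conj_pow, pow_card_of_mem A (hle ha), mul_one, mul_inv_cancel]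
    have h3 : g * a * g⁻¹ ∈ A := hA _ h1 h2
    have h4 : (g * a * g⁻¹) ^ Nat.card A₀ = 1 := by
      rw [conj_pow, pow_card_of_mem A₀ ha, mul_one, mul_inv_cancel]
    exact mem_of_pow_card_eq_one A A₀ hcyc hle _ h3 h4

example : StNormEq.{u} := normEq

end Cfsg.Agent.H5.S8

#print axioms Cfsg.Agent.H5.S8.normEq
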