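import Mathlib
import Cfsg.Agent.H45.S8Defs0
/-!
S1158 team project (helper45), piece S8-SUBC: a commutative self-centralising subgroup is the
centraliser of each of its non-trivial subgroups.
-/
set_option autoImplicit false

namespace Cfsg.Agent.H5.S8

open Cfsg.Agent.H45.S8

universe u

theorem subC : StSubC.{u} := by
  intro G _ A hself hcomm A₀ hle hne
  obtain ⟨z, hz, hz1⟩ : ∃ z ∈ A₀, z ≠ 1 := by
    by_contra hcon
    apply hne
    rw [eq_bot_iff]
    intro x hx
    rw [Subgroup.mem_bot]
    by_contra hx1
    exact hcon ⟨x, hx, hx1⟩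
  ext g
  constructor
  · intro hg
    rw [← hself z (hle hz) hz1]
    rw [Subgroup.mem_centralizer_iff]
    intro w hw
    rw [Set.mem_singleton_iff] at hw
    subst hw
    exact (Subgroup.mem_centralizer_iff.mp hg) w hz
  · intro hg
    rw [Subgroup.mem_centralizer_iff]
    intro w hw
    exact hcomm w (hle hw) g hg

example : StSubC.{u} := subC

end Cfsg.Agent.H5.S8

#print axioms Cfsg.Agent.H5.S8.subC
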