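import Mathlib
import Cfsg.Agent.H45.S8Defs0
import Cfsg.Agent.H5.S8NormEq
/-!
S1158 team project (helper45), piece S8-TI3: `|N(C(y)) : C(y)|` divides 6.
-/
set_option autoImplicit false

namespace Cfsg.Agent.H5.S8

open Cfsg.Agent.H45.S8

universe u

theorem ti3 : StTI3.{u} := by
  intro G _ _ M hAb hDvd hSyl hSix hTI1 hTI2 y hp hM
  have hAcyc : IsCyclic ↥(Subgroup.centralizer ({y} : Set G)) := hTI2 G M hAb hDvd hSyl y hp hM
  obtain ⟨A, hAdef⟩ : ∃ A : Subgroup G, A = Subgroup.centralizer ({y} : Set G) := ⟨_, rfl⟩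
  rw [← hAdef] at hAcyc ⊢
  have hmemA : ∀ g : G, g ∈ A ↔ g * y = y * g := by
    intro g
    rw [hAdef, Subgroup.mem_centralizer_iff]
    constructor
    · intro h
      exact (h y (Set.mem_singleton y)).symm
    · intro h w hw
      rw [Set.mem_singleton_iff] at hw
      subst hw
      exact h.symm
  have hyA : y ∈ A := (hmemA y).mpr rfl
  have hzle : Subgroup.zpowers y ≤ A := by
    rw [Subgroup.zpowers_le]; exact hyA
  -- step 1: elements of `N(A)` normalise `⟨y⟩`
  have hstep1 : ∀ g ∈ Subgroup.normalizer (A : Set G), g * y * g⁻¹ ∈ Subgroup.zpowers y := by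
    intro g hg
    have h3 : g * y * g⁻¹ ∈ A := (Subgroup.mem_set_normalizer_iff.mp hg y).mp hyA
    have h4 : (g * y * g⁻¹) ^ Nat.card (Subgroup.zpowers y) = 1 := by
      rw [conj_pow, Nat.card_zpowers, pow_orderOf_eq_one, mul_one, mul_inv_cancel]
    exact mem_of_pow_card_eq_one A (Subgroup.zpowers y) hAcyc hzle _ h3 h4
  -- step 2: sixth powers lie in `A`
  have hstep2 : ∀ g ∈ Subgroup.normalizer (A : Set G), g ^ 6 ∈ A := by
    intro g hg
    rw [hmemA]
    exact hSix y g hp hM (hstep1 g hg)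
  -- step 3: `N(A) ≤ N(⟨y⟩)`
  have hK : Subgroup.normalizer (A : Set G) ≤
      Subgroup.normalizer ((Subgroup.zpowers y : Subgroup G) : Set G) := by
    intro g hg
    apply Subgroup.mem_normalizer_fintype
    intro h hh
    obtain ⟨k, hk⟩ := Subgroup.mem_zpowers_iff.mp hh
    rw [← hk]
    have : g * y ^ k * g⁻¹ = (g * y * g⁻¹) ^ k := (conj_zpow).symm
    rw [this]
    exact (Subgroup.zpowers y).zpow_mem (hstep1 g hg) k
  -- the homomorphism `N(A) → Aut ⟨y⟩`
  obtain ⟨φ, hφ⟩ : ∃ φ : ↥(Subgroup.normalizer (A : Set G)) →* MulAut ↥(Subgroup.zpowers y),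
      φ = (Subgroup.zpowers y).normalizerMonoidHom.comp (Subgroup.inclusion hK) := ⟨_, rfl⟩
  have hker : ∀ g : ↥(Subgroup.normalizer (A : Set G)), (g : G) ∈ A → φ g = 1 := by
    intro g hg
    have : Subgroup.inclusion hK g ∈ (Subgroup.zpowers y).normalizerMonoidHom.ker := by
      rw [Subgroup.normalizerMonoidHom_ker, Subgroup.mem_subgroupOf, Subgroup.mem_centralizer_iff]
      intro h hh
      obtain ⟨k, hk⟩ := Subgroup.mem_zpowers_iff.mp hh
      rw [← hk]
      have hc : Commute (g : G) y := (hmemA _).mp hg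
      exact ((hc.zpow_right k).eq).symm
    rw [hφ, MonoidHom.comp_apply]
    exact MonoidHom.mem_ker.mp this
  have hker' : ∀ g : ↥(Subgroup.normalizer (A : Set G)), φ g = 1 → (g : G) ∈ A := by
    intro g hg
    rw [hφ, MonoidHom.comp_apply] at hg
    have h1 : Subgroup.inclusion hK g ∈ (Subgroup.zpowers y).normalizerMonoidHom.ker :=
      MonoidHom.mem_ker.mpr hg
    rw [Subgroup.normalizerMonoidHom_ker, Subgroup.mem_subgroupOf,
      Subgroup.mem_centralizer_iff] at h1
    rw [hmemA]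
    exact (h1 y (Subgroup.mem_zpowers y)).symm
  -- `Aut ⟨y⟩` is cyclic
  have hprime : Fact (Nat.card ↥(Subgroup.zpowers y)).Prime := ⟨by rw [Nat.card_zpowers]; exact hp⟩
  have hcycU : IsCyclic (ZMod (Nat.card ↥(Subgroup.zpowers y)))ˣ := inferInstance
  have hcycAut : IsCyclic (MulAut ↥(Subgroup.zpowers y)) :=
    (MulEquiv.isCyclic (IsCyclic.mulAutMulEquiv ↥(Subgroup.zpowers y))).mpr hcycU
  have hcycR : IsCyclic ↥φ.range := inferInstance
  have hrange : Nat.card ↥φ.range ∣ 6 := by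
    obtain ⟨t, ht⟩ := IsCyclic.exists_generator (α := ↥φ.range)
    rw [← orderOf_eq_card_of_forall_mem_zpowers ht]
    apply orderOf_dvd_of_pow_eq_one
    obtain ⟨g, hg⟩ := MonoidHom.mem_range.mp t.2
    apply Subtype.ext
    rw [Subgroup.coe_pow, Subgroup.coe_one, ← hg, ← map_pow]
    apply hker
    rw [Subgroup.coe_pow]
    exact hstep2 _ g.2
  have hcardK : Nat.card ↥φ.ker * Nat.card ↥φ.range =
      Nat.card ↥(Subgroup.normalizer (A : Set G)) := by
    rw [← Subgroup.index_ker]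
    exact Subgroup.card_mul_index _
  have hkerdvd : Nat.card ↥φ.ker ∣ Nat.card ↥A := by
    have h1 : Nat.card ↥(φ.ker.map (Subgroup.normalizer (A : Set G)).subtype) = Nat.card ↥φ.ker :=
      Subgroup.card_map_of_injective (Subgroup.subtype_injective _)
    rw [← h1]
    apply Subgroup.card_dvd_of_le
    intro x hx
    obtain ⟨g, hg, rfl⟩ := Subgroup.mem_map.mp hx
    exact hker' g (MonoidHom.mem_ker.mp hg)
  rw [← hcardK, mul_comm 6]
  exact Nat.mul_dvd_mul hkerdvd hrange

example : StTI3.{u} := ti3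

end Cfsg.Agent.H5.S8

#print axioms Cfsg.Agent.H5.S8.ti3
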