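import Mathlib

set_option autoImplicit false

namespace Cfsg.Agent.H5

open Polynomial

theorem rootsOfUnity_norm_int_aux (N : ℕ) [NeZero N] (K : Type) [Field K] [Algebra ℚ K]
    [IsCyclotomicExtension {N} ℚ K] (S : Finset ℂ) (c : ℂ → ℕ)
    (hS : ∀ μ ∈ S, μ ^ N = 1) :
    ∃ z : ℤ, ∏ u : (ZMod N)ˣ, (∑ μ ∈ S, (c μ : ℂ) * μ ^ (u : ZMod N).val) = z ∧
      ((∑ μ ∈ S, (c μ : ℂ) * μ) ≠ 0 → z ≠ 0) := by
  classical
  set ζ : K := IsCyclotomicExtension.zeta N ℚ K with hζdef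
  have hζ : IsPrimitiveRoot ζ N := IsCyclotomicExtension.zeta_spec N ℚ K
  have hirr : Irreducible (cyclotomic N ℚ) := cyclotomic.irreducible_rat (NeZero.pos N)
  haveI : FiniteDimensional ℚ K := IsCyclotomicExtension.finiteDimensional {N} ℚ K
  haveI : IsGalois ℚ K := IsCyclotomicExtension.isGalois {N} ℚ K
  let φ : K →ₐ[ℚ] ℂ := IsAlgClosed.lift
  have hφinj : Function.Injective φ := φ.injective
  have hζ' : IsPrimitiveRoot (φ ζ) N := hζ.map_of_injective hφinj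
  have hk : ∀ μ : ℂ, ∃ i : ℕ, μ ∈ S → (φ ζ) ^ i = μ := by
    intro μ
    by_cases hμ : μ ∈ S
    · obtain ⟨i, -, hi⟩ := hζ'.eq_pow_of_pow_eq_one (hS μ hμ)
      exact ⟨i, fun _ => hi⟩
    · exact ⟨0, fun h => absurd h hμ⟩
  choose k hk using hk
  set x : ℕ → K := fun m => ∑ μ ∈ S, (c μ : K) * ζ ^ (k μ * m) with hx
  have hφx : ∀ m, φ (x m) = ∑ μ ∈ S, (c μ : ℂ) * μ ^ m := by
    intro m
    simp only [hx, map_sum, map_mul, map_natCast, map_pow]
    refine Finset.sum_congr rfl fun μ hμ => ?_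
    rw [pow_mul, hk μ hμ]
  have hφx1 : φ (x 1) = ∑ μ ∈ S, (c μ : ℂ) * μ := by
    rw [hφx 1]; simp
  have hσ : ∀ (σ : K ≃ₐ[ℚ] K) (m : ℕ), σ ζ = ζ ^ m → σ (x 1) = x m := by
    intro σ m hm
    simp only [hx, map_sum, map_mul, map_natCast, map_pow, hm, mul_one]
    refine Finset.sum_congr rfl fun μ _ => ?_
    rw [← pow_mul, mul_comm m]
  have hint : IsIntegral ℤ (x 1) := by
    simp only [hx]
    refine IsIntegral.sum _ fun μ _ => ?_
    have h1 : IsIntegral ℤ ((c μ : ℕ) : K) := by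
      have := isIntegral_algebraMap (R := ℤ) (A := K) (x := (c μ : ℤ))
      simpa using this
    exact h1.mul ((hζ.isIntegral (NeZero.pos N)).pow _)
  have hnorm : IsIntegral ℤ (Algebra.norm ℚ (x 1)) := Algebra.isIntegral_norm ℚ hint
  obtain ⟨z, hz⟩ := IsIntegrallyClosed.isIntegral_iff.mp hnorm
  refine ⟨z, ?_, ?_⟩
  · have h1 := Algebra.norm_eq_prod_automorphisms ℚ (x 1)
    have h2 : ∏ σ : K ≃ₐ[ℚ] K, σ (x 1) = ∏ u : (ZMod N)ˣ, x (u : ZMod N).val := by
      refine Fintype.prod_equiv (IsCyclotomicExtension.autEquivPow K hirr).toEquiv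
        (fun σ => σ (x 1)) (fun u => x (u : ZMod N).val) ?_
      intro σ
      rw [hσ σ _ (hζ.autToPow_spec ℚ σ).symm]
      rfl
    have h3 := congrArg φ (h1.trans h2)
    rw [map_prod] at h3
    simp only [hφx] at h3
    rw [← h3, AlgHom.commutes, ← hz]
    simp
  · intro hne hz0
    have hx0 : x 1 ≠ 0 := by
      intro h; apply hne; rw [← hφx1, h, map_zero]
    have h4 := (Algebra.norm_ne_zero_iff (R := ℚ)).mpr hx0
    apply h4
    rw [← hz, hz0]; simp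

/-- The product over `u ∈ (ℤ/N)ˣ` of the `u`-th power-conjugates of a nonnegative integer
combination of `N`-th roots of unity is an integer, nonzero when the combination is nonzero. -/
theorem rootsOfUnity_norm_int (N : ℕ) [NeZero N] (S : Finset ℂ) (c : ℂ → ℕ)
    (hS : ∀ μ ∈ S, μ ^ N = 1) :
    ∃ z : ℤ, ∏ u : (ZMod N)ˣ, (∑ μ ∈ S, (c μ : ℂ) * μ ^ (u : ZMod N).val) = z ∧
      ((∑ μ ∈ S, (c μ : ℂ) * μ) ≠ 0 → z ≠ 0) := by
  haveI : NeZero ((N : ℕ) : ℚ) := ⟨by exact_mod_cast NeZero.ne N⟩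
  haveI : IsCyclotomicExtension {N} ℚ (CyclotomicField N ℚ) :=
    CyclotomicField.isCyclotomicExtension N ℚ
  exact rootsOfUnity_norm_int_aux N (CyclotomicField N ℚ) S c hS

/-- AM-GM in the form: nonnegative reals with product at least one have sum at least their
number. -/
theorem card_le_sum_of_one_le_prod {ι : Type*} [Fintype ι] [Nonempty ι] (a : ι → ℝ)
    (ha : ∀ i, 0 ≤ a i) (hprod : 1 ≤ ∏ i, a i) : (Fintype.card ι : ℝ) ≤ ∑ i, a i := by
  have hcard : (0 : ℝ) < Fintype.card ι := by exact_mod_cast Fintype.card_pos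
  have h := Real.geom_mean_le_arith_mean_weighted Finset.univ (fun _ : ι => (Fintype.card ι : ℝ)⁻¹) a
    (fun i _ => inv_nonneg.mpr hcard.le) (by simp [hcard.ne']) (fun i _ => ha i)
  rw [Real.finsetProd_rpow _ _ (fun i _ => ha i)] at h
  have h1 : (1 : ℝ) ≤ (∏ i, a i) ^ (Fintype.card ι : ℝ)⁻¹ :=
    Real.one_le_rpow hprod (inv_nonneg.mpr hcard.le)
  have h2 := h1.trans h
  rw [← Finset.mul_sum] at h2
  have h3 := mul_le_mul_of_nonneg_left h2 hcard.le
  rw [mul_one, ← mul_assoc, mul_inv_cancel₀ hcard.ne', one_mul] at h3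
  exact h3

end Cfsg.Agent.H5
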