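import Mathlib
import Cfsg.Agent.H10.HO.Defs2

/-! HO-HG (helper10's S2075 project): an automorphism fixing `x, z, t` also fixes the fourth
generator `n` (which normalizes `⟨z⟩`), hence is trivial. -/

set_option autoImplicit false

universe u

namespace Cfsg.Agent.H5.Ho

open Cfsg.Agent.H10.HO

theorem hg : StHG.{u} := by
  intro G _ x z t n k D hCz hnz hD hza hzat hgen β hx hz ht
  -- `β` fixes every word in `x, z, t`
  have hev : ∀ w : List ℕ, β (evS x z t w) = evS x z t w := by
    intro w
    induction w with
    | nil =>
      show β 1 = 1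
      exact map_one β
    | cons a w ih =>
      rcases a with _ | _ | _ | _ | m
      · show β (x * evS x z t w) = x * evS x z t w
        rw [map_mul, hx, ih]
      · show β (x⁻¹ * evS x z t w) = x⁻¹ * evS x z t w
        rw [map_mul, map_inv, hx, ih]
      · show β (z * evS x z t w) = z * evS x z t w
        rw [map_mul, hz, ih]
      · show β (z⁻¹ * evS x z t w) = z⁻¹ * evS x z t w
        rw [map_mul, map_inv, hz, ih]
      · show β (t * evS x z t w) = t * evS x z t w
        rw [map_mul, ht, ih]
  -- `w0 := n⁻¹ * β n` commutes with every fixed `d` whose `n`-conjugate is fixed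
  have comm : ∀ d : G, β d = d → β (n * d * n⁻¹) = n * d * n⁻¹ →
      (n⁻¹ * β n) * d = d * (n⁻¹ * β n) := by
    intro d hd hnd
    rw [map_mul, map_mul, map_inv, hd] at hnd
    calc n⁻¹ * β n * d = n⁻¹ * (β n * d * (β n)⁻¹) * β n := by group
      _ = n⁻¹ * (n * d * n⁻¹) * β n := by rw [hnd]
      _ = d * (n⁻¹ * β n) := by group
  have hcz : (n⁻¹ * β n) * z = z * (n⁻¹ * β n) := by
    apply comm z hz
    rw [hnz, map_pow, hz]
  have hcD : ∀ p ∈ D, (n⁻¹ * β n) * evS x z t p.1 = evS x z t p.1 * (n⁻¹ * β n) := by
    intro p hp
    apply comm _ (hev p.1)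
    rw [hD p hp]
    exact hev p.2
  have hw0 : n⁻¹ * β n = 1 := by
    obtain ⟨a, ha, h | h⟩ := hCz _ hcz
    · by_cases ha0 : a = 0
      · rw [h, ha0, pow_zero]
      · exfalso
        obtain ⟨p, hp, hne⟩ := hza a (Nat.pos_of_ne_zero ha0) ha
        apply hne
        have := hcD p hp
        rw [h] at this
        exact this
    · exfalso
      obtain ⟨p, hp, hne⟩ := hzat a ha
      apply hne
      have := hcD p hp
      rw [h] at this
      exact this
  have hn : β n = n := by
    have := congrArg (fun g => n * g) hw0
    simpa using this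
  have hall : ∀ g ∈ Subgroup.closure ({x, z, t, n} : Set G), β g = g := by
    intro g hg
    induction hg using Subgroup.closure_induction with
    | mem y hy =>
      rcases hy with rfl | rfl | rfl | rfl
      · exact hx
      · exact hz
      · exact ht
      · exact hn
    | one => exact map_one β
    | mul a b _ _ ha hb => rw [map_mul, ha, hb]
    | inv a _ ha => rw [map_inv, ha]
  ext g
  rw [MulAut.one_apply]
  exact hall g (by rw [hgen]; trivial)

example : StHG.{u} := hg

end Cfsg.Agent.H5.Ho

#print axioms Cfsg.Agent.H5.Ho.hg
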