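import Mathlib
import Cfsg.Agent.H95.HupDefs

/-!
# S3360-DICH (helper5, for helper95): the dichotomy for a primitive prime divisor
-/

set_option autoImplicit false

universe u w

namespace Cfsg.Agent.H5.Hup

open Cfsg.Agent.H95.Hup

theorem pCore_normal' (p : ℕ) (G : Type*) [Group G] : (Cfsg.pCore p G).Normal :=
  Subgroup.sSup_normal _ (fun _ hH => hH.1)

theorem pCore_isPGroup' (p : ℕ) (G : Type*) [Group G] : IsPGroup p (Cfsg.pCore p G) :=
  Sylow.sSup_of_normal _ (fun _ hH => hH.2) (fun _ hH => hH.1)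

/-- HUP-DICH. -/
theorem dich (hDvd : DvdStmt.{u, w}) (hOT : OTStmt.{u, w}) (hPPD : PPDStmt.{u, w})
    (hFit : FitStmt.{w}) (hOr : OrStmt.{u, w}) (hStep : StepStmt.{u, w}) : DichStmt.{u, w} := by
  intro q _ V _ _ _ _ G _ _ ρ hsolv hinj htrans n r hn hcard hr hrdvd hprim
  haveI : Fact r.Prime := ⟨hr⟩
  have hq : q.Prime := Fact.out
  have hVG : (Nat.card V - 1) ∣ Nat.card G := hDvd q ρ htrans
  rw [hcard] at hVG
  have hrG : r ∣ Nat.card G := hrdvd.trans hVG
  let R : Sylow r G := default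
  have hRne : (R : Subgroup G) ≠ ⊥ := R.ne_bot_of_dvd_card hrG
  haveI : Nontrivial (R : Subgroup G) := (Subgroup.nontrivial_iff_ne_bot _).mpr hRne
  have hRp : IsPGroup r (R : Subgroup G) := R.isPGroup'
  haveI hcn : Nontrivial (Subgroup.center (R : Subgroup G)) := hRp.center_nontrivial
  have hcp : IsPGroup r (Subgroup.center (R : Subgroup G)) := hRp.to_subgroup _
  have hrc : r ∣ Nat.card (Subgroup.center (R : Subgroup G)) := by
    obtain ⟨k, hk⟩ := (IsPGroup.iff_card).mp hcp
    have hk0 : k ≠ 0 := by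
      rintro rfl
      rw [pow_zero] at hk
      exact (Finite.one_lt_card (α := Subgroup.center (R : Subgroup G))).ne' hk
    rw [hk]
    exact dvd_pow_self r hk0
  obtain ⟨x', hx'⟩ := exists_prime_orderOf_dvd_card' r hrc
  set x : G := ((x' : (R : Subgroup G)) : G) with hxdef
  have hxord : orderOf x = r := by
    rw [hxdef, Subgroup.orderOf_coe, Subgroup.orderOf_coe]; exact hx'
  have hxR : x ∈ (R : Subgroup G) := (x' : (R : Subgroup G)).2
  have hxcent : ∀ y ∈ (R : Subgroup G), y * x = x * y := by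
    intro y hy
    have h1 := (Subgroup.mem_center_iff.mp x'.2) ⟨y, hy⟩
    have h2 := congrArg (Subtype.val) h1
    simpa using h2
  rcases hFit hsolv r x hr hxord with hcore | ⟨s, hs, hsr, u, hu, hxu⟩
  · left
    exact hOr q ρ r hr (fun y hy => (hPPD q ρ hinj n r hcard hr hrdvd hprim y hy).2) hcore
  · right
    have hsq : s ≠ q := by
      rintro rfl
      have hnd : ¬ s ∣ Nat.card V - 1 := by
        rw [hcard]
        intro hd
        have h1 : s ∣ s ^ n := dvd_pow_self s (by omega)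
        have hpos : 1 ≤ s ^ n := Nat.one_le_pow _ _ hq.pos
        have h2 : s ∣ s ^ n - (s ^ n - 1) := Nat.dvd_sub h1 hd
        have h3 : s ^ n - (s ^ n - 1) = 1 := by omega
        rw [h3] at h2
        exact hq.one_lt.ne' (Nat.dvd_one.mp h2)
      have hbot := hOT s ρ hinj htrans s hq hnd (Cfsg.pCore s G) (pCore_normal' s G)
        (pCore_isPGroup' s G)
      rw [hbot, Subgroup.mem_bot] at hu
      apply hxu
      rw [hu, mul_one, one_mul]
    have hSn : (Cfsg.pCore s G).Normal := pCore_normal' s G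
    obtain ⟨h1, h2, h3, h4⟩ := hStep q ρ hinj n r s hn hcard hr hrdvd hprim hs hsr hsq
      (R : Subgroup G) (Cfsg.pCore s G) x hRp hxR hxord hxcent (pCore_isPGroup' s G)
      (fun y _ v hv => hSn.conj_mem v hv y) ⟨u, hu, hxu⟩
    refine ⟨h1, ?_, h3, ?_⟩
    · intro hd
      have hd2 : r ^ 2 ∣ Nat.card G := hd.trans hVG
      have hd3 : r ^ 2 ∣ Nat.card (R : Subgroup G) := R.pow_dvd_card_of_pow_dvd_card hd2
      rw [h4] at hd3
      have h5 : r ^ 2 ≤ r := Nat.le_of_dvd hr.pos hd3
      have h6 : 2 ≤ r := hr.two_le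
      nlinarith
    · rintro rfl
      exact hsq h2
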