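import Mathlib
import Cfsg.Agent.H95.HupDefs

/-!
# S3360-R2B (helper5, for helper95): dimension two, the extraspecial case
-/

set_option autoImplicit false

universe u w

namespace Cfsg.Agent.H5.Hup

open Cfsg.Agent.H95.Hup

section scal

variable {q : ℕ} [Fact q.Prime] {V : Type u} [AddCommGroup V] [Module (ZMod q) V]
  {G : Type w} [Group G] (ρ : G →* (V ≃ₗ[ZMod q] V))

/-- Scalar elements are central (faithful action). -/
theorem isScal_comm (hinj : Function.Injective ρ) {g : G} (hg : IsScal q ρ g) (h : G) :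
    g * h = h * g := by
  obtain ⟨c, hc⟩ := hg
  apply hinj
  rw [map_mul, map_mul]
  ext v
  simp only [LinearEquiv.mul_apply]
  rw [hc, hc, map_smul]

/-- Two elements acting by the same scalar are equal. -/
theorem eq_of_scal (hinj : Function.Injective ρ) {g h : G} (c : ZMod q)
    (hg : ∀ v, ρ g v = c • v) (hh : ∀ v, ρ h v = c • v) : g = h := by
  apply hinj
  ext v
  rw [hg, hh]

theorem eq_one_of_scal (hinj : Function.Injective ρ) {g : G}
    (hg : ∀ v, ρ g v = (1 : ZMod q) • v) : g = 1 :=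
  eq_of_scal ρ hinj 1 hg (fun v => by rw [map_one, one_smul]; rfl)

/-- A nontrivial scalar element is fixed-point-free. -/
theorem fpf_of_scal (hinj : Function.Injective ρ) {z : G} (hz : IsScal q ρ z) (hz1 : z ≠ 1) :
    FPF q ρ z := by
  obtain ⟨c, hc⟩ := hz
  intro v hv
  rw [hc] at hv
  have hc1 : c ≠ 1 := by
    rintro rfl
    exact hz1 (eq_one_of_scal ρ hinj hc)
  have h2 : (c - 1) • v = 0 := by rw [sub_smul, hv, one_smul, sub_self]
  rcases smul_eq_zero.mp h2 with h | h
  · exact absurd (sub_eq_zero.mp h) hc1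
  · exact h

/-- A scalar commutator acts as `1` or `-1` in dimension two. -/
theorem comm_scal [Finite V] (hcard : Nat.card V = q ^ 2) (x y : G) (c : ZMod q)
    (hc : ∀ v, ρ (x * y * x⁻¹ * y⁻¹) v = c • v) : c = 1 ∨ c = -1 := by
  have hq : q.Prime := Fact.out
  letI : Fintype V := Fintype.ofFinite V
  have hfr : Module.finrank (ZMod q) V = 2 := by
    have h1 := Module.card_eq_pow_finrank (K := ZMod q) (V := V)
    rw [ZMod.card, ← Nat.card_eq_fintype_card, hcard] at h1
    exact (Nat.pow_right_injective hq.two_le h1).symm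
  have hdet1 : LinearEquiv.det (ρ (x * y * x⁻¹ * y⁻¹)) = 1 := by
    rw [map_mul, map_mul, map_mul, map_inv, map_inv, map_mul, map_mul, map_mul, map_inv, map_inv,
      mul_comm (LinearEquiv.det (ρ x)) (LinearEquiv.det (ρ y)), mul_inv_cancel_right,
      mul_inv_cancel]
  have hlin : ((ρ (x * y * x⁻¹ * y⁻¹) : V ≃ₗ[ZMod q] V) : V →ₗ[ZMod q] V) =
      c • (LinearMap.id : V →ₗ[ZMod q] V) := by
    ext v
    rw [LinearMap.smul_apply, LinearMap.id_apply]
    exact hc v
  have hdet2 : LinearMap.det ((ρ (x * y * x⁻¹ * y⁻¹) : V ≃ₗ[ZMod q] V) : V →ₗ[ZMod q] V) = c ^ 2 := by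
    rw [hlin, LinearMap.det_smul, hfr, LinearMap.det_id, mul_one]
  rw [← LinearEquiv.coe_det, hdet1, Units.val_one] at hdet2
  apply mul_self_eq_one_iff.mp
  rw [← sq]; exact hdet2.symm

end scal

section grp

variable {G : Type w} [Group G]

theorem conj_comm {g t a : G} (h : g * a * g⁻¹ = t * a * t⁻¹) :
    (t⁻¹ * g) * a = a * (t⁻¹ * g) := by
  have h1 : g * a = t * a * t⁻¹ * g := by rw [← h]; group
  calc t⁻¹ * g * a = t⁻¹ * (g * a) := by group
    _ = t⁻¹ * (t * a * t⁻¹ * g) := by rw [h1]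
    _ = a * (t⁻¹ * g) := by group

theorem comm_cases (a b g c : G) (hc : c = a * b * a⁻¹ * b⁻¹) (hcz : ∀ x, c * x = x * c)
    (hcc : c * c = 1) (hga : g * a * g⁻¹ * a⁻¹ = 1 ∨ g * a * g⁻¹ * a⁻¹ = c)
    (hgb : g * b * g⁻¹ * b⁻¹ = 1 ∨ g * b * g⁻¹ * b⁻¹ = c) :
    ∃ t, (t = 1 ∨ t = a ∨ t = b ∨ t = a * b) ∧ (t⁻¹ * g) * a = a * (t⁻¹ * g) ∧
      (t⁻¹ * g) * b = b * (t⁻¹ * g) := by
  have hcinv : c⁻¹ = c := inv_eq_of_mul_eq_one_left hcc
  have ga : ∀ z, g * a * g⁻¹ * a⁻¹ = z → g * a * g⁻¹ = z * a := by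
    intro z hz; rw [← hz]; group
  have gb : ∀ z, g * b * g⁻¹ * b⁻¹ = z → g * b * g⁻¹ = z * b := by
    intro z hz; rw [← hz]; group
  have T2 : a * b * a⁻¹ = c * b := by rw [hc]; group
  have T3 : b * a * b⁻¹ = c * a := by
    have h : b * a * b⁻¹ = c⁻¹ * a := by rw [hc]; group
    rw [h, hcinv]
  have T5 : (a * b) * a * (a * b)⁻¹ = c * a := by
    have h : (a * b) * a * (a * b)⁻¹ = a * (b * a * b⁻¹) * a⁻¹ := by group
    rw [h, T3]
    calc a * (c * a) * a⁻¹ = a * c := by group
      _ = c * a := (hcz a).symm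
  have T6 : (a * b) * b * (a * b)⁻¹ = c * b := by
    have h : (a * b) * b * (a * b)⁻¹ = a * b * a⁻¹ := by group
    rw [h, T2]
  rcases hga with h1 | h1 <;> rcases hgb with h2 | h2
  · exact ⟨1, Or.inl rfl, conj_comm (by rw [ga _ h1]; group), conj_comm (by rw [gb _ h2]; group)⟩
  · exact ⟨a, Or.inr (Or.inl rfl), conj_comm (by rw [ga _ h1]; group),
      conj_comm (by rw [gb _ h2, T2])⟩
  · exact ⟨b, Or.inr (Or.inr (Or.inl rfl)), conj_comm (by rw [ga _ h1, T3]),
      conj_comm (by rw [gb _ h2]; group)⟩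
  · exact ⟨a * b, Or.inr (Or.inr (Or.inr rfl)), conj_comm (by rw [ga _ h1, T5]),
      conj_comm (by rw [gb _ h2, T6])⟩

end grp

section act

variable {G : Type w} [Group G] (D : Subgroup G) [hD : D.Normal]

/-- Conjugation on a normal subgroup. -/
def cj (g : G) (d : D) : D := ⟨g * d * g⁻¹, hD.conj_mem d d.2 g⟩

theorem cj_rel (hZ : ∀ z : D, z ∈ Subgroup.center D → ∀ g : G, g * (z : G) = z * g) (g : G)
    (d₁ d₂ : D) (h : QuotientGroup.leftRel (Subgroup.center D) d₁ d₂) :
    QuotientGroup.leftRel (Subgroup.center D) (cj D g d₁) (cj D g d₂) := by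
  rw [QuotientGroup.leftRel_apply] at h ⊢
  have h2 : (cj D g d₁)⁻¹ * cj D g d₂ = d₁⁻¹ * d₂ := by
    apply Subtype.ext
    have h1 := hZ _ h g
    simp only [cj, Subgroup.coe_mul, Subgroup.coe_inv] at h1 ⊢
    calc (g * ↑d₁ * g⁻¹)⁻¹ * (g * ↑d₂ * g⁻¹) = g * ((d₁ : G)⁻¹ * d₂) * g⁻¹ := by group
      _ = (d₁ : G)⁻¹ * d₂ * g * g⁻¹ := by rw [h1]
      _ = (d₁ : G)⁻¹ * d₂ := by group
  rw [h2]; exact h

/-- The conjugation action of `G` on `D / Z(D)` (when `Z(D)` is central in `G`). -/
def qAct (hZ : ∀ z : D, z ∈ Subgroup.center D → ∀ g : G, g * (z : G) = z * g) :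
    MulAction G (D ⧸ Subgroup.center D) where
  smul g x := Quotient.map' (cj D g) (cj_rel D hZ g) x
  one_smul x := by
    induction x using QuotientGroup.induction_on with
    | H d =>
      show Quotient.map' (cj D 1) (cj_rel D hZ 1) (Quotient.mk'' d) = Quotient.mk'' d
      rw [Quotient.map'_mk'']
      congr 1
      apply Subtype.ext; simp [cj]
  mul_smul g h x := by
    induction x using QuotientGroup.induction_on with
    | H d =>
      show Quotient.map' (cj D (g * h)) (cj_rel D hZ (g * h)) (Quotient.mk'' d) =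
        Quotient.map' (cj D g) (cj_rel D hZ g)
          (Quotient.map' (cj D h) (cj_rel D hZ h) (Quotient.mk'' d))
      rw [Quotient.map'_mk'', Quotient.map'_mk'', Quotient.map'_mk'']
      congr 1
      apply Subtype.ext; simp [cj, mul_assoc]

theorem exists_ker [Finite G]
    (hZ : ∀ z : D, z ∈ Subgroup.center D → ∀ g : G, g * (z : G) = z * g)
    (hQ : Nat.card (D ⧸ Subgroup.center D) = 4) :
    ∃ K : Subgroup G, K.index ∣ 6 ∧
      ∀ g ∈ K, ∀ d : D, (cj D g d)⁻¹ * d ∈ Subgroup.center D := by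
  classical
  letI := qAct D hZ
  have hsm : ∀ (g : G) (d : D), g • (QuotientGroup.mk d : D ⧸ Subgroup.center D) =
      QuotientGroup.mk (cj D g d) := fun g d => rfl
  have hone : ∀ g : G, g • (1 : D ⧸ Subgroup.center D) = 1 := by
    intro g
    have h1 : (1 : D ⧸ Subgroup.center D) = QuotientGroup.mk (1 : D) := rfl
    rw [h1, hsm]; congr 1; apply Subtype.ext; simp [cj]
  let T := ↥(({1} : Set (D ⧸ Subgroup.center D))ᶜ)
  letI : MulAction G T :=
    { smul := fun g x => ⟨g • x.1, fun h => x.2 (by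
        have h' : g • x.1 = 1 := h
        have h2 := congrArg (fun y => g⁻¹ • y) h'
        simp only [inv_smul_smul, hone] at h2
        exact h2)⟩
      one_smul := fun x => Subtype.ext (one_smul G x.1)
      mul_smul := fun g h x => Subtype.ext (mul_smul g h x.1) }
  have hT : Nat.card T = 3 := by
    show Nat.card ↥(({1} : Set (D ⧸ Subgroup.center D))ᶜ) = 3
    rw [Nat.card_coe_set_eq, Set.ncard_compl, Set.ncard_singleton, hQ]
  refine ⟨(MulAction.toPermHom G T).ker, ?_, ?_⟩
  · rw [Subgroup.index_ker]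
    have h1 : Nat.card (MulAction.toPermHom G T).range ∣ Nat.card (Equiv.Perm T) :=
      Subgroup.card_subgroup_dvd_card _
    rw [Nat.card_perm, hT] at h1
    exact h1
  · intro g hg d
    rw [MonoidHom.mem_ker] at hg
    by_cases hd : (QuotientGroup.mk d : D ⧸ Subgroup.center D) = 1
    · have hdc : d ∈ Subgroup.center D := (QuotientGroup.eq_one_iff d).mp hd
      have h1 : cj D g d = d := by
        apply Subtype.ext
        show g * (d : G) * g⁻¹ = d
        rw [hZ d hdc g]; group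
      rw [h1, inv_mul_cancel]; exact one_mem _
    · have h1 : (MulAction.toPermHom G T g) ⟨_, hd⟩ = ⟨_, hd⟩ := by rw [hg]; rfl
      have h2 : g • (QuotientGroup.mk d : D ⧸ Subgroup.center D) = QuotientGroup.mk d :=
        congrArg Subtype.val h1
      rw [hsm] at h2
      exact QuotientGroup.eq.mp h2

end act

section main

variable {q : ℕ} [Fact q.Prime] {V : Type u} [AddCommGroup V] [Module (ZMod q) V]
  {G : Type w} [Group G] (ρ : G →* (V ≃ₗ[ZMod q] V))

/-- A group of scalar elements has order dividing `q - 1`. -/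
theorem card_center_dvd [Nontrivial V] (hinj : Function.Injective ρ) (D : Subgroup G)
    (hZs : ∀ z : D, z ∈ Subgroup.center D → IsScal q ρ (z : G)) :
    Nat.card (Subgroup.center D) ∣ q - 1 := by
  classical
  obtain ⟨v₀, hv₀⟩ := exists_ne (0 : V)
  have huniq : ∀ c c' : ZMod q, c • v₀ = c' • v₀ → c = c' :=
    fun c c' h => smul_left_injective (ZMod q) hv₀ h
  let f : Subgroup.center D → ZMod q := fun z => Classical.choose (hZs z.1 z.2)
  have hf : ∀ (z : Subgroup.center D) (v : V), ρ ((z : D) : G) v = f z • v :=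
    fun z => Classical.choose_spec (hZs z.1 z.2)
  let f₀ : Subgroup.center D →* ZMod q :=
    { toFun := f
      map_one' := by
        apply huniq
        rw [← hf 1, one_smul]
        show ρ (1 : G) v₀ = v₀
        rw [map_one]; rfl
      map_mul' := by
        intro z z'
        apply huniq
        rw [← hf (z * z'), mul_smul, ← hf z', ← hf z]
        show ρ (((z : D) : G) * ((z' : D) : G)) v₀ = _
        rw [map_mul]; rfl }
  have hF : Function.Injective f₀.toHomUnits := by
    rw [injective_iff_map_eq_one]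
    intro z hz
    have h1 : f₀ z = 1 := by
      have := congrArg Units.val hz
      rwa [MonoidHom.coe_toHomUnits, Units.val_one] at this
    have h2 : ((z : D) : G) = 1 := eq_one_of_scal ρ hinj (fun v => by rw [hf z v]; rw [← h1]; rfl)
    apply Subtype.ext; apply Subtype.ext; exact h2
  have h3 := Subgroup.card_dvd_of_injective f₀.toHomUnits hF
  have h4 : Nat.card (ZMod q)ˣ = q - 1 := by
    rw [Nat.card_eq_fintype_card, ZMod.card_units]
  rwa [h4] at h3

/-- HUP-R2B. -/
theorem r2b (hLI : LIStmt.{u, w}) : R2BStmt.{u, w} := by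
  intro q _ V _ _ _ _ G _ _ ρ hinj hcard D hDn hcop hcl2 hscalD hZscal hnab
  obtain ⟨a, ha, b, hb, hab⟩ := hnab
  haveI := hDn
  have hq : q.Prime := Fact.out
  have hZs : ∀ z : D, z ∈ Subgroup.center D → IsScal q ρ (z : G) := by
    intro z hz
    refine hZscal z z.2 ?_
    intro e he
    have h1 := Subgroup.mem_center_iff.mp hz ⟨e, he⟩
    exact (congrArg Subtype.val h1).symm
  have hZc : ∀ z : D, z ∈ Subgroup.center D → ∀ g : G, g * (z : G) = z * g :=
    fun z hz g => (isScal_comm ρ hinj (hZs z hz) g).symm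
  have hfpf : ∀ z ∈ D, Cent D z → z ≠ 1 → FPF q ρ z :=
    fun z hz hc h1 => fpf_of_scal ρ hinj (hZscal z hz hc) h1
  obtain ⟨hle, heq⟩ := hLI q ρ hinj 2 hcard D hcop hcl2 hfpf
  have hcardD : Nat.card D = Nat.card (D ⧸ Subgroup.center D) * Nat.card (Subgroup.center D) :=
    Subgroup.card_eq_card_quotient_mul_card_subgroup _
  have hZpos : 0 < Nat.card (Subgroup.center D) := Nat.card_pos
  have hQle : Nat.card (D ⧸ Subgroup.center D) ≤ 4 := by
    by_contra hlt
    push_neg at hlt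
    have h1 : 4 * Nat.card (Subgroup.center D) <
        Nat.card (D ⧸ Subgroup.center D) * Nat.card (Subgroup.center D) :=
      Nat.mul_lt_mul_of_pos_right hlt hZpos
    omega
  let A : D := ⟨a, ha⟩
  let B : D := ⟨b, hb⟩
  have hAB : A * B ≠ B * A := fun h => hab (congrArg Subtype.val h)
  have hcen : ∀ z : D, z ∈ Subgroup.center D → ∀ e : D, e * z = z * e :=
    fun z hz e => Subgroup.mem_center_iff.mp hz e
  have n1 : (QuotientGroup.mk A : D ⧸ Subgroup.center D) ≠ 1 := by
    intro h; exact hAB ((hcen A ((QuotientGroup.eq_one_iff A).mp h) B).symm)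
  have n2 : (QuotientGroup.mk B : D ⧸ Subgroup.center D) ≠ 1 := by
    intro h; exact hAB (hcen B ((QuotientGroup.eq_one_iff B).mp h) A)
  have n3 : (QuotientGroup.mk A : D ⧸ Subgroup.center D) ≠ QuotientGroup.mk B := by
    intro h
    have h1 : A⁻¹ * B ∈ Subgroup.center D := QuotientGroup.eq.mp h
    have h2 := hcen _ h1 A
    apply hAB
    calc A * B = A * (A * (A⁻¹ * B)) := by group
      _ = A * ((A⁻¹ * B) * A) := by rw [h2]
      _ = B * A := by group
  have n4 : (QuotientGroup.mk (A * B) : D ⧸ Subgroup.center D) ≠ 1 := by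
    intro h
    have h1 : A * B ∈ Subgroup.center D := (QuotientGroup.eq_one_iff _).mp h
    have h2 := hcen _ h1 A
    apply hAB
    calc A * B = A⁻¹ * (A * (A * B)) := by group
      _ = A⁻¹ * ((A * B) * A) := by rw [h2]
      _ = B * A := by group
  have n5 : (QuotientGroup.mk A : D ⧸ Subgroup.center D) ≠ QuotientGroup.mk (A * B) := by
    intro h
    have h1 : A⁻¹ * (A * B) ∈ Subgroup.center D := QuotientGroup.eq.mp h
    rw [inv_mul_cancel_left] at h1
    exact n2 ((QuotientGroup.eq_one_iff B).mpr h1)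
  have n6 : (QuotientGroup.mk B : D ⧸ Subgroup.center D) ≠ QuotientGroup.mk (A * B) := by
    intro h
    have h1 : B⁻¹ * (A * B) ∈ Subgroup.center D := QuotientGroup.eq.mp h
    have h2 := hcen _ h1 B
    apply hAB
    symm
    calc B * A = B * (B * (B⁻¹ * (A * B))) * B⁻¹ := by group
      _ = B * ((B⁻¹ * (A * B)) * B) * B⁻¹ := by rw [h2]
      _ = A * B := by group
  let f : Fin 4 → D ⧸ Subgroup.center D :=
    ![1, QuotientGroup.mk A, QuotientGroup.mk B, QuotientGroup.mk (A * B)]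
  have hf : Function.Injective f := by
    intro i j hij
    fin_cases i <;> fin_cases j <;>
      first
      | rfl
      | exact absurd hij n1
      | exact absurd hij n1.symm
      | exact absurd hij n2
      | exact absurd hij n2.symm
      | exact absurd hij n3
      | exact absurd hij n3.symm
      | exact absurd hij n4
      | exact absurd hij n4.symm
      | exact absurd hij n5
      | exact absurd hij n5.symm
      | exact absurd hij n6
      | exact absurd hij n6.symm
  have h4 : 4 ≤ Nat.card (D ⧸ Subgroup.center D) := by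
    have h := Nat.card_le_card_of_injective f hf
    rwa [Nat.card_fin] at h
  have hQ4 : Nat.card (D ⧸ Subgroup.center D) = 4 := le_antisymm hQle h4
  have hsurj : Function.Surjective f :=
    (hf.bijective_of_nat_card_le (by rw [hQ4, Nat.card_fin])).2
  have hdec : ∀ d : D, ∃ t : D, (t = 1 ∨ t = A ∨ t = B ∨ t = A * B) ∧
      t⁻¹ * d ∈ Subgroup.center D := by
    intro d
    obtain ⟨i, hi⟩ := hsurj (QuotientGroup.mk d)
    fin_cases i
    · exact ⟨1, Or.inl rfl, QuotientGroup.eq.mp hi⟩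
    · exact ⟨A, Or.inr (Or.inl rfl), QuotientGroup.eq.mp hi⟩
    · exact ⟨B, Or.inr (Or.inr (Or.inl rfl)), QuotientGroup.eq.mp hi⟩
    · exact ⟨A * B, Or.inr (Or.inr (Or.inr rfl)), QuotientGroup.eq.mp hi⟩
  have hcardD4 : Nat.card D = 2 ^ 2 * Nat.card (Subgroup.center D) := by
    rw [hcardD, hQ4]; norm_num
  have hq2 : q ≠ 2 := by
    intro h
    rw [h] at hcop
    have h1 : 2 ∣ Nat.gcd (Nat.card D) 2 :=
      Nat.dvd_gcd ⟨2 * Nat.card (Subgroup.center D), by rw [hcardD4]; ring⟩ dvd_rfl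
    rw [Nat.Coprime.gcd_eq_one hcop] at h1
    omega
  refine ⟨hq2, ?_⟩
  have hscalC := heq hcardD4
  -- the commutator
  obtain ⟨c, hcdef⟩ : ∃ c, c = a * b * a⁻¹ * b⁻¹ := ⟨_, rfl⟩
  have hcD : c ∈ D := by
    rw [hcdef]; exact D.mul_mem (D.mul_mem (D.mul_mem ha hb) (D.inv_mem ha)) (D.inv_mem hb)
  have hcS : IsScal q ρ c := hZscal c hcD (fun e he => by rw [hcdef]; exact hcl2 a ha b hb e he)
  have hcz : ∀ x, c * x = x * c := isScal_comm ρ hinj hcS
  have hc1 : c ≠ 1 := by
    intro h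
    apply hab
    calc a * b = (a * b * a⁻¹ * b⁻¹) * (b * a) := by group
      _ = b * a := by rw [← hcdef, h, one_mul]
  obtain ⟨lc, hlc⟩ := hcS
  have hlc' : lc = -1 := by
    rcases comm_scal ρ hcard a b lc (by rw [← hcdef]; exact hlc) with h | h
    · exact absurd (eq_one_of_scal ρ hinj (by rw [← h]; exact hlc)) hc1
    · exact h
  rw [hlc'] at hlc
  have hcc : c * c = 1 := by
    apply eq_one_of_scal ρ hinj
    intro v
    rw [map_mul, LinearEquiv.mul_apply, hlc, hlc, smul_smul, neg_mul_neg, one_mul]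
  obtain ⟨K, hK6, hK⟩ := exists_ker D hZc hQ4
  have key : ∀ (g : G) (t : D), (cj D g t)⁻¹ * t ∈ Subgroup.center D →
      g * (t : G) * g⁻¹ * (t : G)⁻¹ = 1 ∨ g * (t : G) * g⁻¹ * (t : G)⁻¹ = c := by
    intro g t hw
    have hw' : ((cj D g t)⁻¹ * t)⁻¹ ∈ Subgroup.center D := inv_mem hw
    have h1 := hZc _ hw' (t : G)
    have h2 : ((((cj D g t)⁻¹ * t)⁻¹ : D) : G) = (t : G)⁻¹ * (g * t * g⁻¹) := by
      simp [cj]
    have h3 : ((((cj D g t)⁻¹ * t)⁻¹ : D) : G) = g * (t : G) * g⁻¹ * (t : G)⁻¹ := by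
      calc ((((cj D g t)⁻¹ * t)⁻¹ : D) : G)
          = (t : G) * ((((cj D g t)⁻¹ * t)⁻¹ : D) : G) * (t : G)⁻¹ := by rw [h1]; group
        _ = (t : G) * ((t : G)⁻¹ * (g * t * g⁻¹)) * (t : G)⁻¹ := by rw [h2]
        _ = g * (t : G) * g⁻¹ * (t : G)⁻¹ := by group
    obtain ⟨l, hl⟩ := hZs _ hw'
    rw [h3] at hl
    rcases comm_scal ρ hcard g (t : G) l hl with h | h
    · left
      exact eq_one_of_scal ρ hinj (by rw [← h]; exact hl)
    · right
      exact eq_of_scal ρ hinj (-1) (by rw [← h]; exact hl) hlc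
  have hKD : K ≤ D := by
    intro g hg
    obtain ⟨t, ht, hta, htb⟩ := comm_cases a b g c hcdef hcz hcc (key g A (hK g hg A))
      (key g B (hK g hg B))
    have htD : t ∈ D := by
      rcases ht with rfl | rfl | rfl | rfl
      · exact D.one_mem
      · exact ha
      · exact hb
      · exact D.mul_mem ha hb
    have hCent : Cent D (t⁻¹ * g) := by
      intro e he
      obtain ⟨s, hs, hz⟩ := hdec ⟨e, he⟩
      have hs' : (t⁻¹ * g) * (s : G) = (s : G) * (t⁻¹ * g) := by
        rcases hs with rfl | rfl | rfl | rfl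
        · simp
        · exact hta
        · exact htb
        · show (t⁻¹ * g) * (a * b) = (a * b) * (t⁻¹ * g)
          rw [← mul_assoc, hta, mul_assoc, htb, mul_assoc]
      have hz' := hZc _ hz (t⁻¹ * g)
      have he' : e = (s : G) * ((s⁻¹ * (⟨e, he⟩ : D) : D) : G) := by simp
      calc (t⁻¹ * g) * e = (t⁻¹ * g) * ((s : G) * ((s⁻¹ * (⟨e, he⟩ : D) : D) : G)) := by
            rw [← he']
        _ = ((t⁻¹ * g) * (s : G)) * ((s⁻¹ * (⟨e, he⟩ : D) : D) : G) := (mul_assoc _ _ _).symm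
        _ = ((s : G) * (t⁻¹ * g)) * ((s⁻¹ * (⟨e, he⟩ : D) : D) : G) := by rw [hs']
        _ = (s : G) * ((t⁻¹ * g) * ((s⁻¹ * (⟨e, he⟩ : D) : D) : G)) := mul_assoc _ _ _
        _ = (s : G) * (((s⁻¹ * (⟨e, he⟩ : D) : D) : G) * (t⁻¹ * g)) := by rw [hz']
        _ = ((s : G) * ((s⁻¹ * (⟨e, he⟩ : D) : D) : G)) * (t⁻¹ * g) := (mul_assoc _ _ _).symm
        _ = e * (t⁻¹ * g) := by rw [← he']
    have hh : t⁻¹ * g ∈ D := hscalD _ (hscalC _ hCent)
    have hg' : g = t * (t⁻¹ * g) := by group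
    rw [hg']
    exact D.mul_mem htD hh
  have hidx : D.index ∣ 6 := (Subgroup.index_dvd_of_le hKD).trans hK6
  have hcd := card_center_dvd ρ hinj D hZs
  obtain ⟨m, hm⟩ := hcd
  obtain ⟨k, hk⟩ := hidx
  have hG : Nat.card G = Nat.card D * D.index := (Subgroup.card_mul_index D).symm
  rw [hG, hcardD4, hm]
  refine Dvd.intro (k * m) ?_
  have h24 : (24 : ℕ) = 4 * 6 := by norm_num
  rw [h24, hk]
  ring

end main

end Cfsg.Agent.H5.Hup
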