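import Mathlib
import Cfsg.Agent.H28.Ord7920B
import Cfsg.Agent.H69.Ord7920N
import Cfsg.Agent.H26.Ord7920F
import Cfsg.Agent.H56.Ord7920TT
import Cfsg.Agent.H93.PGMain

set_option autoImplicit false

namespace Cfsg.Agent.H5.Ord7920

open Subgroup

/-- in a simple group of order 7920 a normal subgroup has order 1 or 7920 -/
theorem card_normal_simple {G : Type*} [Group G] [Finite G] [IsSimpleGroup G]
    (hord : Nat.card G = 7920) (N : Subgroup G) (hN : N.Normal) :
    Nat.card N = 1 ∨ Nat.card N = 7920 := by
  rcases hN.eq_bot_or_eq_top with h | h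
  · left; rw [h]; exact Subgroup.card_bot
  · right; rw [h, Subgroup.card_top, hord]

/-- every hom of a simple group of order 7920 to `ℤˣ` is trivial (own copy of S4429-TRIV) -/
theorem hom_units_trivial' {G : Type*} [Group G] [Finite G] [IsSimpleGroup G]
    (hord : Nat.card G = 7920) (f : G →* ℤˣ) (x : G) : f x = 1 := by
  rcases (MonoidHom.normal_ker f).eq_bot_or_eq_top with h | h
  · exfalso
    have hinj : Function.Injective f := (MonoidHom.ker_eq_bot_iff f).1 h
    have h1 := Nat.card_le_card_of_injective f hinj
    have h2 : Nat.card ℤˣ = 2 := by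
      rw [Nat.card_eq_fintype_card]; exact Fintype.card_units_int
    omega
  · have hx : x ∈ f.ker := by rw [h]; trivial
    exact MonoidHom.mem_ker.1 hx

/-- S4429-G11: the Sylow 11-subgroups of a simple group of order 7920. -/
theorem sylow11_simple {G : Type*} [Group G] [Finite G] [IsSimpleGroup G]
    (hord : Nat.card G = 7920) (Q : Sylow 11 G) :
    Nat.card (Sylow 11 G) = 144 ∧ Nat.card (normalizer ((Q : Subgroup G) : Set G)) = 55 ∧
      Nat.card (centralizer ((Q : Subgroup G) : Set G)) = 11 := by
  classical
  haveI : Fact (Nat.Prime 11) := ⟨by norm_num⟩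
  haveI : Fact (Nat.Prime 2) := ⟨Nat.prime_two⟩
  have hQ11 : Nat.card Q = 11 := Cfsg.Agent.H93.PG.sylow11_card hord Q
  have hQ11' : Nat.card (Q : Subgroup G) = 11 := hQ11
  -- simple group facts
  have h11 : ∀ P : Sylow 11 G, ¬ (P : Subgroup G).Normal := by
    intro P hPn
    have hP := Cfsg.Agent.H93.PG.sylow11_card hord P
    have hP' : Nat.card (P : Subgroup G) = 11 := hP
    rcases card_normal_simple hord _ hPn with h | h <;> omega
  have hN : ∀ N : Subgroup G, N.Normal → N ≠ ⊥ → 11 ∣ Nat.card N := by
    intro N hNn hNb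
    rcases hNn.eq_bot_or_eq_top with h | h
    · exact absurd h hNb
    · rw [h, Subgroup.card_top, hord]; norm_num
  have hfaith := Cfsg.Agent.H28.Ord7920.faithful_sylow hord h11 hN
  have hsign : ∀ (f : G →* ℤˣ) (x : G), f x = 1 := hom_units_trivial' hord
  have hno2 : ∀ M' : Subgroup G, M' ≤ (⊤ : Subgroup G) → M'.relIndex ⊤ = 2 → False := by
    intro M' _ h2
    rw [Subgroup.relIndex_top_right] at h2
    have hn := Subgroup.normal_of_index_eq_two h2
    have hc := Subgroup.card_mul_index M'
    rw [h2, hord] at hc
    rcases card_normal_simple hord _ hn with h | h <;> omega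
  -- no normal subgroup of order 720
  have hno720 : ∀ K : Subgroup G, K.Normal → Nat.card K * 11 = 7920 → False := by
    intro K hK hc
    rcases card_normal_simple hord _ hK with h | h <;> omega
  -- the counting
  have hmod := card_sylow_modEq_one 11 G
  have hdvd := Q.card_dvd_index
  have hidx : (Q : Subgroup G).index = 720 := by
    have h := (Q : Subgroup G).card_mul_index
    rw [hord, hQ11'] at h
    omega
  rw [hidx] at hdvd
  have hNidx : Nat.card (Sylow 11 G) = (normalizer ((Q : Subgroup G) : Set G)).index :=
    Sylow.card_eq_index_normalizer Q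
  have hNmul := Subgroup.card_mul_index (normalizer ((Q : Subgroup G) : Set G))
  rw [← hNidx, hord] at hNmul
  have hNC : Nat.card (normalizer ((Q : Subgroup G) : Set G)) ∣
      10 * Nat.card (centralizer ((Q : Subgroup G) : Set G)) := by
    have := Cfsg.Agent.H69.Ord7920.card_inf_normalizer_dvd 11 (Q : Subgroup G) hQ11' ⊤
    simpa using this
  have hCN : centralizer ((Q : Subgroup G) : Set G) ≤ normalizer ((Q : Subgroup G) : Set G) :=
    centralizer_le_normalizer _
  have hCdvd : Nat.card (centralizer ((Q : Subgroup G) : Set G)) ∣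
      Nat.card (normalizer ((Q : Subgroup G) : Set G)) := card_dvd_of_le hCN
  -- Burnside: N(Q) = C(Q) is impossible
  have hburn : Nat.card (centralizer ((Q : Subgroup G) : Set G)) =
      Nat.card (normalizer ((Q : Subgroup G) : Set G)) → False := by
    intro heq
    have hEq : centralizer ((Q : Subgroup G) : Set G) = normalizer ((Q : Subgroup G) : Set G) :=
      Subgroup.eq_of_le_of_card_ge hCN (by rw [heq])
    obtain ⟨K, hKn, -, hKcard, -⟩ :=
      Cfsg.Agent.H69.Ord7920.exists_normal_compl (⊤ : Subgroup G) 11 (Q : Subgroup G) le_top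
        Q.isPGroup' (by rw [Subgroup.card_top, hord, hQ11']; norm_num)
        (by rw [hEq]; exact inf_le_right)
    rw [Subgroup.card_top, hord, hQ11'] at hKcard
    exact hno720 K hKn hKcard
  rcases Cfsg.Agent.H93.PG.sylow11_cases _ hmod hdvd with h | h | h | h
  · exfalso
    have : Subsingleton (Sylow 11 G) := (Nat.card_eq_one_iff_unique.mp h).1
    exact h11 Q (Sylow.normal_of_subsingleton Q)
  · exfalso
    refine Cfsg.Agent.H28.Ord7920.sylow_card_ne_twelve hord hfaith (fun P => ?_) h
    have := Cfsg.Agent.H69.Ord7920.card_inf_normalizer_dvd 11 (P : Subgroup G)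
      (Cfsg.Agent.H93.PG.sylow11_card hord P) ⊤
    simpa using this
  · exfalso
    rw [h] at hNmul
    have hN176 : Nat.card (normalizer ((Q : Subgroup G) : Set G)) = 176 := by omega
    rw [hN176] at hNC hCdvd
    have hC : Nat.card (centralizer ((Q : Subgroup G) : Set G)) = 88 ∨
        Nat.card (centralizer ((Q : Subgroup G) : Set G)) = 176 := by
      have hle := Nat.le_of_dvd (by norm_num) hCdvd
      obtain ⟨c, hc⟩ := hNC
      have h88 : 88 ∣ Nat.card (centralizer ((Q : Subgroup G) : Set G)) := by
        have : (88 : ℕ).Coprime 5 := by norm_num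
        apply this.dvd_of_dvd_mul_left
        exact ⟨c, by omega⟩
      obtain ⟨e, he⟩ := h88
      rw [he] at hle ⊢
      have : e = 1 ∨ e = 2 := by
        rcases e with _ | _ | _ | e
        · rw [he] at hCdvd; simp at hCdvd
        · left; rfl
        · right; rfl
        · omega
      rcases this with rfl | rfl <;> simp
    rcases hC with hC | hC
    · -- |C(Q)| = 88
      have hrel : (centralizer ((Q : Subgroup G) : Set G)).relIndex
          (normalizer ((Q : Subgroup G) : Set G)) = 2 := by
        have := Cfsg.Agent.H69.Ord7920.card_mul_relIndex_of_le hCN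
        rw [hC, hN176] at this
        omega
      -- a subgroup of order 16 in N(Q)
      obtain ⟨K, hK⟩ := Sylow.exists_subgroup_card_pow_prime (G := ↥(normalizer ((Q : Subgroup G) : Set G)))
        2 (n := 4) (by rw [hN176]; norm_num)
      obtain ⟨S, hSdef⟩ : ∃ S : Subgroup G, S = K.map (normalizer ((Q : Subgroup G) : Set G)).subtype :=
        ⟨_, rfl⟩
      have hSN : S ≤ normalizer ((Q : Subgroup G) : Set G) := by
        rw [hSdef]; exact Subgroup.map_subtype_le K
      have hS : Nat.card S = 16 := by
        rw [hSdef, Subgroup.card_map_of_injective (Subgroup.subtype_injective _), hK]; norm_num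
      have hS2 : IsPGroup 2 S := IsPGroup.of_card (n := 4) (by rw [hS]; norm_num)
      have hT : (S ⊓ centralizer ((Q : Subgroup G) : Set G)).relIndex S = 2 := by
        rw [Subgroup.inf_relIndex_left]
        have hle := Subgroup.relIndex_le_of_le_right (H := centralizer ((Q : Subgroup G) : Set G))
          hSN (by rw [hrel]; norm_num)
        rw [hrel] at hle
        have hne0 : (centralizer ((Q : Subgroup G) : Set G)).relIndex S ≠ 0 :=
          Subgroup.index_ne_zero_of_finite (H := (centralizer ((Q : Subgroup G) : Set G)).subgroupOf S)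
        have hne1 : (centralizer ((Q : Subgroup G) : Set G)).relIndex S ≠ 1 := by
          intro h1
          have hSC : S ≤ centralizer ((Q : Subgroup G) : Set G) := Subgroup.relIndex_eq_one.mp h1
          have := card_dvd_of_le hSC
          rw [hS, hC] at this
          norm_num at this
        omega
      have hfix : ∀ x ∈ S ⊓ centralizer ((Q : Subgroup G) : Set G), orderOf x = 2 →
          ∀ Q' : Sylow 11 G, x • Q' = Q' → Q' = Q := fun x hx hx2 =>
        Cfsg.Agent.H26.Ord7920.fix_eq_of_involution hfaith h Q hQ11 x hx2 hx.2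
          (fun f => hsign f x)
      have hconj : ∀ u ∈ S, u ∉ S ⊓ centralizer ((Q : Subgroup G) : Set G) → orderOf u = 2 →
          ∃ g : G, g * u * g⁻¹ ∈ S ⊓ centralizer ((Q : Subgroup G) : Set G) := by
        intro u hu huT hu2
        obtain ⟨g, -, hg⟩ := Cfsg.Agent.H56.Ord7920.thompson_in_subgroup (⊤ : Subgroup G) hno2 S
          (S ⊓ centralizer ((Q : Subgroup G) : Set G)) le_top hS2
          (by rw [Subgroup.card_top, hord, hS]; norm_num) inf_le_left hT u hu2 hu huT
        exact ⟨g, hg⟩
      have hfin := Cfsg.Agent.H26.Ord7920.card_dvd_of_unique_fix Q S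
        (S ⊓ centralizer ((Q : Subgroup G) : Set G)) inf_le_left hSN hS2 hfix hconj
      rw [hS, h] at hfin
      norm_num at hfin
    · exact hburn (by rw [hC, hN176])
  · rw [h] at hNmul
    have hN55 : Nat.card (normalizer ((Q : Subgroup G) : Set G)) = 55 := by omega
    refine ⟨h, hN55, ?_⟩
    rw [hN55] at hNC hCdvd
    have hle := Nat.le_of_dvd (by norm_num) hCdvd
    have h11d : 11 ∣ Nat.card (centralizer ((Q : Subgroup G) : Set G)) := by
      have : (11 : ℕ).Coprime 10 := by norm_num
      apply this.dvd_of_dvd_mul_left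
      exact Dvd.dvd.trans (by norm_num) hNC
    obtain ⟨e, he⟩ := h11d
    have he5 : e ∣ 5 := by
      rw [he] at hCdvd
      have : 11 * e ∣ 11 * 5 := by simpa using hCdvd
      exact Nat.dvd_of_mul_dvd_mul_left (by norm_num) this
    have he' : e = 1 ∨ e = 5 := by
      have := (Nat.dvd_prime (by norm_num : Nat.Prime 5)).1 he5
      exact this
    rcases he' with rfl | rfl
    · simpa using he
    · exfalso
      exact hburn (by rw [he, hN55])

end Cfsg.Agent.H5.Ord7920
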