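import Mathlib
import Cfsg.Prelude.Def_Characters
import Cfsg.Prelude.Def_OddOrderChar
import Cfsg.Agent.H5.FrobKer
import Cfsg.Agent.H5.Coherent
import Cfsg.Agent.H4.Exceptional
import Cfsg.Agent.H83.Gagola2
import Cfsg.Agent.H21.SimpleTools
import Cfsg.Agent.H21.PrimeNC

/-!
# Exceptional characters for a self-centralizing T.I. subgroup (helper5)

`P ≤ G` abelian T.I. with `C_G(a) = P` for `1 ≠ a ∈ P`, `N = N_G(P)`, `e = |N : P|`,
`n = (|P| - 1) / e ≥ e + 2`.  Then (Brauer–Suzuki) there are a sign `ε`, a degree `d` of the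
exceptional characters and the non-exceptional characters not vanishing on `P ∖ 1`, giving the
degree equation `1 + ∑ v_ψ ψ(1) = ε d`, `∑ v_ψ² = e - 1`, `ψ(1) ≡ v_ψ`, `d ≡ ε e (mod |P|)`.
-/

set_option autoImplicit false
set_option linter.unusedSectionVars false
set_option linter.style.haveILetI false

namespace Cfsg.Agent.H5.PrimeTI

open Cfsg Cfsg.Agent.H4 Cfsg.Agent.H5
open scoped ComplexConjugate

universe u

attribute [local instance] fintypeIrr

section NLevel

open Classical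

variable {L : Type u} [Group L] [Fintype L] (K : Subgroup L) [K.Normal]
  (hfpf : ∀ x : L, x ∉ K → ∀ k ∈ K, x * k = k * x → k = 1)
  (hab : ∀ a ∈ K, ∀ b ∈ K, a * b = b * a)

include hfpf hab in
/-- Relevant characters have degree `|L : K|` when `K` is abelian. -/
theorem relSet_degree {χ : L → ℂ} (hχ : χ ∈ relSet K) : χ 1 = (K.index : ℂ) := by
  obtain ⟨τ, hτ, -, rfl⟩ := (mem_relSet_iff K hfpf χ).mp hχ
  rw [indFun_one_eq]
  have hA : ∀ a b : K, a * b = b * a := fun a b => Subtype.ext (hab a a.2 b b.2)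
  rw [(Cfsg.Agent.H83.IsIrrCharacter.linear_of_comm hA hτ).1, mul_one]

/-- The inner product of the permutation character on `L/K` with an irreducible character. -/
theorem inner_perm (χ : IrrCharacter L) :
    classInner (indFun K (fun _ : K => (1 : ℂ))) χ.1 =
      if χ.1 ∈ relSet K then 0 else χ.1 1 := by
  haveI : Fintype K := Fintype.ofFinite K
  split_ifs with h
  · apply Cfsg.Agent.H82.classInner_permChar_eq_zero K χ
    intro hle
    rw [Subgroup.normalCore_eq_self] at hle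
    obtain ⟨k, hk, hkne⟩ := h.2
    exact hkne (hle hk)
  · have hconst : ∀ k : K, χ.1 k = χ.1 1 := by
      intro k
      by_contra hne
      exact h ⟨χ.2, k, k.2, hne⟩
    rw [frobenius_reciprocity K _ _ (irr_isClassFunction χ)]
    unfold classInner
    simp only [hconst, one_mul, Finset.sum_const, Finset.card_univ, nsmul_eq_mul]
    rw [← Nat.card_eq_fintype_card, ← mul_assoc, inv_mul_cancel₀ (neZero_card_complex K).out,
      one_mul, irr_one_conj]

/-- The degrees of the irreducible characters of `L` trivial on `K` have squares summing to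
`|L : K|`. -/
theorem sum_notRel_sq :
    ∑ χ ∈ Finset.univ.filter (fun χ : IrrCharacter L => χ.1 ∉ relSet K), χ.1 1 * χ.1 1 =
      (K.index : ℂ) := by
  have hexp := classFunction_eq_finsum (indFun_isClassFunction K (fun _ : K => (1 : ℂ)))
  have h1 := congrFun hexp 1
  rw [finsum_irr_apply, finsum_irr_eq_sum, indFun_one_eq, mul_one] at h1
  rw [h1, Finset.sum_filter]
  refine Finset.sum_congr rfl fun χ _ => ?_
  rw [inner_perm K χ]
  by_cases h : χ.1 ∈ relSet K
  · rw [if_pos h, if_neg (not_not.mpr h), zero_mul]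
  · rw [if_neg h, if_pos h]

include hfpf hab in
/-- The number of relevant characters. -/
theorem card_rel :
    ((Finset.univ.filter (fun χ : IrrCharacter L => χ.1 ∈ relSet K)).card : ℂ) * K.index =
      (Nat.card K : ℂ) - 1 := by
  have hsq := sum_irr_sq (G := L)
  rw [finsum_irr_eq_sum, ← Finset.sum_filter_add_sum_filter_not Finset.univ
    (fun χ : IrrCharacter L => χ.1 ∈ relSet K)] at hsq
  have h2 := sum_notRel_sq K
  have h3 : ∑ χ ∈ Finset.univ.filter (fun χ : IrrCharacter L => χ.1 ∈ relSet K), χ.1 1 ^ 2 =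
      ((Finset.univ.filter (fun χ : IrrCharacter L => χ.1 ∈ relSet K)).card : ℂ) *
        ((K.index : ℂ) * K.index) := by
    rw [Finset.sum_congr rfl (fun χ hχ => by
      rw [relSet_degree K hfpf hab (Finset.mem_filter.mp hχ).2, sq]), Finset.sum_const,
      nsmul_eq_mul]
  have h4 : ∑ χ ∈ Finset.univ.filter (fun χ : IrrCharacter L => χ.1 ∉ relSet K), χ.1 1 ^ 2 =
      (K.index : ℂ) := by
    rw [← h2]
    exact Finset.sum_congr rfl fun χ _ => sq _
  rw [h3, h4] at hsq
  have hidx : (K.index : ℂ) ≠ 0 := by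
    have : K.index ≠ 0 := Subgroup.index_ne_zero_of_finite
    exact_mod_cast this
  have hcard : (Nat.card L : ℂ) = (Nat.card K : ℂ) * K.index := by
    rw [← K.card_mul_index]; push_cast; ring
  rw [hcard] at hsq
  have h5 : (K.index : ℂ) * (((Finset.univ.filter
      (fun χ : IrrCharacter L => χ.1 ∈ relSet K)).card : ℂ) * K.index -
      ((Nat.card K : ℂ) - 1)) = 0 := by linear_combination hsq
  rcases mul_eq_zero.mp h5 with h | h
  · exact absurd h hidx
  · exact sub_eq_zero.mp h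

include hfpf hab in
/-- The relevant characters sum to `-1` on `K ∖ 1`. -/
theorem sum_rel (a : L) (ha : a ∈ K) (ha1 : a ≠ 1) :
    ∑ χ ∈ Finset.univ.filter (fun χ : IrrCharacter L => χ.1 ∈ relSet K), χ.1 a = -1 := by
  have h := column_orthogonality (G := L) a 1
  have hemp : IsEmpty {c : L // c * a * c⁻¹ = 1} := by
    constructor
    rintro ⟨c, hc⟩
    apply ha1
    have : a = c⁻¹ * 1 * c := by rw [← hc]; group
    simpa using this
  rw [Nat.card_of_isEmpty, Nat.cast_zero, finsum_irr_eq_sum,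
    ← Finset.sum_filter_add_sum_filter_not Finset.univ
    (fun χ : IrrCharacter L => χ.1 ∈ relSet K)] at h
  have h2 := sum_notRel_sq K
  have h3 : ∑ χ ∈ Finset.univ.filter (fun χ : IrrCharacter L => χ.1 ∈ relSet K),
      χ.1 a * conj (χ.1 1) = (K.index : ℂ) *
        ∑ χ ∈ Finset.univ.filter (fun χ : IrrCharacter L => χ.1 ∈ relSet K), χ.1 a := by
    rw [Finset.mul_sum]
    refine Finset.sum_congr rfl fun χ hχ => ?_
    rw [irr_one_conj, relSet_degree K hfpf hab (Finset.mem_filter.mp hχ).2, mul_comm]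
  have h4 : ∑ χ ∈ Finset.univ.filter (fun χ : IrrCharacter L => χ.1 ∉ relSet K),
      χ.1 a * conj (χ.1 1) = (K.index : ℂ) := by
    rw [← h2]
    refine Finset.sum_congr rfl fun χ hχ => ?_
    have hnot := (Finset.mem_filter.mp hχ).2
    have : χ.1 a = χ.1 1 := by
      by_contra hne
      exact hnot ⟨χ.2, a, ha, hne⟩
    rw [this, irr_one_conj]
  rw [h3, h4] at h
  have hidx : (K.index : ℂ) ≠ 0 := by
    have : K.index ≠ 0 := Subgroup.index_ne_zero_of_finite
    exact_mod_cast this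
  have h5 : (K.index : ℂ) * (∑ χ ∈ Finset.univ.filter
      (fun χ : IrrCharacter L => χ.1 ∈ relSet K), χ.1 a + 1) = 0 := by linear_combination h
  rcases mul_eq_zero.mp h5 with h | h
  · exact absurd h hidx
  · exact eq_neg_of_add_eq_zero_left h

include hfpf hab in
/-- The squared absolute values of the relevant characters on `K ∖ 1` sum to `|K| - |L : K|`. -/
theorem sum_rel_sq (a : L) (ha : a ∈ K) (ha1 : a ≠ 1) :
    ∑ χ ∈ Finset.univ.filter (fun χ : IrrCharacter L => χ.1 ∈ relSet K),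
      χ.1 a * conj (χ.1 a) = (Nat.card K : ℂ) - K.index := by
  have h := column_orthogonality (G := L) a a
  have hcard : Nat.card {c : L // c * a * c⁻¹ = a} = Nat.card K := by
    apply Nat.card_congr
    refine Equiv.subtypeEquivRight fun c => ?_
    constructor
    · intro hc
      by_contra hcK
      apply ha1
      apply hfpf c hcK a ha
      calc c * a = c * a * c⁻¹ * c := by group
        _ = a * c := by rw [hc]
    · intro hc
      rw [hab c hc a ha]; group
  rw [hcard, finsum_irr_eq_sum, ← Finset.sum_filter_add_sum_filter_not Finset.univ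
    (fun χ : IrrCharacter L => χ.1 ∈ relSet K)] at h
  have h2 := sum_notRel_sq K
  have h4 : ∑ χ ∈ Finset.univ.filter (fun χ : IrrCharacter L => χ.1 ∉ relSet K),
      χ.1 a * conj (χ.1 a) = (K.index : ℂ) := by
    rw [← h2]
    refine Finset.sum_congr rfl fun χ hχ => ?_
    have hnot := (Finset.mem_filter.mp hχ).2
    have : χ.1 a = χ.1 1 := by
      by_contra hne
      exact hnot ⟨χ.2, a, ha, hne⟩
    rw [this, irr_one_conj]
  rw [h4] at h
  linear_combination h

include hfpf hab in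
/-- A class function of `L` orthogonal to the differences of relevant characters, with integral
multiplicities on `K`: constant integer `v` on `K ∖ 1` and value `≡ v (mod |K|)` at `1`. -/
theorem const_of_orth_diff [Fintype K] (hK : ∃ k ∈ K, k ≠ 1) (D : L → ℂ)
    (hD : IsClassFunction L D)
    (horth : ∀ χ ∈ relSet K, ∀ ξ ∈ relSet K, classInner (χ - ξ) D = 0)
    (hint : ∀ τ : IrrCharacter K, ∃ z : ℤ, classInner (fun k : K => D k) τ.1 = z) :
    ∃ v s : ℤ, (∀ k : L, k ∈ K → k ≠ 1 → D k = v) ∧ D 1 = v + s * Nat.card K := by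
  have hDK : IsClassFunction K (fun k : K => D k) := fun g h => hD (g : L) (h : L)
  have hA : ∀ a b : K, a * b = b * a := fun a b => Subtype.ext (hab a a.2 b b.2)
  -- orthogonality to the whole span
  have horth' : ∀ α ∈ zspanOn (relSet K) ({1}ᶜ : Set L), classInner α D = 0 := by
    by_cases hR : ∃ χ₀, χ₀ ∈ relSet K
    · obtain ⟨χ₀, hχ₀⟩ := hR
      have key : ∀ α ∈ zspan (relSet K), ∃ m : ℤ, classInner α D = m * classInner χ₀ D ∧
          α 1 = m * (K.index : ℂ) := by
        intro α hα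
        unfold zspan at hα
        induction hα using Submodule.span_induction with
        | mem χ hχ =>
          refine ⟨1, ?_, ?_⟩
          · have := horth χ hχ χ₀ hχ₀
            rw [classInner_sub_left] at this
            rw [Int.cast_one, one_mul]
            exact sub_eq_zero.mp this
          · rw [Int.cast_one, one_mul]; exact relSet_degree K hfpf hab hχ
        | zero => exact ⟨0, by rw [classInner_zero_left]; simp, by simp⟩
        | add a b _ _ iha ihb =>
          obtain ⟨m₁, h1, h1'⟩ := iha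
          obtain ⟨m₂, h2, h2'⟩ := ihb
          refine ⟨m₁ + m₂, ?_, ?_⟩
          · rw [classInner_add_left, h1, h2]; push_cast; ring
          · rw [Pi.add_apply, h1', h2']; push_cast; ring
        | smul n a _ iha =>
          obtain ⟨m₁, h1, h1'⟩ := iha
          refine ⟨n * m₁, ?_, ?_⟩
          · rw [← Int.cast_smul_eq_zsmul ℂ, classInner_smul_left, h1]; push_cast; ring
          · rw [Pi.smul_apply, h1', zsmul_eq_mul]; push_cast; ring
      intro α hα
      obtain ⟨m, hm, hm1⟩ := key α hα.1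
      have h1 : α 1 = 0 := hα.2 1 (by simp)
      have hidx : (K.index : ℂ) ≠ 0 := by
        have : K.index ≠ 0 := Subgroup.index_ne_zero_of_finite
        exact_mod_cast this
      rw [h1] at hm1
      have hm0 : (m : ℂ) = 0 := by
        rcases mul_eq_zero.mp hm1.symm with h | h
        · exact h
        · exact absurd h hidx
      rw [hm, hm0, zero_mul]
    · push Not at hR
      intro α hα
      have : α = 0 := by
        have hα' := hα.1
        unfold zspan at hα'
        have hempty : relSet K = ∅ := Set.eq_empty_of_forall_notMem hR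
        rw [hempty, Submodule.span_empty] at hα'
        exact hα'
      rw [this, classInner_zero_left]
  obtain ⟨s₀, hs₀, hconst⟩ := const_of_orth K hfpf D hD horth'
  have hdeg : ∀ τ : IrrCharacter K, τ.1 1 = 1 := fun τ =>
    (Cfsg.Agent.H83.IsIrrCharacter.linear_of_comm hA τ.2).1
  obtain ⟨k₀, hk₀, hk₀1⟩ := hK
  haveI : Nontrivial K := ⟨⟨⟨k₀, hk₀⟩, 1, fun h => hk₀1 (congrArg Subtype.val h)⟩⟩
  obtain ⟨τ₀, hτ₀⟩ := exists_irr_ne_one (K := K)
  obtain ⟨s, hs⟩ := hint τ₀
  obtain ⟨z₁, hz₁⟩ := hint (trivialIrr K)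
  have hs₀s : s₀ = s := by
    rw [← hs, hs₀ τ₀ hτ₀, hdeg τ₀, mul_one]
  refine ⟨z₁ - s, s, fun k hk hk1 => ?_, ?_⟩
  · have := hconst ⟨k, hk⟩ (fun h => hk1 (congrArg Subtype.val h))
    push_cast
    rw [← hz₁, ← hs₀s]
    exact this
  · have hexp := classFunction_eq_finsum hDK
    have h1 := congrFun hexp 1
    rw [finsum_irr_apply, finsum_irr_eq_sum] at h1
    have hterm : ∀ τ : IrrCharacter K, classInner (fun k : K => D k) τ.1 * τ.1 1 =
        (s : ℂ) + if τ = trivialIrr K then ((z₁ : ℂ) - s) else 0 := by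
      intro τ
      split_ifs with hτ
      · subst hτ
        rw [hz₁, hdeg]; ring
      · have hτ' : (τ : K → ℂ) ≠ (fun _ => 1) := fun h => hτ (Subtype.ext h)
        rw [hs₀ τ hτ', hdeg, hs₀s]; ring
    have hcardIrr : ((Finset.univ : Finset (IrrCharacter K)).card : ℂ) = (Nat.card K : ℂ) := by
      have hsq := sum_irr_sq (G := K)
      rw [finsum_irr_eq_sum] at hsq
      rw [← hsq, Finset.sum_congr rfl (fun τ _ => by rw [hdeg τ, one_pow]), Finset.sum_const,
        nsmul_eq_mul, mul_one]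
    simp only [OneMemClass.coe_one] at h1
    rw [h1, Finset.sum_congr rfl (fun τ _ => hterm τ), Finset.sum_add_distrib, Finset.sum_const,
      nsmul_eq_mul, hcardIrr, Finset.sum_ite_eq' Finset.univ (trivialIrr K)]
    simp only [Finset.mem_univ, if_true]
    push_cast
    ring

end NLevel

section GLevel

open Classical

variable {G : Type u} [Group G] [Fintype G] (P : Subgroup G)
  (hTI : ∀ g : G, g ∉ Subgroup.normalizer (P : Set G) → ∀ k ∈ P, g * k * g⁻¹ ∈ P → k = 1)
  (hC : ∀ k ∈ P, k ≠ 1 → Subgroup.centralizer ({k} : Set G) ≤ P)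
  (hab : ∀ a ∈ P, ∀ b ∈ P, a * b = b * a)

include hC in
theorem fpfK : ∀ x : Subgroup.normalizer (P : Set G),
    x ∉ P.subgroupOf (Subgroup.normalizer (P : Set G)) →
    ∀ k ∈ P.subgroupOf (Subgroup.normalizer (P : Set G)), x * k = k * x → k = 1 :=
  normalizer_fpf P hC

include hab in
theorem abK : ∀ a ∈ P.subgroupOf (Subgroup.normalizer (P : Set G)),
    ∀ b ∈ P.subgroupOf (Subgroup.normalizer (P : Set G)), a * b = b * a := by
  intro a ha b hb
  rw [Subgroup.mem_subgroupOf] at ha hb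
  exact Subtype.ext (hab a ha b hb)

theorem card_K : Nat.card (P.subgroupOf (Subgroup.normalizer (P : Set G))) = Nat.card P :=
  Nat.card_congr (Subgroup.subgroupOfEquivOfLe Subgroup.le_normalizer).toEquiv

include hTI hC hab in
/-- The exceptional characters attached to the relevant characters of the normalizer. -/
theorem exists_exc (m : ℕ) (hm : 2 ≤ m)
    (hcard : (Finset.univ.filter (fun χ : IrrCharacter (Subgroup.normalizer (P : Set G)) =>
      χ.1 ∈ relSet (P.subgroupOf (Subgroup.normalizer (P : Set G))))).card = m) :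
    ∃ (χ : Fin m → IrrCharacter (Subgroup.normalizer (P : Set G))) (ε : ℤ)
      (θ : Fin m → IrrCharacter G), Function.Injective χ ∧
      (∀ ξ : IrrCharacter (Subgroup.normalizer (P : Set G)),
        ξ.1 ∈ relSet (P.subgroupOf (Subgroup.normalizer (P : Set G))) ↔ ∃ i, χ i = ξ) ∧
      (ε = 1 ∨ ε = -1) ∧ Function.Injective θ ∧
      ∀ i j, indFun (Subgroup.normalizer (P : Set G)) (χ i).1 -
        indFun (Subgroup.normalizer (P : Set G)) (χ j).1 = (ε : ℂ) • ((θ i).1 - (θ j).1) := by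
  have hfpf := fpfK P hC
  have habK := abK P hab
  set Rf := Finset.univ.filter (fun χ : IrrCharacter (Subgroup.normalizer (P : Set G)) =>
      χ.1 ∈ relSet (P.subgroupOf (Subgroup.normalizer (P : Set G)))) with hRf
  let eqv : Fin m ≃ Rf := (Rf.equivFinOfCardEq hcard).symm
  let χ : Fin m → IrrCharacter (Subgroup.normalizer (P : Set G)) := fun i => (eqv i).1
  have hχmem : ∀ i, (χ i).1 ∈ relSet (P.subgroupOf (Subgroup.normalizer (P : Set G))) :=
    fun i => (Finset.mem_filter.mp (eqv i).2).2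
  have hχinj : Function.Injective χ := fun i j h => eqv.injective (Subtype.ext h)
  obtain ⟨ε, hε, θ, hθirr, hθinj, hθ⟩ := exceptional_characters (P : Set G) hTI m hm
    (fun i => (χ i).1) (fun i => (χ i).2) (fun i j h => hχinj (Subtype.ext h))
    (fun i x hx => relSet_vanish _ hfpf (hχmem i) (fun hmem => hx hmem))
    (fun i j => by
      rw [relSet_degree _ hfpf habK (hχmem i), relSet_degree _ hfpf habK (hχmem j)])
  obtain ⟨ε', hε'⟩ : ∃ ε' : ℤ, (ε' = 1 ∨ ε' = -1) ∧ (ε' : ℂ) = ε := by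
    rcases hε with h | h
    · exact ⟨1, Or.inl rfl, by rw [h]; simp⟩
    · exact ⟨-1, Or.inr rfl, by rw [h]; simp⟩
  refine ⟨χ, ε', fun i => ⟨θ i, hθirr i⟩, hχinj, fun ξ => ⟨fun h => ?_, ?_⟩, hε'.1,
    fun i j h => hθinj (congrArg Subtype.val h), fun i j => ?_⟩
  · have hmem : ξ ∈ Rf := Finset.mem_filter.mpr ⟨Finset.mem_univ _, h⟩
    exact ⟨eqv.symm ⟨ξ, hmem⟩, by simp [χ]⟩
  · rintro ⟨i, rfl⟩
    exact hχmem i
  · rw [hε'.2]
    exact hθ i j

variable {m : ℕ} (χ : Fin m → IrrCharacter (Subgroup.normalizer (P : Set G))) (ε : ℤ)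
  (θ : Fin m → IrrCharacter G) (hχinj : Function.Injective χ)
  (hχ : ∀ ξ : IrrCharacter (Subgroup.normalizer (P : Set G)),
    ξ.1 ∈ relSet (P.subgroupOf (Subgroup.normalizer (P : Set G))) ↔ ∃ i, χ i = ξ)
  (hε : ε = 1 ∨ ε = -1) (hθinj : Function.Injective θ)
  (hθ : ∀ i j, indFun (Subgroup.normalizer (P : Set G)) (χ i).1 -
    indFun (Subgroup.normalizer (P : Set G)) (χ j).1 = (ε : ℂ) • ((θ i).1 - (θ j).1))

include hθ in
theorem inner_res (ψ : IrrCharacter G) (i j : Fin m) :
    classInner ((χ i).1 - (χ j).1) (fun n : Subgroup.normalizer (P : Set G) => ψ.1 n) =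
      (ε : ℂ) * ((if θ i = ψ then 1 else 0) - (if θ j = ψ then 1 else 0)) := by
  rw [← frobenius_reciprocity (Subgroup.normalizer (P : Set G)) _ ψ.1 (irr_isClassFunction ψ),
    indFun_sub, hθ i j, classInner_smul_left, classInner_sub_left, irr_inner, irr_inner]

include hC hab hχ hθ in
/-- Non-exceptional characters are constant integers on `P ∖ 1`. -/
theorem nonexc_const (hnt : ∃ a ∈ P, a ≠ 1) (ψ : IrrCharacter G) (hψ : ∀ i, θ i ≠ ψ) :
    ∃ v s : ℤ, (∀ k ∈ P, k ≠ 1 → ψ.1 k = v) ∧ ψ.1 1 = v + s * Nat.card P := by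
  have hfpf := fpfK P hC
  have habK := abK P hab
  have hK : ∃ k ∈ P.subgroupOf (Subgroup.normalizer (P : Set G)), k ≠ 1 := by
    obtain ⟨a, ha, ha1⟩ := hnt
    exact ⟨⟨a, Subgroup.le_normalizer ha⟩, Subgroup.mem_subgroupOf.mpr ha,
      fun h => ha1 (congrArg Subtype.val h)⟩
  obtain ⟨v, s, hv, hs⟩ := const_of_orth_diff (P.subgroupOf (Subgroup.normalizer (P : Set G)))
    hfpf habK hK (fun n : Subgroup.normalizer (P : Set G) => ψ.1 n)
    (fun g h => irr_isClassFunction ψ (g : G) (h : G))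
    (fun ξ₁ h₁ ξ₂ h₂ => by
      obtain ⟨i, hi⟩ := (hχ ⟨ξ₁, h₁.1⟩).mp h₁
      obtain ⟨j, hj⟩ := (hχ ⟨ξ₂, h₂.1⟩).mp h₂
      have := inner_res P χ ε θ hθ ψ i j
      rw [hi, hj, if_neg (hψ i), if_neg (hψ j), sub_self, mul_zero] at this
      exact this)
    (fun τ => by
      obtain ⟨n, hn⟩ := classInner_isCharacter_nat
        (isCharacter_comp ((Subgroup.normalizer (P : Set G)).subtype.comp
          (P.subgroupOf (Subgroup.normalizer (P : Set G))).subtype)
          (isCharacter_of_isIrrCharacter ψ.2)) (isCharacter_of_isIrrCharacter τ.2)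
      exact ⟨n, by rw [Int.cast_natCast, ← hn]; rfl⟩)
  rw [card_K] at hs
  refine ⟨v, s, fun k hk hk1 => ?_, hs⟩
  exact hv ⟨k, Subgroup.le_normalizer hk⟩ (Subgroup.mem_subgroupOf.mpr hk)
    (fun h => hk1 (congrArg Subtype.val h))

include hC hab hχ hχinj hθinj hθ hε in
/-- Exceptional characters: `θ_i - ε χ_i` is a constant integer on `P ∖ 1`. -/
theorem exc_const (hnt : ∃ a ∈ P, a ≠ 1) (i : Fin m) :
    ∃ c s : ℤ, (∀ k : Subgroup.normalizer (P : Set G), (k : G) ∈ P → k ≠ 1 →
        (θ i).1 k - ε * (χ i).1 k = c) ∧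
      (θ i).1 1 - ε * (χ i).1 1 = c + s * Nat.card P := by
  have hfpf := fpfK P hC
  have habK := abK P hab
  have hK : ∃ k ∈ P.subgroupOf (Subgroup.normalizer (P : Set G)), k ≠ 1 := by
    obtain ⟨a, ha, ha1⟩ := hnt
    exact ⟨⟨a, Subgroup.le_normalizer ha⟩, Subgroup.mem_subgroupOf.mpr ha,
      fun h => ha1 (congrArg Subtype.val h)⟩
  have hD : (fun n : Subgroup.normalizer (P : Set G) => (θ i).1 n - ε * (χ i).1 n) =
      (fun n : Subgroup.normalizer (P : Set G) => (θ i).1 n) - (ε : ℂ) • (χ i).1 := by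
    funext n; simp
  obtain ⟨c, s, hc, hs⟩ := const_of_orth_diff (P.subgroupOf (Subgroup.normalizer (P : Set G)))
    hfpf habK hK (fun n : Subgroup.normalizer (P : Set G) => (θ i).1 n - ε * (χ i).1 n)
    (fun g h => by
      have h1 := irr_isClassFunction (θ i) (g : G) (h : G)
      have h2 := irr_isClassFunction (χ i) g h
      simp only [Subgroup.coe_mul, InvMemClass.coe_inv]
      rw [h1, h2])
    (fun ξ₁ h₁ ξ₂ h₂ => by
      obtain ⟨j, hj⟩ := (hχ ⟨ξ₁, h₁.1⟩).mp h₁
      obtain ⟨k, hk⟩ := (hχ ⟨ξ₂, h₂.1⟩).mp h₂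
      have h3 := inner_res P χ ε θ hθ (θ i) j k
      rw [hj, hk] at h3
      rw [hD, classInner_sub_right, h3, classInner_smul_right, map_intCast]
      have e1 : classInner (ξ₁ - ξ₂) (χ i).1 =
          (if j = i then 1 else 0) - (if k = i then 1 else 0) := by
        have hj' : ξ₁ = (χ j).1 := by rw [hj]
        have hk' : ξ₂ = (χ k).1 := by rw [hk]
        rw [hj', hk', classInner_sub_left, irr_inner, irr_inner]
        simp only [hχinj.eq_iff]
      rw [e1]
      simp only [hθinj.eq_iff]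
      ring)
    (fun τ => by
      obtain ⟨n1, hn1⟩ := classInner_isCharacter_nat
        (isCharacter_comp ((Subgroup.normalizer (P : Set G)).subtype.comp
          (P.subgroupOf (Subgroup.normalizer (P : Set G))).subtype)
          (isCharacter_of_isIrrCharacter (θ i).2)) (isCharacter_of_isIrrCharacter τ.2)
      obtain ⟨n2, hn2⟩ := classInner_isCharacter_nat
        (isCharacter_comp (P.subgroupOf (Subgroup.normalizer (P : Set G))).subtype
          (isCharacter_of_isIrrCharacter (χ i).2)) (isCharacter_of_isIrrCharacter τ.2)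
      refine ⟨(n1 : ℤ) - ε * n2, ?_⟩
      have e : (fun k : P.subgroupOf (Subgroup.normalizer (P : Set G)) =>
          (θ i).1 ((k : Subgroup.normalizer (P : Set G)) : G) - ε * (χ i).1 k) =
          (fun k => (θ i).1 (((Subgroup.normalizer (P : Set G)).subtype.comp
            (P.subgroupOf (Subgroup.normalizer (P : Set G))).subtype) k)) -
          (ε : ℂ) • (fun k => (χ i).1
            ((P.subgroupOf (Subgroup.normalizer (P : Set G))).subtype k)) := by
        funext k; simp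
      rw [e, classInner_sub_left, classInner_smul_left, hn1, hn2]
      push_cast
      ring)
  rw [card_K] at hs
  exact ⟨c, s, fun k hk hk1 => hc k (Subgroup.mem_subgroupOf.mpr hk) hk1, hs⟩

include hTI hC hab hχ hχinj hθinj hθ hε in
/-- Values and degrees of the exceptional characters. -/
theorem exc_values (hnt : ∃ a ∈ P, a ≠ 1) (hm : 0 < m) :
    ∃ (c : ℤ) (d : ℕ) (s : ℤ), d ∣ Nat.card G ∧ (∀ i, (θ i).1 1 = d) ∧
      (∀ i, ∀ k : Subgroup.normalizer (P : Set G), (k : G) ∈ P → k ≠ 1 →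
        (θ i).1 k = ε * (χ i).1 k + c) ∧
      (d : ℤ) - ε * ((P.subgroupOf (Subgroup.normalizer (P : Set G))).index : ℤ) =
        c + s * Nat.card P := by
  have hfpf := fpfK P hC
  have habK := abK P hab
  have hχmem : ∀ i, (χ i).1 ∈ relSet (P.subgroupOf (Subgroup.normalizer (P : Set G))) :=
    fun i => (hχ (χ i)).mpr ⟨i, rfl⟩
  have hdeg : ∀ i, (χ i).1 1 =
      ((P.subgroupOf (Subgroup.normalizer (P : Set G))).index : ℂ) :=
    fun i => relSet_degree _ hfpf habK (hχmem i)
  have hε0 : (ε : ℂ) ≠ 0 := by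
    rcases hε with h | h <;> rw [h] <;> simp
  let i₀ : Fin m := ⟨0, hm⟩
  obtain ⟨c, s, hc, hs⟩ := exc_const P hC hab χ ε θ hχinj hχ hε hθinj hθ hnt i₀
  obtain ⟨d, -, hddvd, hd⟩ := Cfsg.Agent.H81.irr_degree_dvd (θ i₀)
  refine ⟨c, d, s, hddvd, fun i => ?_, fun i k hk hk1 => ?_, ?_⟩
  · have h := congrFun (hθ i i₀) 1
    rw [Pi.sub_apply, indFun_one_eq, indFun_one_eq, hdeg i, hdeg i₀, sub_self, Pi.smul_apply,
      Pi.sub_apply, smul_eq_mul] at h
    rcases mul_eq_zero.mp h.symm with h' | h'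
    · exact absurd h' hε0
    · rw [← hd]; exact sub_eq_zero.mp h'
  · have h := congrFun (hθ i i₀) (k : G)
    have hvan : ∀ j, ∀ x : Subgroup.normalizer (P : Set G), (x : G) ∉ (P : Set G) →
        (χ j).1 x = 0 := fun j x hx => relSet_vanish _ hfpf (hχmem j) (fun hmem => hx hmem)
    rw [Pi.sub_apply, indFun_TI (P : Set G) hTI (χ i).1 (irr_isClassFunction (χ i)) (hvan i) k hk
      hk1, indFun_TI (P : Set G) hTI (χ i₀).1 (irr_isClassFunction (χ i₀)) (hvan i₀) k hk hk1,
      Pi.smul_apply, Pi.sub_apply, smul_eq_mul] at h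
    have h2 := hc k hk hk1
    have hε2 : (ε : ℂ) * ε = 1 := by
      rcases hε with h | h <;> rw [h] <;> simp
    linear_combination (-(ε : ℂ)) * h + h2 - ((θ i).1 (k : G) - (θ i₀).1 (k : G)) * hε2
  · have h : ((d : ℤ) - ε * ((P.subgroupOf (Subgroup.normalizer (P : Set G))).index : ℤ) : ℂ) =
        ((c + s * Nat.card P : ℤ) : ℂ) := by
      push_cast
      rw [← hd, ← hdeg i₀]
      exact hs
    exact_mod_cast h

include hTI hC hab hχ hχinj hθinj hθ hε in
/-- The principal character is not exceptional. -/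
theorem triv_nonexc (hnt : ∃ a ∈ P, a ≠ 1) (hm : 2 ≤ m) (i : Fin m) : θ i ≠ trivialIrr G := by
  intro hi
  have hfpf := fpfK P hC
  have hχmem : ∀ i, (χ i).1 ∈ relSet (P.subgroupOf (Subgroup.normalizer (P : Set G))) :=
    fun i => (hχ (χ i)).mpr ⟨i, rfl⟩
  obtain ⟨c, d, s, -, -, hk, -⟩ := exc_values P hTI hC hab χ ε θ hχinj hχ hε hθinj hθ hnt
    (by omega)
  haveI : Nontrivial (Fin m) := Fin.nontrivial_iff_two_le.mpr hm
  obtain ⟨j, hj⟩ := exists_ne i
  obtain ⟨a, b, ha, hb, hne⟩ := relSet_not_const _ hfpf (hχmem i) (hχmem j)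
    (fun h => hj (hχinj (Subtype.ext h)).symm)
  have hε2 : (ε : ℂ) * ε = 1 := by
    rcases hε with h | h <;> rw [h] <;> simp
  have hval : ∀ k : P.subgroupOf (Subgroup.normalizer (P : Set G)), k ≠ 1 →
      (χ i).1 k = ε * (1 - c) := by
    intro k hk1
    have h := hk i k (Subgroup.mem_subgroupOf.mp k.2) (fun h => hk1 (Subtype.ext h))
    rw [hi] at h
    change (1 : ℂ) = _ at h
    linear_combination (-(ε : ℂ)) * h - ((χ i).1 k) * hε2
  exact hne ((hval a ha).trans (hval b hb).symm)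

include hTI hC hab hχ hχinj hθinj hθ hε in
/-- The two orthogonality relations on the column of `a ∈ P ∖ 1`. -/
theorem degree_equation_aux (hnt : ∃ a ∈ P, a ≠ 1) (hm : 2 ≤ m) :
    ∃ (c : ℤ) (d : ℕ) (s : ℤ) (v : IrrCharacter G → ℤ) (x : IrrCharacter G → ℕ)
      (T : Finset (IrrCharacter G)),
      d ∣ Nat.card G ∧
      (d : ℤ) - ε * ((P.subgroupOf (Subgroup.normalizer (P : Set G))).index : ℤ) =
        c + s * Nat.card P ∧
      (∀ ψ ∈ T, ψ ≠ trivialIrr G ∧ x ψ ∣ Nat.card G ∧ ψ.1 1 = x ψ ∧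
        ∃ t : ℤ, (x ψ : ℤ) = v ψ + t * Nat.card P) ∧
      ∑ ψ ∈ T, v ψ ^ 2 = ((P.subgroupOf (Subgroup.normalizer (P : Set G))).index : ℤ) - 1 +
        2 * ε * c - m * c ^ 2 ∧
      1 + ∑ ψ ∈ T, v ψ * x ψ = d * (ε - m * c) := by
  have hfpf := fpfK P hC
  have habK := abK P hab
  obtain ⟨c, d, s, hddvd, hθ1, hθk, hds⟩ := exc_values P hTI hC hab χ ε θ hχinj hχ hε hθinj hθ
    hnt (by omega)
  have htriv := triv_nonexc P hTI hC hab χ ε θ hχinj hχ hε hθinj hθ hnt hm
  obtain ⟨a, haP, ha1⟩ := hnt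
  obtain ⟨a', ha'⟩ : ∃ a' : Subgroup.normalizer (P : Set G), (a' : G) = a :=
    ⟨⟨a, Subgroup.le_normalizer haP⟩, rfl⟩
  have ha'P : (a' : G) ∈ P := by rw [ha']; exact haP
  have ha'K : a' ∈ P.subgroupOf (Subgroup.normalizer (P : Set G)) :=
    Subgroup.mem_subgroupOf.mpr ha'P
  have ha'1 : a' ≠ 1 := fun h => ha1 (by rw [← ha', h]; rfl)
  choose x hx0 hxdvd hx using fun ψ : IrrCharacter G => Cfsg.Agent.H81.irr_degree_dvd ψ
  have hne : ∀ ψ : IrrCharacter G, ∃ v t : ℤ, (∀ i, θ i ≠ ψ) →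
      ((∀ k ∈ P, k ≠ 1 → ψ.1 k = v) ∧ ψ.1 1 = v + t * Nat.card P) := by
    intro ψ
    by_cases h : ∀ i, θ i ≠ ψ
    · obtain ⟨v, t, h1, h2⟩ := nonexc_const P hC hab χ ε θ hχ hθ ⟨a, haP, ha1⟩ ψ h
      exact ⟨v, t, fun _ => ⟨h1, h2⟩⟩
    · exact ⟨0, 0, fun h' => absurd h' h⟩
  choose v t hvt using hne
  set Θ : Finset (IrrCharacter G) := Finset.univ.image θ with hΘ
  have hΘc : ∀ ψ, ψ ∈ Θᶜ ↔ ∀ i, θ i ≠ ψ := by
    intro ψ
    simp [hΘ]
  set T : Finset (IrrCharacter G) := Θᶜ.erase (trivialIrr G) with hT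
  have htrivmem : trivialIrr G ∈ Θᶜ := (hΘc _).mpr htriv
  have hTmem : ∀ ψ ∈ T, ∀ i, θ i ≠ ψ := fun ψ hψ => (hΘc ψ).mp (Finset.mem_of_mem_erase hψ)
  -- sums over the relevant characters
  have hRf : Finset.univ.filter (fun ξ : IrrCharacter (Subgroup.normalizer (P : Set G)) =>
      ξ.1 ∈ relSet (P.subgroupOf (Subgroup.normalizer (P : Set G)))) = Finset.univ.image χ := by
    ext ξ
    simp only [Finset.mem_filter, Finset.mem_univ, true_and, Finset.mem_image]
    exact hχ ξ
  have hA : ∑ i, (χ i).1 a' = -1 := by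
    have := sum_rel _ hfpf habK a' ha'K ha'1
    rwa [hRf, Finset.sum_image (fun i _ j _ h => hχinj h)] at this
  have hB : ∑ i, (χ i).1 a' * conj ((χ i).1 a') = (Nat.card P : ℂ) -
      (P.subgroupOf (Subgroup.normalizer (P : Set G))).index := by
    have := sum_rel_sq _ hfpf habK a' ha'K ha'1
    rwa [hRf, Finset.sum_image (fun i _ j _ h => hχinj h), card_K] at this
  have hAc : ∑ i, conj ((χ i).1 a') = -1 := by
    rw [← map_sum, hA]; simp
  have hε2 : (ε : ℂ) * ε = 1 := by
    rcases hε with h | h <;> rw [h] <;> simp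
  have hθa : ∀ i, (θ i).1 a = ε * (χ i).1 a' + c := fun i => by
    rw [← ha']; exact hθk i a' ha'P ha'1
  have hψa : ∀ ψ ∈ T, ψ.1 a = v ψ := fun ψ hψ => (hvt ψ (hTmem ψ hψ)).1 a haP ha1
  refine ⟨c, d, s, v, x, T, hddvd, hds, fun ψ hψ => ⟨Finset.ne_of_mem_erase hψ, hxdvd ψ, hx ψ,
    t ψ, ?_⟩, ?_, ?_⟩
  · have h2 := (hvt ψ (hTmem ψ hψ)).2
    rw [hx ψ] at h2
    exact_mod_cast h2
  · -- column of `a` against itself
    have hcard : Nat.card {g : G // g * a * g⁻¹ = a} = Nat.card P := by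
      apply Nat.card_congr
      refine Equiv.subtypeEquivRight fun g => ?_
      constructor
      · intro hg
        apply hC a haP ha1
        rw [Subgroup.mem_centralizer_iff]
        intro h hh
        rw [Set.mem_singleton_iff] at hh
        subst hh
        calc h * g = g * h * g⁻¹ * g := by rw [hg]
          _ = g * h := by group
      · intro hg
        rw [hab g hg a haP]; group
    have haa := column_orthogonality (G := G) a a
    rw [hcard, finsum_irr_eq_sum, ← Finset.sum_add_sum_compl Θ, hΘ,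
      Finset.sum_image (fun i _ j _ h => hθinj h), ← hΘ, ← Finset.add_sum_erase _ _ htrivmem,
      ← hT] at haa
    have hterm : ∀ i, (θ i).1 a * conj ((θ i).1 a) = (χ i).1 a' * conj ((χ i).1 a') +
        ε * c * (χ i).1 a' + ε * c * conj ((χ i).1 a') + c * c := by
      intro i
      rw [hθa i, map_add, map_mul, map_intCast, map_intCast]
      linear_combination ((χ i).1 a' * conj ((χ i).1 a')) * hε2
    have hS1 : ∑ i, (θ i).1 a * conj ((θ i).1 a) = (Nat.card P : ℂ) -
        (P.subgroupOf (Subgroup.normalizer (P : Set G))).index - 2 * ε * c + m * (c * c) := by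
      rw [Finset.sum_congr rfl (fun i _ => hterm i), Finset.sum_add_distrib,
        Finset.sum_add_distrib, Finset.sum_add_distrib, ← Finset.mul_sum, ← Finset.mul_sum, hA,
        hAc, hB, Finset.sum_const, Finset.card_univ, Fintype.card_fin, nsmul_eq_mul]
      ring
    have hS2 : ∑ ψ ∈ T, ψ.1 a * conj (ψ.1 a) = ((∑ ψ ∈ T, v ψ ^ 2 : ℤ) : ℂ) := by
      rw [Int.cast_sum]
      refine Finset.sum_congr rfl fun ψ hψ => ?_
      rw [hψa ψ hψ, map_intCast]; push_cast; ring
    have htr : (trivialIrr G).1 a * conj ((trivialIrr G).1 a) = 1 := by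
      change (1 : ℂ) * conj (1 : ℂ) = 1
      simp
    rw [hS1, hS2, htr] at haa
    have hfin : ((∑ ψ ∈ T, v ψ ^ 2 : ℤ) : ℂ) =
        (((P.subgroupOf (Subgroup.normalizer (P : Set G))).index : ℤ) - 1 +
          2 * ε * c - m * c ^ 2 : ℤ) := by
      push_cast
      push_cast at haa
      linear_combination haa
    exact_mod_cast hfin
  · -- column of `a` against the column of `1`
    have hemp : IsEmpty {g : G // g * a * g⁻¹ = 1} := by
      constructor
      rintro ⟨g, hg⟩
      apply ha1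
      have : a = g⁻¹ * 1 * g := by rw [← hg]; group
      simpa using this
    have ha1' := column_orthogonality (G := G) a 1
    rw [Nat.card_of_isEmpty, Nat.cast_zero, finsum_irr_eq_sum, ← Finset.sum_add_sum_compl Θ, hΘ,
      Finset.sum_image (fun i _ j _ h => hθinj h), ← hΘ, ← Finset.add_sum_erase _ _ htrivmem,
      ← hT] at ha1'
    have hS1 : ∑ i, (θ i).1 a * conj ((θ i).1 1) = (d : ℂ) * (-ε + m * c) := by
      rw [Finset.sum_congr rfl (fun i _ => by rw [hθa i, hθ1 i, Complex.conj_natCast]),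
        ← Finset.sum_mul, Finset.sum_add_distrib, ← Finset.mul_sum, hA, Finset.sum_const,
        Finset.card_univ, Fintype.card_fin, nsmul_eq_mul]
      ring
    have hS2 : ∑ ψ ∈ T, ψ.1 a * conj (ψ.1 1) = ((∑ ψ ∈ T, v ψ * x ψ : ℤ) : ℂ) := by
      rw [Int.cast_sum]
      refine Finset.sum_congr rfl fun ψ hψ => ?_
      rw [hψa ψ hψ, hx ψ, Complex.conj_natCast]; push_cast; ring
    have htr : (trivialIrr G).1 a * conj ((trivialIrr G).1 1) = 1 := by
      change (1 : ℂ) * conj (1 : ℂ) = 1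
      simp
    rw [hS1, hS2, htr] at ha1'
    have hfin : ((1 + ∑ ψ ∈ T, v ψ * x ψ : ℤ) : ℂ) = ((d * (ε - m * c) : ℤ) : ℂ) := by
      push_cast
      push_cast at ha1'
      linear_combination ha1'
    exact_mod_cast hfin

end GLevel

section Final

open Classical

/-- **Brauer–Suzuki degree equation** for an abelian self-centralizing T.I. subgroup `P` with
`e = |N_G(P) : P|` and `m = (|P| - 1) / e ≥ e + 2` exceptional characters. -/
theorem degree_equation {G : Type u} [Group G] [Fintype G] (P : Subgroup G)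
    (hTI : ∀ g : G, g ∉ Subgroup.normalizer (P : Set G) → ∀ k ∈ P, g * k * g⁻¹ ∈ P → k = 1)
    (hC : ∀ k ∈ P, k ≠ 1 → Subgroup.centralizer ({k} : Set G) ≤ P)
    (hab : ∀ a ∈ P, ∀ b ∈ P, a * b = b * a) (hnt : ∃ a ∈ P, a ≠ 1) (e m : ℕ)
    (he : (P.subgroupOf (Subgroup.normalizer (P : Set G))).index = e)
    (hme : m * e + 1 = Nat.card P) (hm : e + 2 ≤ m)
    (hlin : ∀ ψ : IrrCharacter G, ψ.1 1 = 1 → ψ = trivialIrr G) :
    ∃ ε : ℤ, (ε = 1 ∨ ε = -1) ∧ ∃ d : ℕ, d ∣ Nat.card G ∧
      (∃ s : ℤ, (d : ℤ) = ε * e + s * Nat.card P) ∧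
      ∃ l : List (ℤ × ℕ), (∀ q ∈ l, q.1 ≠ 0 ∧ q.2 ∣ Nat.card G ∧ q.2 ≠ 1 ∧
          ∃ t : ℤ, (q.2 : ℤ) = q.1 + t * Nat.card P) ∧
        (l.map (fun q => q.1 ^ 2)).sum = (e : ℤ) - 1 ∧
        1 + (l.map (fun q => q.1 * (q.2 : ℤ))).sum = ε * d := by
  have hfpf := fpfK P hC
  have habK := abK P hab
  have he0 : e ≠ 0 := by
    rw [← he]; exact Subgroup.index_ne_zero_of_finite
  have hcardRf : (Finset.univ.filter (fun χ : IrrCharacter (Subgroup.normalizer (P : Set G)) =>
      χ.1 ∈ relSet (P.subgroupOf (Subgroup.normalizer (P : Set G))))).card = m := by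
    have h := card_rel _ hfpf habK
    rw [card_K, he, ← hme] at h
    have h' : (Finset.univ.filter (fun χ : IrrCharacter (Subgroup.normalizer (P : Set G)) =>
        χ.1 ∈ relSet (P.subgroupOf (Subgroup.normalizer (P : Set G))))).card * e = m * e := by
      have h2 : (((Finset.univ.filter (fun χ : IrrCharacter (Subgroup.normalizer (P : Set G)) =>
          χ.1 ∈ relSet (P.subgroupOf (Subgroup.normalizer (P : Set G))))).card * e : ℕ) : ℂ) =
          ((m * e : ℕ) : ℂ) := by
        push_cast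
        push_cast at h
        linear_combination h
      exact_mod_cast h2
    exact Nat.eq_of_mul_eq_mul_right (Nat.pos_of_ne_zero he0) h'
  obtain ⟨χ, ε, θ, hχinj, hχ, hε, hθinj, hθ⟩ := exists_exc P hTI hC hab m (by omega) hcardRf
  obtain ⟨c, d, s, v, x, T, hddvd, hds, hT, hsq, hdeg⟩ :=
    degree_equation_aux P hTI hC hab χ ε θ hχinj hχ hε hθinj hθ hnt (by omega)
  rw [he] at hds hsq
  have hc0 : c = 0 := by
    by_contra hc
    have hnn : 0 ≤ ∑ ψ ∈ T, v ψ ^ 2 := Finset.sum_nonneg fun ψ _ => sq_nonneg _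
    have hc2 : 1 ≤ c ^ 2 := by
      rcases lt_or_gt_of_ne hc with h | h <;> nlinarith
    have h2 : 2 * ε * c ≤ 2 * c ^ 2 := by
      rcases hε with h | h <;> rw [h] <;> rcases lt_or_gt_of_ne hc with h' | h' <;> nlinarith
    have hm' : (e : ℤ) + 2 ≤ m := by exact_mod_cast hm
    have h3 : ((m : ℤ) - 2) * 1 ≤ ((m : ℤ) - 2) * c ^ 2 :=
      mul_le_mul_of_nonneg_left hc2 (by linarith)
    linarith
  subst hc0
  refine ⟨ε, hε, d, hddvd, ⟨s, by linarith⟩, (T.filter (fun ψ => v ψ ≠ 0)).toList.map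
    (fun ψ => (v ψ, x ψ)), ?_, ?_, ?_⟩
  · intro q hq
    rw [List.mem_map] at hq
    obtain ⟨ψ, hψ, rfl⟩ := hq
    rw [Finset.mem_toList, Finset.mem_filter] at hψ
    obtain ⟨hne, hdvd, hx1, ht⟩ := hT ψ hψ.1
    refine ⟨hψ.2, hdvd, fun h1 => hne (hlin ψ ?_), ht⟩
    have h1' : x ψ = 1 := h1
    rw [hx1, h1', Nat.cast_one]
  · rw [List.map_map, Finset.sum_map_toList, Finset.sum_filter_of_ne]
    · simpa using hsq
    · intro ψ _ h hv
      apply h
      simp [hv]
  · rw [List.map_map, Finset.sum_map_toList, Finset.sum_filter_of_ne]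
    · have : ε * (d : ℤ) = d * (ε - m * 0) := by ring
      rw [this, ← hdeg]
      simp
    · intro ψ _ h hv
      apply h
      simp [hv]

end Final

section Simple

open Classical

/-- A non-abelian simple group has no non-principal linear character. -/
theorem simple_linear_trivial {G : Type u} [Group G] [IsSimpleGroup G]
    (hG : ¬ IsMulCommutative G) (ψ : IrrCharacter G) (h1 : ψ.1 1 = 1) : ψ = trivialIrr G := by
  apply Subtype.ext
  funext g
  have h := Cfsg.Agent.H21.simple_hom_comm_trivial hG (Cfsg.Agent.H82.irrLinearHom ψ h1) g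
  have h2 := Cfsg.Agent.H82.irrLinearHom_apply ψ h1 g
  rw [h] at h2
  change ψ.1 g = 1
  rw [← h2]; rfl

/-- The degree equation for a self-centralizing subgroup of prime order `p` in a non-abelian
simple group: `e = |N_G(P) : P|`, `m = (p - 1) / e ≥ e + 2`. -/
theorem simple_prime_degree_equation {G : Type u} [Group G] [Finite G] [IsSimpleGroup G]
    (hG : ¬ IsMulCommutative G) {p : ℕ} (hp : p.Prime) (P : Subgroup G) (hP : Nat.card P = p)
    (hCent : Nat.card (Subgroup.centralizer (P : Set G)) = p) (e m : ℕ)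
    (hNorm : Nat.card (Subgroup.normalizer (P : Set G)) = p * e)
    (hme : m * e + 1 = p) (hm : e + 2 ≤ m) :
    ∃ ε : ℤ, (ε = 1 ∨ ε = -1) ∧ ∃ d : ℕ, d ∣ Nat.card G ∧
      (∃ s : ℤ, (d : ℤ) = ε * e + s * p) ∧
      ∃ l : List (ℤ × ℕ), (∀ q ∈ l, q.1 ≠ 0 ∧ q.2 ∣ Nat.card G ∧ q.2 ≠ 1 ∧
          ∃ t : ℤ, (q.2 : ℤ) = q.1 + t * p) ∧
        (l.map (fun q => q.1 ^ 2)).sum = (e : ℤ) - 1 ∧
        1 + (l.map (fun q => q.1 * (q.2 : ℤ))).sum = ε * d := by
  haveI : Fintype G := Fintype.ofFinite G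
  haveI : Fact p.Prime := ⟨hp⟩
  haveI : IsCyclic P := isCyclic_of_prime_card hP
  have hcomm : ∀ a b : P, a * b = b * a := fun a b =>
    (IsCyclic.commGroup (α := P)).mul_comm a b
  have hab : ∀ a ∈ P, ∀ b ∈ P, a * b = b * a := fun a ha b hb =>
    congrArg Subtype.val (hcomm ⟨a, ha⟩ ⟨b, hb⟩)
  have hPC : P ≤ Subgroup.centralizer (P : Set G) := by
    intro x hx
    rw [Subgroup.mem_centralizer_iff]
    intro y hy
    exact hab y hy x hx
  have hCP : Subgroup.centralizer (P : Set G) = P :=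
    (Subgroup.eq_of_le_of_card_ge hPC (by rw [hCent, hP])).symm
  have hord : ∀ k ∈ P, k ≠ 1 → orderOf k = p := fun k hk hk1 =>
    Cfsg.Agent.H21.orderOf_eq_of_mem_card_prime hp P hP k hk hk1
  have hC : ∀ k ∈ P, k ≠ 1 → Subgroup.centralizer ({k} : Set G) ≤ P := by
    intro k hk hk1 x hx
    have hPz := Cfsg.Agent.H21.eq_zpowers_of_card_prime P hP k hk (hord k hk hk1)
    rw [Subgroup.mem_centralizer_iff] at hx
    have hx' := hx k (Set.mem_singleton k)
    have := Cfsg.Agent.H21.mem_centralizer_of_commute_gen P k hPz x hx'.symm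
    rwa [hCP] at this
  have hTI : ∀ g : G, g ∉ Subgroup.normalizer (P : Set G) → ∀ k ∈ P, g * k * g⁻¹ ∈ P →
      k = 1 := by
    intro g hg k hk hc
    by_contra hk1
    apply hg
    exact Subgroup.mem_normalizer_fintype (S := (P : Set G))
      (Cfsg.Agent.H21.conj_mem_of_card_prime P hP k g hk (hord k hk hk1) hc)
  have hnt : ∃ a ∈ P, a ≠ 1 := by
    haveI : Nontrivial P := Finite.one_lt_card_iff_nontrivial.mp (by rw [hP]; exact hp.one_lt)
    obtain ⟨a, ha⟩ := exists_ne (1 : P)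
    exact ⟨a.1, a.2, fun h => ha (Subtype.ext h)⟩
  have he : (P.subgroupOf (Subgroup.normalizer (P : Set G))).index = e := by
    have h := (P.subgroupOf (Subgroup.normalizer (P : Set G))).card_mul_index
    rw [card_K, hP, hNorm] at h
    exact Nat.eq_of_mul_eq_mul_left hp.pos h
  have := degree_equation P hTI hC hab hnt e m he (by rw [hP]; exact hme) hm
    (simple_linear_trivial hG)
  rw [hP] at this
  exact this

end Simple

section Arith

/-- Reduce divisibility modulo a prime factor not dividing the divisor. -/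
theorem dvd_of_dvd_mul_prime {x N p : ℕ} (hp : p.Prime) (hx : x ∣ N * p) (hnd : ¬ p ∣ x) :
    x ∣ N :=
  Nat.Coprime.dvd_of_dvd_mul_right ((Nat.Prime.coprime_iff_not_dvd hp).mpr hnd).symm hx

/-- A list of nonzero integers whose squares sum to `1` is `[±1]`. -/
theorem list_sq_one (l : List (ℤ × ℕ)) (hl : ∀ q ∈ l, q.1 ≠ 0)
    (h : (l.map (fun q => q.1 ^ 2)).sum = 1) :
    ∃ q, l = [q] ∧ (q.1 = 1 ∨ q.1 = -1) := by
  have hnn : ∀ l' : List (ℤ × ℕ), 0 ≤ (l'.map (fun q => q.1 ^ 2)).sum := by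
    intro l'
    apply List.sum_nonneg
    intro z hz
    rw [List.mem_map] at hz
    obtain ⟨q, -, rfl⟩ := hz
    exact sq_nonneg _
  have hpos : ∀ q ∈ l, 1 ≤ q.1 ^ 2 := by
    intro q hq
    have := hl q hq
    rcases lt_or_gt_of_ne this with h' | h' <;> nlinarith
  match l, hl, h, hpos with
  | [], _, h, _ => simp at h
  | [q], _, h, _ =>
    refine ⟨q, rfl, ?_⟩
    simp only [List.map_cons, List.map_nil, List.sum_cons, List.sum_nil, add_zero] at h
    have h1 : q.1 ≤ 1 := by nlinarith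
    have h2 : -1 ≤ q.1 := by nlinarith
    have h3 : q.1 ≠ 0 := by
      intro h0; rw [h0] at h; norm_num at h
    omega
  | q₁ :: q₂ :: l', _, h, hpos =>
    exfalso
    simp only [List.map_cons, List.sum_cons] at h
    have h1 := hpos q₁ (by simp)
    have h2 := hpos q₂ (by simp)
    have h3 := hnn l'
    linarith

/-- A list of nonzero integers whose squares sum to `2` is `[±1, ±1]`. -/
theorem list_sq_two (l : List (ℤ × ℕ)) (hl : ∀ q ∈ l, q.1 ≠ 0)
    (h : (l.map (fun q => q.1 ^ 2)).sum = 2) :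
    ∃ q₁ q₂, l = [q₁, q₂] ∧ (q₁.1 = 1 ∨ q₁.1 = -1) ∧ (q₂.1 = 1 ∨ q₂.1 = -1) := by
  have hnn : ∀ l' : List (ℤ × ℕ), 0 ≤ (l'.map (fun q => q.1 ^ 2)).sum := by
    intro l'
    apply List.sum_nonneg
    intro z hz
    rw [List.mem_map] at hz
    obtain ⟨q, -, rfl⟩ := hz
    exact sq_nonneg _
  have hpos : ∀ q ∈ l, 1 ≤ q.1 ^ 2 := by
    intro q hq
    have := hl q hq
    rcases lt_or_gt_of_ne this with h' | h' <;> nlinarith
  match l, hl, h, hpos with
  | [], _, h, _ => simp at h
  | [q], _, h, _ =>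
    exfalso
    simp only [List.map_cons, List.map_nil, List.sum_cons, List.sum_nil, add_zero] at h
    have h1 : q.1 ≤ 1 := by nlinarith
    have h2 : -1 ≤ q.1 := by nlinarith
    have h3 : q.1 = -1 ∨ q.1 = 0 ∨ q.1 = 1 := by omega
    rcases h3 with h3 | h3 | h3 <;> rw [h3] at h <;> norm_num at h
  | [q₁, q₂], _, h, hpos =>
    refine ⟨q₁, q₂, rfl, ?_, ?_⟩
    · simp only [List.map_cons, List.map_nil, List.sum_cons, List.sum_nil, add_zero] at h
      have h1 := hpos q₁ (by simp)
      have h2 := hpos q₂ (by simp)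
      have h3 : q₁.1 ^ 2 = 1 := by linarith
      have h4 : q₁.1 ≤ 1 := by nlinarith
      have h5 : -1 ≤ q₁.1 := by nlinarith
      have h6 : q₁.1 ≠ 0 := by
        intro h0; rw [h0] at h3; norm_num at h3
      omega
    · simp only [List.map_cons, List.map_nil, List.sum_cons, List.sum_nil, add_zero] at h
      have h1 := hpos q₁ (by simp)
      have h2 := hpos q₂ (by simp)
      have h3 : q₂.1 ^ 2 = 1 := by linarith
      have h4 : q₂.1 ≤ 1 := by nlinarith
      have h5 : -1 ≤ q₂.1 := by nlinarith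
      have h6 : q₂.1 ≠ 0 := by
        intro h0; rw [h0] at h3; norm_num at h3
      omega
  | q₁ :: q₂ :: q₃ :: l', _, h, hpos =>
    exfalso
    simp only [List.map_cons, List.sum_cons] at h
    have h1 := hpos q₁ (by simp)
    have h2 := hpos q₂ (by simp)
    have h3 := hpos q₃ (by simp)
    have h4 := hnn l'
    linarith

end Arith

section SimpleSylow

open Classical

/-- Sylow set-up for the degree equation: `|G| = p M`, `p ∤ M`, the only admissible number of
Sylow `p`-subgroups is `n₀ = M / e` with `e` prime, `m = (p - 1) / e ≥ e + 2`. -/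
theorem simple_sylow_degree_equation {G : Type u} [Group G] [Finite G] [IsSimpleGroup G]
    (hG : ¬ IsMulCommutative G) {p : ℕ} (hp : p.Prime) {M : ℕ} (hcard : Nat.card G = p * M)
    (hpM : ¬ p ∣ M) (n₀ e m : ℕ) (hn₀ : ∀ n, n ∣ M → n % p = 1 → n ≠ 1 → n = n₀)
    (hM : M = n₀ * e) (he : e.Prime) (hme : m * e + 1 = p) (hm : e + 2 ≤ m) :
    ∃ ε : ℤ, (ε = 1 ∨ ε = -1) ∧ ∃ d : ℕ, d ∣ Nat.card G ∧
      (∃ s : ℤ, (d : ℤ) = ε * e + s * p) ∧
      ∃ l : List (ℤ × ℕ), (∀ q ∈ l, q.1 ≠ 0 ∧ q.2 ∣ Nat.card G ∧ q.2 ≠ 1 ∧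
          ∃ t : ℤ, (q.2 : ℤ) = q.1 + t * p) ∧
        (l.map (fun q => q.1 ^ 2)).sum = (e : ℤ) - 1 ∧
        1 + (l.map (fun q => q.1 * (q.2 : ℤ))).sum = ε * d := by
  haveI : Fact p.Prime := ⟨hp⟩
  let P : Sylow p G := default
  obtain ⟨hPcard, -, -, hdvd, hmod, hne1, -, hNmul, -⟩ :=
    Cfsg.Agent.H21.simple_sylow_facts hG (p := p) (k := 1) (m := M)
      (by rw [hcard, pow_one]) hpM one_ne_zero P
  rw [pow_one] at hPcard
  have hn := hn₀ _ hdvd hmod hne1
  have hn₀pos : 0 < n₀ := by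
    rw [← hn]; exact Nat.card_pos
  have hN : Nat.card (Subgroup.normalizer ((P : Subgroup G) : Set G)) = p * e := by
    rw [hn, hcard, hM] at hNmul
    have h2 : Nat.card (Subgroup.normalizer ((P : Subgroup G) : Set G)) * n₀ = (p * e) * n₀ := by
      rw [hNmul]; ring
    exact Nat.eq_of_mul_eq_mul_right hn₀pos h2
  obtain ⟨d, hd, hd1, -, hpd⟩ := Cfsg.Agent.H21.simple_sylow_prime_card_NC hG P hPcard
  rw [hN] at hpd
  have hde : d ∣ e := (Nat.mul_dvd_mul_iff_left hp.pos).mp hpd
  have hd_eq : d = e := by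
    rcases (Nat.dvd_prime he).mp hde with h | h
    · exact absurd h hd1
    · exact h
  have hCcard : Nat.card (Subgroup.centralizer ((P : Subgroup G) : Set G)) = p := by
    have h := Cfsg.Agent.H21.card_centralizer_mul_relIndex_normalizer (P : Subgroup G)
    rw [← hd, hd_eq, hN] at h
    exact Nat.eq_of_mul_eq_mul_right he.pos h
  exact simple_prime_degree_equation hG hp (P : Subgroup G) hPcard hCcard e m hN hme hm

end SimpleSylow

end Cfsg.Agent.H5.PrimeTI
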