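import Mathlib
import Cfsg.Agent.H98.PsInstDefs
import Cfsg.Agent.H8.SzCard

/-! PS-I-CARD (helper98's split of PS-INST, S3664 project of helper7). -/

set_option autoImplicit false

namespace Cfsg.Agent.H5.Ps

open Cfsg Cfsg.Agent.H8 Matrix Cfsg.Agent.H98.Ps

theorem card : StCard := by
  show Nat.card A = 87360
  rw [SemidirectProduct.card, sz_card (le_refl 1) hK, sz_card_ringAut hK]
  norm_num

example : StCard := card

end Cfsg.Agent.H5.Ps

#print axioms Cfsg.Agent.H5.Ps.card
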