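import Mathlib
import Cfsg.Agent.H98.PsInstDefs

/-! PS-I-EX15 and shared lemmas (helper98's split of PS-INST, S3664 project of helper7). -/

set_option autoImplicit false

namespace Cfsg.Agent.H5.Ps

open Cfsg Cfsg.Agent.H8 Matrix Cfsg.Agent.H98.Ps

theorem frob_pow3 : frob ^ 3 = 1 := by
  ext x
  show frob (frob (frob x)) = x
  simp only [frob_apply]
  revert x
  decide

theorem frob_ne_one : frob ≠ 1 := by
  intro h
  have : frob (Cfsg.Agent.H41.F8.ofNat 2) = Cfsg.Agent.H41.F8.ofNat 2 := by rw [h]; rfl
  rw [frob_apply] at this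
  revert this
  decide

theorem orderOf_frob : orderOf frob = 3 := by
  have : Fact (Nat.Prime 3) := ⟨by norm_num⟩
  exact orderOf_eq_prime frob_pow3 frob_ne_one

/-- an element of `Sz(8)` fixed by the twist commutes with the Frobenius element of `A` -/
theorem inl_inr_comm (s : S) (h : tw s = s) :
    Commute (SemidirectProduct.inl s : A) (SemidirectProduct.inr frob) := by
  show (SemidirectProduct.inl s : A) * SemidirectProduct.inr frob =
    SemidirectProduct.inr frob * SemidirectProduct.inl s
  apply SemidirectProduct.ext
  · rw [SemidirectProduct.mul_left, SemidirectProduct.mul_left, SemidirectProduct.left_inl,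
      SemidirectProduct.right_inl, SemidirectProduct.left_inr, SemidirectProduct.right_inr,
      map_one, mul_one, one_mul]
    exact h.symm
  · rw [SemidirectProduct.mul_right, SemidirectProduct.mul_right, SemidirectProduct.right_inl,
      SemidirectProduct.right_inr, one_mul, mul_one]

theorem orderOf_inl (s : S) : orderOf (SemidirectProduct.inl s : A) = orderOf s :=
  orderOf_injective (SemidirectProduct.inl : S →* A) SemidirectProduct.inl_injective s

theorem orderOf_inr_frob : orderOf (SemidirectProduct.inr frob : A) = 3 := by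
  rw [← orderOf_frob]
  exact orderOf_injective (SemidirectProduct.inr : RingAut K →* A)
    SemidirectProduct.inr_injective frob

theorem mat_g5 : mat g5 = szMmat 1 0 1 * szWmat K := rfl

theorem g5_pow5 : g5 ^ 5 = 1 := by
  apply mat_inj
  rw [mat_pow, mat_one, mat_g5]
  decide +kernel

theorem g5_ne_one : g5 ≠ 1 := by
  intro h
  have := congrArg mat h
  rw [mat_one, mat_g5] at this
  revert this
  decide +kernel

theorem tw_g5 : tw g5 = g5 := by
  apply mat_inj
  rw [mat_tw, mat_g5]
  ext i j
  rw [fm_apply, frob_apply]
  revert i j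
  decide +kernel

theorem orderOf_g5 : orderOf g5 = 5 := by
  have : Fact (Nat.Prime 5) := ⟨by norm_num⟩
  exact orderOf_eq_prime g5_pow5 g5_ne_one

theorem ex15 : StEx15 := by
  refine ⟨SemidirectProduct.inl g5 * SemidirectProduct.inr frob, ?_⟩
  rw [(inl_inr_comm g5 tw_g5).orderOf_mul_eq_mul_orderOf_of_coprime
    (by rw [orderOf_inl, orderOf_g5, orderOf_inr_frob]; norm_num),
    orderOf_inl, orderOf_g5, orderOf_inr_frob]

example : StEx15 := ex15

end Cfsg.Agent.H5.Ps

#print axioms Cfsg.Agent.H5.Ps.ex15
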