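import Mathlib
import Cfsg.Agent.H98.PsInstDefs
import Cfsg.Agent.H5.PsIEx15

/-! PS-I-EX6 (helper98's split of PS-INST, S3664 project of helper7). -/

set_option autoImplicit false

namespace Cfsg.Agent.H5.Ps

open Cfsg Cfsg.Agent.H8 Matrix Cfsg.Agent.H98.Ps

theorem gU01_sq : gU 0 1 ^ 2 = 1 := by
  apply mat_inj
  rw [mat_pow, mat_one, mat_gU]
  decide +kernel

theorem gU01_ne_one : gU 0 1 ≠ 1 := by
  intro h
  have := congrArg mat h
  rw [mat_one, mat_gU] at this
  revert this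
  decide +kernel

theorem tw_gU01 : tw (gU 0 1) = gU 0 1 := by
  apply mat_inj
  rw [mat_tw, mat_gU, fm_frob]
  decide +kernel

theorem orderOf_gU01 : orderOf (gU 0 1) = 2 := by
  have : Fact (Nat.Prime 2) := ⟨by norm_num⟩
  exact orderOf_eq_prime gU01_sq gU01_ne_one

theorem ex6 : StEx6 := by
  refine ⟨SemidirectProduct.inl (gU 0 1) * SemidirectProduct.inr frob, ?_⟩
  rw [(inl_inr_comm (gU 0 1) tw_gU01).orderOf_mul_eq_mul_orderOf_of_coprime
    (by rw [orderOf_inl, orderOf_gU01, orderOf_inr_frob]; norm_num),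
    orderOf_inl, orderOf_gU01, orderOf_inr_frob]

example : StEx6 := ex6

end Cfsg.Agent.H5.Ps

#print axioms Cfsg.Agent.H5.Ps.ex6
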