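import Mathlib
import Cfsg.Agent.H98.PsInstDefs

/-! PS-I-NOS (helper98's split of PS-INST, S3664 project of helper7). -/

set_option autoImplicit false

namespace Cfsg.Agent.H5.Ps

open Cfsg Cfsg.Agent.H8 Matrix Cfsg.Agent.H98.Ps

theorem noS_aux {r t : ℕ} (hr : r.Prime) (ht : t.Prime) (hrt : r ≠ t) (h14 : 14 ≤ r * t) (s : S) :
    orderOf s ≠ r * t := by
  intro h
  have key := (sz_exists_orderOf_iff (le_refl 1) hK hr ht hrt).mp ⟨s, h⟩
  have e1 : 2 ^ (2 * 1 + 1) - 1 = 7 := by norm_num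
  have e2 : 2 ^ (2 * 1 + 1) + 2 ^ (1 + 1) + 1 = 13 := by norm_num
  have e3 : 2 ^ (2 * 1 + 1) - 2 ^ (1 + 1) + 1 = 5 := by norm_num
  rw [e1, e2, e3] at key
  rcases key with h1 | h1 | h1
  · have := Nat.le_of_dvd (by norm_num) h1
    omega
  · have := Nat.le_of_dvd (by norm_num) h1
    omega
  · have := Nat.le_of_dvd (by norm_num) h1
    omega

theorem noS : StNoS := fun s =>
  ⟨noS_aux (r := 5) (t := 7) (by norm_num) (by norm_num) (by norm_num) (by norm_num) s,
   noS_aux (r := 2) (t := 13) (by norm_num) (by norm_num) (by norm_num) (by norm_num) s,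
   noS_aux (r := 5) (t := 13) (by norm_num) (by norm_num) (by norm_num) (by norm_num) s,
   noS_aux (r := 7) (t := 13) (by norm_num) (by norm_num) (by norm_num) (by norm_num) s⟩

example : StNoS := noS

end Cfsg.Agent.H5.Ps

#print axioms Cfsg.Agent.H5.Ps.noS
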