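import Mathlib
import Cfsg.Agent.H45.S8Defs0
/-!
S1158 team project (helper45), piece S8-ORD6: the order of `q = 3^(2m+1)` modulo a prime
`p ∣ q² - q + 1` is 6.
-/
set_option autoImplicit false

namespace Cfsg.Agent.H5.S8

open Cfsg.Agent.H45.S8

theorem ord6 : StOrd6 := by
  intro m p hp hpM d
  have : Fact p.Prime := ⟨hp⟩
  obtain ⟨q, hq⟩ : ∃ q : ℕ, q = qq m := ⟨_, rfl⟩
  have hqdef : q = 3 ^ (2 * m + 1) := hq
  rw [← hq]
  have hM : MM m = q ^ 2 - q + 1 := by rw [hq]; rfl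
  rw [hM] at hpM
  have hq1 : 1 ≤ q := by rw [hqdef]; exact Nat.one_le_pow _ _ (by norm_num)
  have hqsq : q ≤ q ^ 2 := by nlinarith
  -- in `ZMod p`
  have h0 : ((q : ZMod p)) ^ 2 - (q : ZMod p) + 1 = 0 := by
    have h1 : ((q ^ 2 - q + 1 : ℕ) : ZMod p) = 0 := (ZMod.natCast_eq_zero_iff _ _).mpr hpM
    rw [Nat.cast_add, Nat.cast_sub hqsq] at h1
    simpa using h1
  have h3 : ((q : ZMod p)) ^ 3 = -1 := by
    have : ((q : ZMod p)) ^ 3 + 1 = ((q : ZMod p) + 1) * (((q : ZMod p)) ^ 2 - (q : ZMod p) + 1) := by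
      ring
    rw [h0, mul_zero] at this
    exact eq_neg_of_add_eq_zero_left this
  have h6 : ((q : ZMod p)) ^ 6 = 1 := by
    have : ((q : ZMod p)) ^ 6 = (((q : ZMod p)) ^ 3) ^ 2 := by ring
    rw [this, h3]; ring
  -- `p ≠ 2`
  have hp2 : p ≠ 2 := by
    intro h2
    rw [h2] at hpM
    have hodd : q % 2 = 1 := by
      rw [hqdef, Nat.pow_mod]; norm_num
    have hqq : q ^ 2 % 2 = 1 := by
      rw [Nat.pow_mod, hodd]
    omega
  -- `p ≠ 3`
  have hp3 : p ≠ 3 := by
    intro h3'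
    rw [h3'] at hpM
    have h3q : 3 ∣ q := by
      rw [hqdef]; exact dvd_pow_self 3 (by omega)
    have h3q2 : 3 ∣ q ^ 2 := Dvd.dvd.pow h3q (by norm_num)
    obtain ⟨a, ha⟩ := h3q
    obtain ⟨b, hb⟩ := h3q2
    omega
  have h2ne : (2 : ZMod p) ≠ 0 := by
    intro h
    have : ((2 : ℕ) : ZMod p) = 0 := by exact_mod_cast h
    rw [ZMod.natCast_eq_zero_iff] at this
    exact hp2 ((Nat.prime_dvd_prime_iff_eq hp Nat.prime_two).mp this)
  have h3ne : (3 : ZMod p) ≠ 0 := by
    intro h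
    have : ((3 : ℕ) : ZMod p) = 0 := by exact_mod_cast h
    rw [ZMod.natCast_eq_zero_iff] at this
    exact hp3 ((Nat.prime_dvd_prime_iff_eq hp Nat.prime_three).mp this)
  -- the order of `q` is 6
  have hord : orderOf (q : ZMod p) = 6 := by
    have hdvd : orderOf (q : ZMod p) ∣ 6 := orderOf_dvd_of_pow_eq_one h6
    have hmem : orderOf (q : ZMod p) ∈ Nat.divisors 6 := Nat.mem_divisors.mpr ⟨hdvd, by norm_num⟩
    have hdiv : Nat.divisors 6 = {1, 2, 3, 6} := by decide
    rw [hdiv] at hmem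
    simp only [Finset.mem_insert, Finset.mem_singleton] at hmem
    rcases hmem with h | h | h | h
    · exfalso
      have hq1' : (q : ZMod p) = 1 := orderOf_eq_one_iff.mp h
      rw [hq1'] at h0
      have : (1 : ZMod p) = 0 := by
        have h' : (1 : ZMod p) ^ 2 - 1 + 1 = 1 := by ring
        rw [h'] at h0; exact h0
      exact one_ne_zero this
    · exfalso
      have hq2 : (q : ZMod p) ^ 2 = 1 := by rw [← h]; exact pow_orderOf_eq_one _
      -- `q = 2`, so `4 = 1`, so `3 = 0`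
      have hq2' : (q : ZMod p) = 2 := by
        rw [hq2] at h0
        have : (q : ZMod p) = 1 + 1 := by
          have h' : (1 : ZMod p) - (q : ZMod p) + 1 = 0 := h0
          linear_combination -h'
        rw [this]; norm_num
      rw [hq2'] at hq2
      apply h3ne
      linear_combination hq2
    · exfalso
      have hq3 : (q : ZMod p) ^ 3 = 1 := by rw [← h]; exact pow_orderOf_eq_one _
      rw [h3] at hq3
      apply h2ne
      linear_combination -hq3
    · exact h
  have hqd : 1 ≤ q ^ d := Nat.one_le_pow _ _ hq1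
  rw [← (ZMod.natCast_eq_zero_iff (q ^ d - 1) p), Nat.cast_sub hqd, Nat.cast_pow, Nat.cast_one,
    sub_eq_zero, ← orderOf_dvd_iff_pow_eq_one, hord]

example : StOrd6 := ord6

end Cfsg.Agent.H5.S8

#print axioms Cfsg.Agent.H5.S8.ord6
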