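import Mathlib
import Cfsg.Agent.H14.SpDefs

/-! SP-CORE (helper14's "pure involution" step for S2944): the pure involution, from the
conclusion of S0617 and the four-group lemma. -/

set_option autoImplicit false

open Cfsg

universe u

namespace Cfsg.Agent.H5.Sp

open Cfsg.Agent.H14.Sp

open scoped commutatorElement

/-- an involution of `SL(2,2)` -/
theorem sl22_invol : ∃ s : Matrix.SpecialLinearGroup (Fin 2) (ZMod 2), s ≠ 1 ∧ s * s = 1 := by
  refine ⟨⟨!![1, 1; 0, 1], by decide⟩, ?_, ?_⟩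
  · intro h
    have h1 := congrArg (fun m : Matrix.SpecialLinearGroup (Fin 2) (ZMod 2) => m.1 0 1) h
    revert h1
    simp
  · apply Subtype.ext
    show (!![1, 1; 0, 1] : Matrix (Fin 2) (Fin 2) (ZMod 2)) * !![1, 1; 0, 1] = 1
    decide

theorem core (h4 : StFour.{u}) : StCore.{u} := by
  intro Y _ _ ι V H E hV hHV hf hEn hEiso hE4 hEind hEsup hVind hVsup x hxH hxodd hx1 W hWcard hW
  classical
  have cz : ∀ g w : Y, g * w * g⁻¹ = w ↔ g ∈ Subgroup.centralizer ({w} : Set Y) := by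
    intro g w
    rw [Subgroup.mem_centralizer_singleton_iff, mul_inv_eq_iff_eq_mul]
  have hEH : ∀ i, E i ≤ H := fun i => hEsup ▸ le_iSup E i
  have hVexp : ∀ v ∈ V, v * v = 1 := fun v hv => by
    have := hV.2 v hv
    rwa [pow_two] at this
  have hnV : ∀ g ∈ H, ∀ v ∈ V, g * v * g⁻¹ ∈ V := fun g hg v hv =>
    ((Subgroup.mem_normalizer_iff.mp (hHV hg)) v).mp hv
  have hnE : ∀ g ∈ H, ∀ i, ∀ e ∈ E i, g * e * g⁻¹ ∈ E i := fun g hg i e he =>
    ((Subgroup.mem_normalizer_iff.mp (hEn i hg)) e).mp he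
  have hWV : ∀ i, ⁅V, E i⁆ ≤ V := by
    intro i
    rw [Subgroup.commutator_le]
    intro v hv e he
    have : ⁅v, e⁆ = v * (e * v⁻¹ * e⁻¹) := by rw [commutatorElement_def]; group
    rw [this]
    exact V.mul_mem hv (hnV e (hEH i he) _ (V.inv_mem hv))
  have hnW : ∀ g ∈ H, ∀ i, ∀ w ∈ ⁅V, E i⁆, g * w * g⁻¹ ∈ ⁅V, E i⁆ := by
    intro g hg i
    have hle : ⁅V, E i⁆ ≤ (⁅V, E i⁆).comap (MulAut.conj g).toMonoidHom := by
      rw [Subgroup.commutator_le]
      intro v hv e he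
      show (MulAut.conj g) ⁅v, e⁆ ∈ ⁅V, E i⁆
      rw [map_commutatorElement]
      exact Subgroup.commutator_mem_commutator (hnV g hg v hv) (hnE g hg i e he)
    intro w hw
    exact hle hw
  have hdisj : ∀ l i, l ≠ i → ∀ u, u ∈ ⁅V, E l⁆ → u ∈ ⁅V, E i⁆ → u = 1 := by
    intro l i hli u hu1 hu2
    have hd := hVind.pairwiseDisjoint
      (show (some l : Option ι) ≠ some i from fun h => hli (Option.some.inj h))
    exact Subgroup.disjoint_def.mp hd hu1 hu2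
  have hcentW : ∀ l i, l ≠ i → ∀ e ∈ E l, ∀ w ∈ ⁅V, E i⁆, e * w * e⁻¹ = w := by
    intro l i hli e he w hw
    have h1 : e * w * e⁻¹ * w⁻¹ ∈ ⁅V, E i⁆ :=
      Subgroup.mul_mem _ (hnW e (hEH l he) i w hw) (Subgroup.inv_mem _ hw)
    have h2 : e * w * e⁻¹ * w⁻¹ ∈ ⁅V, E l⁆ := by
      have : e * w * e⁻¹ * w⁻¹ = (⁅w, e⁆)⁻¹ := by rw [commutatorElement_def]; group
      rw [this]
      exact Subgroup.inv_mem _ (Subgroup.commutator_mem_commutator (hWV i hw) he)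
    have h3 := hdisj l i hli _ h2 h1
    exact mul_inv_eq_one.mp h3
  have hfaith : ∀ g ∈ H, (∀ i, ∀ w ∈ ⁅V, E i⁆, g * w * g⁻¹ = w) → g = 1 := by
    intro g hg hgw
    have hle : V ≤ Subgroup.centralizer ({g} : Set Y) := by
      rw [← hVsup]
      refine sup_le ?_ (iSup_le fun i => ?_)
      · intro v hv
        rw [Subgroup.mem_centralizer_singleton_iff]
        have := (Subgroup.mem_centralizer_iff.mp hv.2) g hg
        exact this.symm
      · intro w hw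
        rw [Subgroup.mem_centralizer_singleton_iff]
        have := hgw i w hw
        rw [mul_inv_eq_iff_eq_mul] at this
        exact this.symm
    have hgc : g ∈ Subgroup.centralizer (V : Set Y) := by
      rw [Subgroup.mem_centralizer_iff]
      intro v hv
      exact Subgroup.mem_centralizer_singleton_iff.mp (hle hv)
    have : g ∈ H ⊓ Subgroup.centralizer (V : Set Y) := ⟨hg, hgc⟩
    rw [hf] at this
    exact Subgroup.mem_bot.mp this
  have hinv : ∀ j, ∃ t ∈ E j, t * t = 1 ∧ t ≠ 1 := by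
    intro j
    obtain ⟨e⟩ := hEiso j
    obtain ⟨s, hs1, hs2⟩ := sl22_invol
    refine ⟨(e.symm s : Y), (e.symm s).2, ?_, ?_⟩
    · have h1 : e.symm s * e.symm s = 1 := by rw [← map_mul, hs2, map_one]
      have h2 := congrArg (Subtype.val) h1
      simpa using h2
    · intro h
      apply hs1
      have h1 : e.symm s = 1 := Subtype.ext h
      have h2 := congrArg e h1
      simpa using h2
  have hmoves : ∀ j, ∀ t ∈ E j, t ≠ 1 → ∃ w ∈ ⁅V, E j⁆, t * w * t⁻¹ ≠ w := by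
    intro j t ht ht1
    by_contra hcon
    push Not at hcon
    apply ht1
    apply hfaith t (hEH j ht)
    intro i w hw
    by_cases hij : j = i
    · subst hij; exact hcon w hw
    · exact hcentW j i hij t ht w hw
  have hA : ∀ j, (∃ w ∈ ⁅V, E j⁆, x * w * x⁻¹ ≠ w) → ∀ t ∈ E j, t * t = 1 → t ≠ 1 →
      ∀ t' : Y, t' * t' = 1 → (∀ w ∈ ⁅V, E j⁆, t' * w * t'⁻¹ ∈ ⁅V, E j⁆) →
      (∃ w ∈ ⁅V, E j⁆, t' * w * t'⁻¹ ≠ w) →
      (∀ w ∈ ⁅V, E j⁆, x * w * x⁻¹ = w → w = 1) ∧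
      (∀ w ∈ ⁅V, E j⁆, ∃ u ∈ ⁅V, E j⁆, x * u * x⁻¹ * u⁻¹ = w) ∧
      (∀ w ∈ ⁅V, E j⁆, (t * x * t⁻¹ * x) * w * (t * x * t⁻¹ * x)⁻¹ = w) ∧
      ∃ m : ℕ, ∀ w ∈ ⁅V, E j⁆, (t' * t⁻¹) * w * (t' * t⁻¹)⁻¹ = x ^ m * w * (x ^ m)⁻¹ := by
    intro j hxj t ht htt ht1 t' ht't' hn' hm'
    exact h4 (⁅V, E j⁆) x t t' (hE4 j) (fun w hw => hVexp w (hWV j hw)) (hnW x hxH j)
      (hnW t (hEH j ht) j) hn' hxodd htt ht't' hxj (hmoves j t ht ht1) hm'
  -- `x` moves some `W_i`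
  obtain ⟨i, hxi⟩ : ∃ i, ∃ w ∈ ⁅V, E i⁆, x * w * x⁻¹ ≠ w := by
    by_contra hcon
    push Not at hcon
    exact hx1 (hfaith x hxH hcon)
  obtain ⟨t, htE, htt, ht1⟩ := hinv i
  have htH : t ∈ H := hEH i htE
  obtain ⟨F1, F2, F3, -⟩ := hA i hxi t htE htt ht1 t htt (hnW t htH i) (hmoves i t htE ht1)
  have hWiW : ⁅V, E i⁆ ≤ W := by
    intro w hw
    obtain ⟨u, hu, rfl⟩ := F2 w hw
    exact hW u (hWV i hu)
  have hcard_eq : ∀ j, ⁅V, E j⁆ ≤ W → ⁅V, E j⁆ = W := fun j hle =>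
    Subgroup.eq_of_le_of_card_ge hle (by rw [hE4 j]; exact hWcard)
  have hxcent : ∀ l, l ≠ i → ∀ w ∈ ⁅V, E l⁆, x * w * x⁻¹ = w := by
    intro l hli
    by_contra hcon
    push Not at hcon
    obtain ⟨tl, htlE, htlt, htl1⟩ := hinv l
    obtain ⟨-, F2l, -, -⟩ := hA l hcon tl htlE htlt htl1 tl htlt (hnW tl (hEH l htlE) l)
      (hmoves l tl htlE htl1)
    have hWlW : ⁅V, E l⁆ ≤ W := by
      intro w hw
      obtain ⟨u, hu, rfl⟩ := F2l w hw
      exact hW u (hWV l hu)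
    have e1 := hcard_eq i hWiW
    have e2 := hcard_eq l hWlW
    obtain ⟨w, hw, hwne⟩ := hxi
    have hw1 : w = 1 := hdisj l i hli w (by rw [e2, ← e1]; exact hw) hw
    apply hwne
    rw [hw1]; group
  have htx : t * x * t⁻¹ = x⁻¹ := by
    have hg : t * x * t⁻¹ * x ∈ H :=
      H.mul_mem (H.mul_mem (H.mul_mem htH hxH) (H.inv_mem htH)) hxH
    have h1 := hfaith _ hg (by
      intro l w hw
      by_cases hli : l = i
      · subst hli; exact F3 w hw
      · have c1 := (cz t w).mp (hcentW i l (Ne.symm hli) t htE w hw)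
        have c2 := (cz x w).mp (hxcent l hli w hw)
        exact (cz _ w).mpr (Subgroup.mul_mem _ (Subgroup.mul_mem _ (Subgroup.mul_mem _ c1 c2)
          (Subgroup.inv_mem _ c1)) c2))
    exact mul_eq_one_iff_eq_inv.mp h1
  have hti : t⁻¹ = t := inv_eq_of_mul_eq_one_right htt
  have h_tx : t * x = x⁻¹ * t := by
    have h := htx
    rw [mul_inv_eq_iff_eq_mul] at h
    exact h
  have h_xt : x * t = t * x⁻¹ := by
    have h := htx
    rw [hti] at h
    rw [← h]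
    simp only [← mul_assoc]
    rw [htt, one_mul]
  -- `t` centralizes `C_V(x)`
  have htCV : ∀ v ∈ V, x * v * x⁻¹ = v → t * v * t⁻¹ = v := by
    intro v hv hxv
    have hu : t * v * t⁻¹ * v⁻¹ ∈ ⁅V, E i⁆ := by
      have : t * v * t⁻¹ * v⁻¹ = (⁅v, t⁆)⁻¹ := by rw [commutatorElement_def]; group
      rw [this]
      exact Subgroup.inv_mem _ (Subgroup.commutator_mem_commutator hv htE)
    have hc : Commute x v := by
      have h := hxv
      rw [mul_inv_eq_iff_eq_mul] at h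
      exact h
    have hc1 : x⁻¹ * v = v * x⁻¹ := hc.inv_left.eq
    have hc2 : x * v⁻¹ = v⁻¹ * x := hc.inv_right.eq
    have hfix : x * (t * v * t⁻¹ * v⁻¹) * x⁻¹ = t * v * t⁻¹ * v⁻¹ := by
      rw [mul_inv_eq_iff_eq_mul, hti]
      simp only [mul_assoc]
      rw [← mul_assoc x t, h_xt, mul_assoc, ← mul_assoc x⁻¹ v, hc1, mul_assoc,
        ← mul_assoc x⁻¹ t, ← h_tx, mul_assoc, hc2]
    have h1 := F1 _ hu hfix
    exact mul_inv_eq_one.mp h1
  refine ⟨t, htH, htt, htx, ?_⟩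
  intro y hyH hyV hyx
  have ht'H : y * t * y⁻¹ ∈ H := ((Subgroup.mem_normalizer_iff.mp hyH) t).mp htH
  have ht't' : (y * t * y⁻¹) * (y * t * y⁻¹) = 1 := by
    calc (y * t * y⁻¹) * (y * t * y⁻¹) = y * (t * t) * y⁻¹ := by group
      _ = 1 := by rw [htt]; group
  have ht'1 : y * t * y⁻¹ ≠ 1 := by
    intro h
    apply ht1
    have e : t = y⁻¹ * (y * t * y⁻¹) * y := by group
    rw [e, h]; group
  have ht'cent : ∀ l, l ≠ i → ∀ w ∈ ⁅V, E l⁆, (y * t * y⁻¹) * w * (y * t * y⁻¹)⁻¹ = w := by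
    intro l hli w hw
    have hv : y⁻¹ * w * y ∈ V := by
      have h := ((Subgroup.mem_normalizer_iff.mp (Subgroup.inv_mem _ hyV)) w).mp (hWV l hw)
      simpa using h
    have hxw := hxcent l hli w hw
    have hxv : x * (y⁻¹ * w * y) * x⁻¹ = y⁻¹ * w * y := by
      rcases hyx with h | h
      · calc x * (y⁻¹ * w * y) * x⁻¹
            = y⁻¹ * ((y * x * y⁻¹) * w * (y * x * y⁻¹)⁻¹) * y := by group
          _ = y⁻¹ * (x * w * x⁻¹) * y := by rw [h]
          _ = y⁻¹ * w * y := by rw [hxw]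
      · have hxw' : x⁻¹ * w * x = w := by
          calc x⁻¹ * w * x = x⁻¹ * (x * w * x⁻¹) * x := by rw [hxw]
            _ = w := by group
        calc x * (y⁻¹ * w * y) * x⁻¹
            = y⁻¹ * ((y * x * y⁻¹) * w * (y * x * y⁻¹)⁻¹) * y := by group
          _ = y⁻¹ * (x⁻¹ * w * x) * y := by rw [h, inv_inv]
          _ = y⁻¹ * w * y := by rw [hxw']
    have h1 := htCV _ hv hxv
    calc (y * t * y⁻¹) * w * (y * t * y⁻¹)⁻¹ = y * (t * (y⁻¹ * w * y) * t⁻¹) * y⁻¹ := by group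
      _ = y * (y⁻¹ * w * y) * y⁻¹ := by rw [h1]
      _ = w := by group
  have ht'mv : ∃ w ∈ ⁅V, E i⁆, (y * t * y⁻¹) * w * (y * t * y⁻¹)⁻¹ ≠ w := by
    by_contra hcon
    push Not at hcon
    apply ht'1
    apply hfaith _ ht'H
    intro l w hw
    by_cases hli : l = i
    · subst hli; exact hcon w hw
    · exact ht'cent l hli w hw
  obtain ⟨-, -, -, m, hm⟩ := hA i hxi t htE htt ht1 (y * t * y⁻¹) ht't' (hnW _ ht'H i) ht'mv
  refine ⟨m, ?_⟩
  have hg : (y * t * y⁻¹) * t⁻¹ * (x ^ m)⁻¹ ∈ H :=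
    H.mul_mem (H.mul_mem ht'H (H.inv_mem htH)) (H.inv_mem (H.pow_mem hxH m))
  have hg1 := hfaith _ hg (by
    intro l w hw
    by_cases hli : l = i
    · subst hli
      have hw' : (x ^ m)⁻¹ * w * (x ^ m) ∈ ⁅V, E l⁆ := by
        have h := hnW ((x ^ m)⁻¹) (H.inv_mem (H.pow_mem hxH m)) l w hw
        simpa using h
      calc (y * t * y⁻¹) * t⁻¹ * (x ^ m)⁻¹ * w * ((y * t * y⁻¹) * t⁻¹ * (x ^ m)⁻¹)⁻¹
          = ((y * t * y⁻¹) * t⁻¹) * ((x ^ m)⁻¹ * w * (x ^ m)) * ((y * t * y⁻¹) * t⁻¹)⁻¹ := by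
            group
        _ = x ^ m * ((x ^ m)⁻¹ * w * (x ^ m)) * (x ^ m)⁻¹ := hm _ hw'
        _ = w := by group
    · have c1 := (cz (y * t * y⁻¹) w).mp (ht'cent l hli w hw)
      have c2 := (cz t w).mp (hcentW i l (Ne.symm hli) t htE w hw)
      have c3 := (cz x w).mp (hxcent l hli w hw)
      exact (cz _ w).mpr (Subgroup.mul_mem _ (Subgroup.mul_mem _ c1 (Subgroup.inv_mem _ c2))
        (Subgroup.inv_mem _ (Subgroup.pow_mem _ c3 m))))
  exact mul_inv_eq_one.mp hg1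

example (h : StFour.{u}) : StCore.{u} := core h

end Cfsg.Agent.H5.Sp

#print axioms Cfsg.Agent.H5.Sp.core
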