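import Mathlib
import Cfsg.Agent.H56.SqDefs
import Cfsg.Agent.H8.SzAutU3

/-!
# S4625-SZ (team project of helper56)

The Suzuki groups `Sz(q)`, `q = 2^(2m+1) ≥ 8`: a Sylow 2-subgroup `P` has `x ^ 2 ∈ P'` for all
`x ∈ P`.  Everything comes from helper8's description of the Sylow 2-subgroup (`H8/SzSyl`,
`H8/SzAutU3`): `P ≅ {(a, b)}`, `(a, b)^2 = (0, a · a^θ)` and `P' = {(0, b)}`.
-/

set_option autoImplicit false

namespace Cfsg.Agent.H5.Sq

open Cfsg Cfsg.Agent.H56.Sq Cfsg.Agent.H8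

theorem sz : SzStmt := by
  intro F _ _ m hm hF
  have hfin : Finite ↥(Cfsg.Lie.Sz F (2 ^ (m + 1))) :=
    Finite.of_equiv _ (lieSzEquiv hm hF).toEquiv
  apply goodSyl_of_sqComm
  intro P x
  obtain ⟨e⟩ := lieSz_sylow_equiv hm hF P
  rw [mem_commutator_iff_of_equiv e, map_pow]
  obtain ⟨a, b, hab⟩ := szUM_surj hF (e x)
  rw [hab, pow_two, szUM_sq]
  exact (szUM_mem_commutator hm hF _ _).2 rfl

example : SzStmt := sz

end Cfsg.Agent.H5.Sq

#print axioms Cfsg.Agent.H5.Sq.sz
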