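import Cfsg.Agent.H90.TRDefs
import Cfsg.Agent.H90.FusPull

/-!
# S5156, piece I1: the `p'`-residual subsystem is invariant under `Aut_F(S)`.

For `a ∈ Aut_F(S)` the pullback `D` of `E` along `a` is a saturated subsystem of `F` of index
prime to `p`, so `E ≤ D` by leastness; unfolding `D` gives the invariance.
-/

set_option autoImplicit false

namespace Cfsg.Agent.H5.TR

open Cfsg Cfsg.FusionSystem Cfsg.Agent.H86 Cfsg.Agent.H87 Cfsg.Agent.H90 Cfsg.Agent.H90.TR

universe u

variable {Ω : Type u} [Group Ω] {S : Subgroup Ω}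

/-- Transport of a fusion system along an equality of the underlying subgroups. -/
theorem exists_cast_sys {T' : Subgroup Ω} (h : T' = S) (E : FusionSystem S) (p : ℕ) :
    ∃ E' : FusionSystem T', (∀ P f, Mor E' P f ↔ Mor E P f) ∧
      (E.IsSaturated p → E'.IsSaturated p) := by
  subst h
  exact ⟨E, fun _ _ => Iff.rfl, id⟩

theorem jF_mkAut {F : FusionSystem S} {a : Ω → Ω} (ha : Mor F S a) (himg : imgS S a = S)
    {x : Ω} (hx : x ∈ S) : jF (mkAut ha himg : S ≃* S) x = a x := by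
  rw [jF_of_mem _ hx]
  rfl

theorem trSub_mkAut_self {F : FusionSystem S} {a : Ω → Ω} (ha : Mor F S a)
    (himg : imgS S a = S) : trSub (mkAut ha himg : S ≃* S) S = S := by
  ext y
  rw [mem_trSub]
  constructor
  · rintro ⟨x, hxS, -, rfl⟩
    exact jF_mem _ hxS
  · intro hy
    exact ⟨jF (mkAut ha himg : S ≃* S).symm y, jF_mem _ hy, jF_mem _ hy, jF_jF_symm _ hy⟩

theorem trSub_mkAut {F : FusionSystem S} {a : Ω → Ω} (ha : Mor F S a) (himg : imgS S a = S)
    {P : Subgroup Ω} (hP : P ≤ S) : trSub (mkAut ha himg : S ≃* S) P = imgS P a := by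
  ext y
  rw [mem_trSub, (ha.restrict hP).mem_imgS]
  constructor
  · rintro ⟨x, hxS, hx, rfl⟩
    exact ⟨x, hx, (jF_mkAut ha himg hxS).symm⟩
  · rintro ⟨x, hx, rfl⟩
    exact ⟨x, hP hx, hx, jF_mkAut ha himg (hP hx)⟩

/-- An element of `Aut_F(S)` is an isomorphism of `F` with itself. -/
theorem fusIso_mkAut {F : FusionSystem S} {a : Ω → Ω} (ha : Mor F S a) (himg : imgS S a = S) :
    FusIso F F (mkAut ha himg : S ≃* S) := by
  set e : S ≃* S := mkAut ha himg with he
  have hae : Mor F S (jF e) := ha.congr (fun x hx => (jF_mkAut ha himg hx).symm)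
  have hinv : Mor F S (jF e.symm) := by
    have h1 : Mor F (imgS S a) (invOn S a) := ha.inv
    rw [himg] at h1
    refine h1.congr (fun y hy => ?_)
    have hy' : y ∈ imgS S a := by rw [himg]; exact hy
    obtain ⟨x, hx, rfl⟩ := ha.mem_imgS.1 hy'
    rw [invOn_apply ha.injOn hx, ← jF_mkAut ha himg hx, jF_symm_jF e hx]
  intro P f hP hf
  constructor
  · intro hm
    have h1 : Mor F (trSub e P) (f ∘ jF e.symm) :=
      (hinv.restrict (trSub_le e P)).comp hm (fun y hy => jF_symm_mem e hP hy)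
    exact h1.comp hae (fun y hy => hf _ (jF_symm_mem e hP hy))
  · intro hm
    have h1 : Mor F P ((jF e ∘ f ∘ jF e.symm) ∘ jF e) :=
      (hae.restrict hP).comp hm (fun x hx => jF_mem_trSub e (hP hx) hx)
    have h2 : Mor F P (jF e.symm ∘ ((jF e ∘ f ∘ jF e.symm) ∘ jF e)) := by
      refine h1.comp hinv (fun x hx => ?_)
      exact jF_mem e (hf _ (by
        show jF e.symm (jF e x) ∈ P
        rw [jF_symm_jF e (hP hx)]; exact hx))
    refine h2.congr (fun x hx => ?_)
    show jF e.symm (jF e (f (jF e.symm (jF e x)))) = f x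
    rw [jF_symm_jF e (hP hx), jF_symm_jF e (hf x hx)]

theorem i1 : I1Stmt.{u} := by
  intro Ω _ S _ p _ hS F hF E hres P f a hP hf ha himg
  obtain ⟨hEsat, ⟨hEF, hEidx⟩, hEleast⟩ := hres
  set e : S ≃* S := mkAut ha himg with he
  have hFe : FusIso F F e := fusIso_mkAut ha himg
  have hSS : trSub e S = S := trSub_mkAut_self ha himg
  obtain ⟨E', hE', hE'sat⟩ := exists_cast_sys hSS E p
  have : Finite (trSub e S) := finite_of_le (trSub_le e S)
  have hDsat : (pullSys e (le_refl S) E').IsSaturated p :=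
    (fusIso_pullSys e (le_refl S) E').symm.saturated (hE'sat hEsat)
  have hD : ∀ (Q : Subgroup Ω) (g : Ω → Ω), Mor (pullSys e (le_refl S) E') Q g ↔
      Q ≤ S ∧ (∀ x ∈ Q, g x ∈ S) ∧ Mor E (trSub e Q) (jF e ∘ g ∘ jF e.symm) := by
    intro Q g
    rw [mor_pullSys_iff, hE']
  have hDF : ∀ (Q : Subgroup Ω) (g : Ω → Ω), Mor (pullSys e (le_refl S) E') Q g → Mor F Q g := by
    intro Q g hg
    obtain ⟨hQ, hgS, hm⟩ := (hD Q g).1 hg
    exact (hFe Q g hQ hgS).2 (mor_of_subsystem hEF hm)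
  have hDsub : (pullSys e (le_refl S) E').IsSubsystemOf F := fusionSystem_le_iff.2 hDF
  have hDidx : (pullSys e (le_refl S) E').HasPrimeToPIndexIn F p := by
    refine ⟨hDsub, fun Q hQ => ?_⟩
    rw [Subgroup.map_le_iff_le_comap]
    refine (Subgroup.closure_le _).2 ?_
    rintro α ⟨k, hk⟩
    show (α : MulAut Q) ∈ (pullSys e (le_refl S) E').autGroup Q
    rw [mem_autGroup_iff hQ, hD]
    refine ⟨hQ, fun x hx => hQ (autFun_mem _ hx), ?_⟩
    have hβ : MulAut.congr (eSub e hQ) (α : MulAut Q) ∈ F.autGroup (trSub e Q) :=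
      (hFe.congr_mem_autGroup_iff hQ (α : MulAut Q)).2 α.2
    have hord : orderOf (⟨MulAut.congr (eSub e hQ) (α : MulAut Q), hβ⟩ :
        F.autGroup (trSub e Q)) = p ^ k := by
      rw [Subgroup.orderOf_mk, MulEquiv.orderOf_eq, Subgroup.orderOf_coe, hk]
    have hmem : MulAut.congr (eSub e hQ) (α : MulAut Q) ∈ E.autGroup (trSub e Q) := by
      apply hEidx (trSub e Q) (trSub_le e Q)
      exact ⟨⟨_, hβ⟩, Subgroup.subset_closure ⟨k, hord⟩, rfl⟩
    have hm := (mem_autGroup_iff (trSub_le e Q) _).1 hmem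
    exact hm.congr (fun y hy => autFun_congr_eSub e hQ (α : MulAut Q) hy)
  have hED : E.IsSubsystemOf (pullSys e (le_refl S) E') := hEleast _ hDsat hDidx
  have hfD : Mor (pullSys e (le_refl S) E') P f := mor_of_subsystem hED hf
  obtain ⟨-, hfS, hm⟩ := (hD P f).1 hfD
  rw [trSub_mkAut ha himg hP] at hm
  refine ⟨_, hm, fun x hx => ?_⟩
  show jF e (f (jF e.symm (a x))) = a (f x)
  rw [← jF_mkAut ha himg (hP hx), jF_symm_jF e (hP hx), jF_mkAut ha himg (hfS x hx)]

end Cfsg.Agent.H5.TR
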