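import Mathlib
import Cfsg.Agent.H67.UmDefs

/-! UM-SC (helper67's S2263 project): if the roots of an irreducible `h` over the field with
`q ^ 2` elements have order dividing `(q + 1) M`, then their `M`-th powers are one element `c`
of `F` with `c ^ (q + 1) = 1`. -/

set_option autoImplicit false

open Matrix Polynomial

universe u

namespace Cfsg.Agent.H5.Um

open Cfsg.Agent.H67.Um

theorem sc : StSC.{u} := by
  intro F _ _ q hcard h M hirr hdvd
  classical
  have : Fact (Irreducible h) := ⟨hirr⟩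
  have hq1 : 1 < q ^ 2 := by rw [← hcard]; exact Fintype.one_lt_card
  have hq0 : 0 < q := by
    by_contra h0
    have : q = 0 := by omega
    subst this
    simp at hq1
  -- the root
  have h1 : (AdjoinRoot.root h) ^ ((q + 1) * M) = 1 := by
    have h0 := AdjoinRoot.mk_eq_zero.mpr hdvd
    rw [map_sub, map_pow, AdjoinRoot.mk_X, map_one, sub_eq_zero] at h0
    exact h0
  have h2 : ((AdjoinRoot.root h) ^ M) ^ (q + 1) = 1 := by
    rw [← pow_mul, mul_comm]; exact h1
  have h3 : ((AdjoinRoot.root h) ^ M) ^ (q ^ 2) = (AdjoinRoot.root h) ^ M := by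
    have e : q ^ 2 = (q + 1) * (q - 1) + 1 := by
      obtain ⟨r, rfl⟩ : ∃ r, q = r + 1 := ⟨q - 1, by omega⟩
      simp only [Nat.add_sub_cancel]
      ring
    rw [e, pow_succ, pow_mul, h2, one_pow, one_mul]
  -- hence it lies in the image of `F`
  obtain ⟨c, hc⟩ : ∃ c : F, AdjoinRoot.of h c = (AdjoinRoot.root h) ^ M := by
    have hf0 : (X ^ (q ^ 2) - X : (AdjoinRoot h)[X]) ≠ 0 :=
      FiniteField.X_pow_card_sub_X_ne_zero _ hq1
    have hroots : ∀ a : F, AdjoinRoot.of h a ∈ (X ^ (q ^ 2) - X : (AdjoinRoot h)[X]).roots.toFinset := by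
      intro a
      rw [Multiset.mem_toFinset, Polynomial.mem_roots hf0, IsRoot.def, eval_sub, eval_pow, eval_X,
        ← map_pow, ← hcard, FiniteField.pow_card, sub_self]
    have hsub : (Finset.univ.image (AdjoinRoot.of h)) ⊆
        (X ^ (q ^ 2) - X : (AdjoinRoot h)[X]).roots.toFinset := by
      intro y hy
      obtain ⟨a, -, rfl⟩ := Finset.mem_image.mp hy
      exact hroots a
    have hcardimg : (Finset.univ.image (AdjoinRoot.of h)).card = q ^ 2 := by
      rw [Finset.card_image_of_injective _ (AdjoinRoot.of h).injective, Finset.card_univ, hcard]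
    have hle : (X ^ (q ^ 2) - X : (AdjoinRoot h)[X]).roots.toFinset.card ≤ q ^ 2 := by
      calc (X ^ (q ^ 2) - X : (AdjoinRoot h)[X]).roots.toFinset.card
          ≤ Multiset.card (X ^ (q ^ 2) - X : (AdjoinRoot h)[X]).roots := Multiset.toFinset_card_le _
        _ ≤ (X ^ (q ^ 2) - X : (AdjoinRoot h)[X]).natDegree := Polynomial.card_roots' _
        _ = q ^ 2 := FiniteField.X_pow_card_sub_X_natDegree_eq _ hq1
    have heq := Finset.eq_of_subset_of_card_le hsub (by rw [hcardimg]; exact hle)
    have hmem : (AdjoinRoot.root h) ^ M ∈ (X ^ (q ^ 2) - X : (AdjoinRoot h)[X]).roots.toFinset := by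
      rw [Multiset.mem_toFinset, Polynomial.mem_roots hf0, IsRoot.def, eval_sub, eval_pow, eval_X,
        h3, sub_self]
    rw [← heq] at hmem
    obtain ⟨c, -, hc⟩ := Finset.mem_image.mp hmem
    exact ⟨c, hc⟩
  refine ⟨c, ?_, ?_⟩
  · apply (AdjoinRoot.of h).injective
    rw [map_pow, hc, map_one]
    exact h2
  · rw [← AdjoinRoot.mk_eq_zero, map_sub, map_pow, AdjoinRoot.mk_X, AdjoinRoot.mk_C, hc, sub_self]

example : StSC.{u} := sc

end Cfsg.Agent.H5.Um

#print axioms Cfsg.Agent.H5.Um.sc
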