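import Mathlib
import Cfsg.Agent.H58.UqDefs
import Cfsg.Agent.H86.TsJS
import Cfsg.Agent.Helper55.ThJ

/-! UQ-FRAT (helper58's S2950 project): Frattini argument.  If all `L`-conjugates of `J(T)`
(`T` a Sylow 2-subgroup of `L`) and `N_L(J(T))` normalize `U`, then `L` normalizes `U`. -/

set_option autoImplicit false

open Cfsg

universe u

namespace Cfsg.Agent.H5.Uq

open Cfsg.Agent.H58.Uq

theorem frat : StFrat.{u} := by
  intro G _ _ T L U hTL hJl hNJ
  classical
  have hp : Fact (Nat.Prime 2) := ⟨Nat.prime_two⟩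
  have hTle : T ≤ L := hTL.1
  have hT2 : IsPGroup 2 ↥T := hTL.2.1
  obtain ⟨J, hJ⟩ : ∃ J : Subgroup G, J = thompsonSubgroupOf 2 T := ⟨_, rfl⟩
  rw [← hJ] at hJl hNJ
  have hJT : J ≤ T := by rw [hJ]; exact Cfsg.Agent.Helper55.ThJ.J_le T
  -- the normal closure of `J` in `L`
  obtain ⟨Y, hY⟩ : ∃ Y : Subgroup G, Y = ⨆ l : ↥L, J.map (MulAut.conj (l : G)).toMonoidHom :=
    ⟨_, rfl⟩
  have hYN : Y ≤ Subgroup.normalizer (U : Set G) := by
    rw [hY]
    exact iSup_le fun l => hJl l l.2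
  have hYL : Y ≤ L := by
    rw [hY]
    apply iSup_le
    rintro l _ ⟨j, hj, rfl⟩
    show (MulAut.conj (l : G)) j ∈ L
    rw [MulAut.conj_apply]
    exact L.mul_mem (L.mul_mem l.2 (hTle (hJT hj))) (L.inv_mem l.2)
  have hJY : J ≤ Y := by
    have h := le_iSup (fun l : ↥L => J.map (MulAut.conj (l : G)).toMonoidHom) 1
    rw [← hY] at h
    intro j hj
    apply h
    refine ⟨j, hj, ?_⟩
    show (MulAut.conj ((1 : ↥L) : G)) j = j
    rw [MulAut.conj_apply, Subgroup.coe_one, one_mul, inv_one, mul_one]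
  have hYconj : ∀ l ∈ L, ∀ y ∈ Y, l * y * l⁻¹ ∈ Y := by
    intro l hl y hy
    have hle : Y.map (MulAut.conj l).toMonoidHom ≤ Y := by
      rw [hY, Subgroup.map_iSup]
      apply iSup_le
      intro m
      rw [Subgroup.map_map]
      have e : (MulAut.conj l).toMonoidHom.comp (MulAut.conj (m : G)).toMonoidHom
          = (MulAut.conj ((⟨l, hl⟩ * m : ↥L) : G)).toMonoidHom := by
        ext x
        simp [MulAut.conj_apply, mul_assoc]
      rw [e]
      exact le_iSup (fun l : ↥L => J.map (MulAut.conj (l : G)).toMonoidHom) (⟨l, hl⟩ * m)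
    apply hle
    refine ⟨y, hy, ?_⟩
    show (MulAut.conj l) y = l * y * l⁻¹
    rw [MulAut.conj_apply]
  -- inside `↥L`
  have hNn : (Y.subgroupOf L).Normal := by
    constructor
    intro n hn g
    rw [Subgroup.mem_subgroupOf] at hn ⊢
    have := hYconj g g.2 n hn
    simpa using this
  have hJ2 : IsPGroup 2 ↥((J.subgroupOf L).subgroupOf (Y.subgroupOf L)) := by
    have h1 : IsPGroup 2 ↥J := hT2.to_le hJT
    exact (h1.comap_subtype (K := L)).comap_subtype
  obtain ⟨P, hP⟩ := hJ2.exists_le_sylow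
  have hfr := Sylow.normalizer_sup_eq_top P
  -- the Sylow subgroup inside `G`
  obtain ⟨PL, hPL⟩ : ∃ PL : Subgroup ↥L, PL = (P : Subgroup ↥(Y.subgroupOf L)).map
      (Y.subgroupOf L).subtype := ⟨_, rfl⟩
  rw [← hPL] at hfr
  obtain ⟨PG, hPG⟩ : ∃ PG : Subgroup G, PG = PL.map L.subtype := ⟨_, rfl⟩
  have hPG2 : IsPGroup 2 ↥PG := by
    rw [hPG, hPL]
    exact (P.isPGroup'.map _).map _
  have hPGL : PG ≤ L := by
    rw [hPG]
    exact Subgroup.map_subtype_le _
  have hJPG : J ≤ PG := by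
    intro j hj
    have hjL : j ∈ L := hTle (hJT hj)
    have hjY : (⟨j, hjL⟩ : ↥L) ∈ Y.subgroupOf L := by
      rw [Subgroup.mem_subgroupOf]
      exact hJY hj
    have hjP : (⟨⟨j, hjL⟩, hjY⟩ : ↥(Y.subgroupOf L)) ∈ (P : Subgroup ↥(Y.subgroupOf L)) := by
      apply hP
      rw [Subgroup.mem_subgroupOf, Subgroup.mem_subgroupOf]
      exact hj
    rw [hPG, hPL]
    exact ⟨⟨j, hjL⟩, ⟨⟨⟨j, hjL⟩, hjY⟩, hjP, rfl⟩, rfl⟩
  have hJPGeq : thompsonSubgroupOf 2 PG = J := by
    rw [hJ]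
    exact Cfsg.Agent.H86.Ts.js T L hTL PG hPG2 hPGL (by rw [← hJ]; exact hJPG)
  intro l hl
  have hmem : (⟨l, hl⟩ : ↥L) ∈ (Subgroup.normalizer (PL : Set ↥L) ⊔ Y.subgroupOf L : Subgroup ↥L) := by
    rw [hfr]
    trivial
  obtain ⟨n, hn, y, hy, hny⟩ := Subgroup.mem_sup_of_normal_right.mp hmem
  have hl' : l = (n : G) * (y : G) := by
    have := congrArg Subtype.val hny
    simpa using this.symm
  rw [hl']
  apply Subgroup.mul_mem
  · -- `n` normalizes `PG`, hence `J`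
    apply hNJ
    refine ⟨n.2, ?_⟩
    rw [← hJPGeq]
    apply Cfsg.Agent.Helper55.ThJ.normalizer_le PG
    rw [Subgroup.mem_normalizer_iff]
    intro g
    have hn' := Subgroup.mem_normalizer_iff.mp hn
    constructor
    · intro hg
      rw [hPG] at hg ⊢
      obtain ⟨h, hh, rfl⟩ := hg
      exact ⟨n * h * n⁻¹, (hn' h).mp hh, by simp⟩
    · intro hg
      rw [hPG] at hg ⊢
      obtain ⟨h', hh', he⟩ := hg
      refine ⟨n⁻¹ * h' * n, ?_, ?_⟩
      · apply (hn' _).mpr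
        have e : n * (n⁻¹ * h' * n) * n⁻¹ = h' := by group
        rw [e]
        exact hh'
      · have e2 : (L.subtype (n⁻¹ * h' * n) : G) = (n : G)⁻¹ * (h' : G) * (n : G) := by simp
        rw [e2]
        have he' : (h' : G) = (n : G) * g * (n : G)⁻¹ := he
        rw [he']
        group
  · apply hYN
    have := Subgroup.mem_subgroupOf.mp hy
    exact this

example : StFrat.{u} := frat

end Cfsg.Agent.H5.Uq

#print axioms Cfsg.Agent.H5.Uq.frat
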