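import Mathlib
import Cfsg.Agent.H57.W4Defs

/-! W4-CNT (helper57's W4 project, S2948/S2949): the counting lemma.  An abelian 2-group `E`
acting on an elementary abelian 2-group `U` whose only possible nontrivial fixed point is `s`
satisfies `2 |E| ≤ |U| |C_E(U)|`. -/

set_option autoImplicit false
set_option linter.style.haveILetI false

open Cfsg

universe u

namespace Cfsg.Agent.H5.W4

open Cfsg.Agent.H57.W4

/-- A 2-group acting by conjugation on a nontrivial subgroup of exponent 2 has a nontrivial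
fixed point. -/
theorem cnt_fp {G : Type u} [Group G] [Finite G] (E N : Subgroup G) (hE2 : IsPGroup 2 ↥E)
    (hN2 : ∀ u ∈ N, u * u = 1) (hEN : ∀ e ∈ E, ∀ u ∈ N, e * u * e⁻¹ ∈ N) (hN : N ≠ ⊥) :
    ∃ u ∈ N, u ≠ 1 ∧ ∀ e ∈ E, e * u * e⁻¹ = u := by
  classical
  haveI : Fact (Nat.Prime 2) := ⟨Nat.prime_two⟩
  letI : MulAction ↥E ↥N :=
    { smul := fun e u => ⟨(e : G) * u * (e : G)⁻¹, hEN e e.2 u u.2⟩
      one_smul := fun u => by
        apply Subtype.ext
        show ((1 : ↥E) : G) * u * ((1 : ↥E) : G)⁻¹ = u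
        simp
      mul_smul := fun e f u => by
        apply Subtype.ext
        show ((e * f : ↥E) : G) * u * ((e * f : ↥E) : G)⁻¹
          = (e : G) * ((f : G) * u * (f : G)⁻¹) * (e : G)⁻¹
        simp [mul_assoc] }
  have h2 : 2 ∣ Nat.card ↥N := by
    obtain ⟨u, hu, hu1⟩ := (Subgroup.ne_bot_iff_exists_ne_one (H := N)).mp hN |>.imp
      (fun x hx => hx) |> fun ⟨x, hx⟩ => (⟨x.1, x.2, fun h => hx (Subtype.ext h)⟩ :
        ∃ u, u ∈ N ∧ u ≠ 1)
    have ho : orderOf (⟨u, hu⟩ : ↥N) = 2 :=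
      orderOf_eq_prime (by apply Subtype.ext; simp [pow_two, hN2 u hu])
        (by intro h; exact hu1 (congrArg Subtype.val h))
    rw [← ho]
    exact orderOf_dvd_natCard _
  have h1 : (1 : ↥N) ∈ MulAction.fixedPoints ↥E ↥N := by
    intro e
    apply Subtype.ext
    show (e : G) * ((1 : ↥N) : G) * (e : G)⁻¹ = ((1 : ↥N) : G)
    simp
  obtain ⟨b, hb, hb1⟩ := hE2.exists_fixed_point_of_prime_dvd_card_of_fixed_point ↥N h2 h1
  refine ⟨b, b.2, ?_, ?_⟩
  · intro h
    exact hb1 (Subtype.ext h.symm)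
  · intro e he
    have := hb ⟨e, he⟩
    exact congrArg Subtype.val this

theorem cnt : StCnt.{u} := by
  intro G _ _ E U s hEc hE2 hUc hU2 hEU hsU hs1 hfix
  classical
  have hUne : U ≠ ⊥ := by
    intro h
    rw [h, Subgroup.mem_bot] at hsU
    exact hs1 hsU
  have hsfix : ∀ e ∈ E, e * s * e⁻¹ = s := by
    obtain ⟨u, hu, hu1, hufix⟩ := cnt_fp E U hE2 hU2 hEU hUne
    rcases hfix u hu hufix with h | h
    · exact absurd h hu1
    · rw [← h]
      exact hufix
  letI : CommGroup ↥U := { (inferInstance : Group ↥U) with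
    mul_comm := fun a b => Subtype.ext (hUc a a.2 b b.2) }
  haveI : NeZero (Monoid.exponent ↥U) := ⟨Monoid.exponent_ne_zero_of_finite⟩
  obtain ⟨φ, hφ⟩ := CommGroup.exists_apply_ne_one_of_hasEnoughRootsOfUnity ↥U ℂ
    (a := ⟨s, hsU⟩) (by intro h; exact hs1 (congrArg Subtype.val h))
  have hcardHom : Nat.card (↥U →* ℂˣ) = Nat.card ↥U :=
    CommGroup.card_monoidHom_of_hasEnoughRootsOfUnity ↥U ℂ
  -- the character as a function on `G`
  obtain ⟨ψ, hψ⟩ : ∃ ψ : G → ℂˣ, ∀ u (hu : u ∈ U), ψ u = φ ⟨u, hu⟩ :=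
    ⟨fun g => if h : g ∈ U then φ ⟨g, h⟩ else 1, fun u hu => dif_pos hu⟩
  have hψmul : ∀ u ∈ U, ∀ v ∈ U, ψ (u * v) = ψ u * ψ v := by
    intro u hu v hv
    rw [hψ _ (U.mul_mem hu hv), hψ u hu, hψ v hv, ← map_mul]
    rfl
  have hψ1 : ψ 1 = 1 := by
    rw [hψ 1 U.one_mem]
    exact map_one φ
  have hψs : ψ s ≠ 1 := by
    rw [hψ s hsU]
    exact hφ
  have hψsq : ∀ x ∈ U, ψ x * ψ x = 1 := by
    intro x hx
    rw [← hψmul x hx x hx, hU2 x hx, hψ1]
  -- the subgroup on which all conjugate characters vanish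
  let N : Subgroup G :=
    { carrier := {u | u ∈ U ∧ ∀ e ∈ E, ψ (e * u * e⁻¹) = 1}
      mul_mem' := by
        rintro a b ⟨ha, ha'⟩ ⟨hb, hb'⟩
        refine ⟨U.mul_mem ha hb, fun e he => ?_⟩
        have e1 : e * (a * b) * e⁻¹ = (e * a * e⁻¹) * (e * b * e⁻¹) := by group
        rw [e1, hψmul _ (hEU e he a ha) _ (hEU e he b hb), ha' e he, hb' e he, one_mul]
      one_mem' := ⟨U.one_mem, fun e he => by rw [mul_one, mul_inv_cancel]; exact hψ1⟩
      inv_mem' := by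
        rintro a ⟨ha, ha'⟩
        have e1 : a⁻¹ = a := (eq_inv_of_mul_eq_one_left (hU2 a ha)).symm
        rw [e1]
        exact ⟨ha, ha'⟩ }
  have hNmem : ∀ u, u ∈ N ↔ u ∈ U ∧ ∀ e ∈ E, ψ (e * u * e⁻¹) = 1 := fun u => Iff.rfl
  have hNbot : N = ⊥ := by
    by_contra hne
    obtain ⟨u, hu, hu1, hufix⟩ := cnt_fp E N hE2 (fun u hu => hU2 u ((hNmem u).mp hu).1) (by
      intro f hf u hu
      rw [hNmem] at hu ⊢
      refine ⟨hEU f hf u hu.1, fun e he => ?_⟩
      have e1 : e * (f * u * f⁻¹) * e⁻¹ = (e * f) * u * (e * f)⁻¹ := by group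
      rw [e1]
      exact hu.2 (e * f) (E.mul_mem he hf)) hne
    rw [hNmem] at hu
    rcases hfix u hu.1 hufix with h | h
    · exact hu1 h
    · have h3 := hu.2 1 E.one_mem
      rw [h, one_mul, inv_one, mul_one] at h3
      exact hψs h3
  -- fibres
  have hfib : ∀ e ∈ E, ∀ f ∈ E, (∀ u ∈ U, ψ (e * u * e⁻¹) = ψ (f * u * f⁻¹)) →
      e⁻¹ * f ∈ E ⊓ Subgroup.centralizer (U : Set G) := by
    intro e he f hf hef
    have hg : e⁻¹ * f ∈ E := E.mul_mem (E.inv_mem he) hf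
    refine Subgroup.mem_inf.mpr ⟨hg, ?_⟩
    rw [Subgroup.mem_centralizer_iff]
    intro u hu
    have hu' : u ∈ U := hu
    have hw : (e⁻¹ * f) * u * (e⁻¹ * f)⁻¹ * u⁻¹ ∈ N := by
      rw [hNmem]
      refine ⟨U.mul_mem (hEU _ hg u hu') (U.inv_mem hu'), fun h hh => ?_⟩
      have hq : h * e⁻¹ ∈ E := E.mul_mem hh (E.inv_mem he)
      have hp : h * e⁻¹ * f ∈ E := E.mul_mem hq hf
      have hx : h * u * h⁻¹ ∈ U := hEU h hh u hu'
      have hxinv : (h * u * h⁻¹)⁻¹ = h * u * h⁻¹ :=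
        (eq_inv_of_mul_eq_one_left (hU2 _ hx)).symm
      have e1 : h * ((e⁻¹ * f) * u * (e⁻¹ * f)⁻¹ * u⁻¹) * h⁻¹
          = ((h * e⁻¹ * f) * u * (h * e⁻¹ * f)⁻¹) * (h * u * h⁻¹)⁻¹ := by group
      have c1 : h * e⁻¹ * f = f * (h * e⁻¹) := hEc _ hq f hf
      have e2 : (h * e⁻¹ * f) * u * (h * e⁻¹ * f)⁻¹
          = f * ((h * e⁻¹) * u * (h * e⁻¹)⁻¹) * f⁻¹ := by
        rw [c1]; group
      have hv : (h * e⁻¹) * u * (h * e⁻¹)⁻¹ ∈ U := hEU _ hq u hu'
      have c2 : e * (h * e⁻¹) = h := by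
        rw [← mul_assoc, hEc e he h hh, mul_assoc, mul_inv_cancel, mul_one]
      have e3 : e * ((h * e⁻¹) * u * (h * e⁻¹)⁻¹) * e⁻¹ = h * u * h⁻¹ := by
        have : e * ((h * e⁻¹) * u * (h * e⁻¹)⁻¹) * e⁻¹
            = (e * (h * e⁻¹)) * u * (e * (h * e⁻¹))⁻¹ := by group
        rw [this, c2]
      have hm1 : (h * e⁻¹ * f) * u * (h * e⁻¹ * f)⁻¹ ∈ U := hEU _ hp u hu'
      rw [e1, hxinv, hψmul _ hm1 _ hx, e2, ← hef _ hv, e3]
      exact hψsq _ hx
    rw [hNbot, Subgroup.mem_bot] at hw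
    have h4 : (e⁻¹ * f) * u * (e⁻¹ * f)⁻¹ = u := by
      have := mul_inv_eq_one.mp hw
      exact this
    have h5 : (e⁻¹ * f) * u = u * (e⁻¹ * f) := by
      have := mul_inv_eq_iff_eq_mul.mp h4
      exact this
    exact h5.symm
  -- the conjugate characters
  let Φ : ↥E → (↥U →* ℂˣ) := fun e =>
    { toFun := fun u => ψ ((e : G) * u * (e : G)⁻¹)
      map_one' := by
        show ψ ((e : G) * ((1 : ↥U) : G) * (e : G)⁻¹) = 1
        rw [Subgroup.coe_one, mul_one, mul_inv_cancel]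
        exact hψ1
      map_mul' := by
        intro a b
        show ψ ((e : G) * ((a * b : ↥U) : G) * (e : G)⁻¹)
          = ψ ((e : G) * a * (e : G)⁻¹) * ψ ((e : G) * b * (e : G)⁻¹)
        have e1 : (e : G) * ((a * b : ↥U) : G) * (e : G)⁻¹
            = ((e : G) * a * (e : G)⁻¹) * ((e : G) * b * (e : G)⁻¹) := by
          rw [Subgroup.coe_mul]; group
        rw [e1]
        exact hψmul _ (hEU e e.2 a a.2) _ (hEU e e.2 b b.2) }
  have hΦ : ∀ (e : ↥E) (u : ↥U), Φ e u = ψ ((e : G) * u * (e : G)⁻¹) := fun _ _ => rfl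
  haveI : Finite (↥U →* ℂˣ) := Nat.finite_of_card_ne_zero (by
    rw [hcardHom]; exact Nat.card_pos.ne')
  letI : Fintype (↥U →* ℂˣ) := Fintype.ofFinite _
  letI : Fintype ↥E := Fintype.ofFinite _
  letI : Fintype ↥(E ⊓ Subgroup.centralizer (U : Set G)) := Fintype.ofFinite _
  -- Claim A
  have hA : Fintype.card ↥E ≤ Nat.card ↥(E ⊓ Subgroup.centralizer (U : Set G))
      * (Finset.univ.image Φ).card := by
    rw [← Finset.card_univ]
    apply Finset.card_le_mul_card_image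
    intro μ hμ
    obtain ⟨e₀, -, rfl⟩ := Finset.mem_image.mp hμ
    rw [Nat.card_eq_fintype_card, ← Finset.card_univ]
    have hmem : ∀ x : ↥E, Φ x = Φ e₀ →
        (e₀ : G)⁻¹ * (x : G) ∈ E ⊓ Subgroup.centralizer (U : Set G) := by
      intro x hx
      apply hfib _ e₀.2 _ x.2
      intro u hu
      have := DFunLike.congr_fun hx ⟨u, hu⟩
      rw [hΦ, hΦ] at this
      exact this.symm
    apply Finset.card_le_card_of_injOn
      (fun x => if hx : Φ x = Φ e₀ then ⟨(e₀ : G)⁻¹ * (x : G), hmem x hx⟩ else 1)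
    · intro x _
      exact Finset.mem_univ _
    · intro x hx y hy hxy
      have hx' : Φ x = Φ e₀ := (Finset.mem_filter.mp hx).2
      have hy' : Φ y = Φ e₀ := (Finset.mem_filter.mp hy).2
      simp only [dif_pos hx', dif_pos hy'] at hxy
      have h6 := congrArg Subtype.val hxy
      simp only at h6
      exact Subtype.ext (mul_left_cancel h6)
  -- Claim B
  have hB : 2 * (Finset.univ.image Φ).card ≤ Nat.card ↥U := by
    have hT' : ((Finset.univ.image Φ).image (fun μ => μ * φ)).card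
        = (Finset.univ.image Φ).card :=
      Finset.card_image_of_injective _ (mul_left_injective φ)
    have hdisj : Disjoint (Finset.univ.image Φ) ((Finset.univ.image Φ).image (fun μ => μ * φ)) := by
      rw [Finset.disjoint_left]
      intro μ hμ hμ'
      obtain ⟨e, -, rfl⟩ := Finset.mem_image.mp hμ
      obtain ⟨ν, hν, hνe⟩ := Finset.mem_image.mp hμ'
      obtain ⟨f, -, rfl⟩ := Finset.mem_image.mp hν
      have h7 := DFunLike.congr_fun hνe ⟨s, hsU⟩
      simp only [MonoidHom.mul_apply] at h7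
      rw [hΦ, hΦ, hsfix _ f.2, hsfix _ e.2, ← hψ s hsU] at h7
      apply hψs
      have h8 : ψ s * ψ s = ψ s * 1 := by rw [mul_one]; exact h7
      exact mul_left_cancel h8
    have h9 := Finset.card_le_univ ((Finset.univ.image Φ) ∪
      ((Finset.univ.image Φ).image (fun μ => μ * φ)))
    rw [Finset.card_union_of_disjoint hdisj, hT', ← Nat.card_eq_fintype_card, hcardHom] at h9
    omega
  rw [Nat.card_eq_fintype_card (α := ↥E)]
  calc 2 * Fintype.card ↥E
      ≤ 2 * (Nat.card ↥(E ⊓ Subgroup.centralizer (U : Set G)) * (Finset.univ.image Φ).card) :=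
        Nat.mul_le_mul_left 2 hA
    _ = (2 * (Finset.univ.image Φ).card) * Nat.card ↥(E ⊓ Subgroup.centralizer (U : Set G)) := by
        ring
    _ ≤ Nat.card ↥U * Nat.card ↥(E ⊓ Subgroup.centralizer (U : Set G)) :=
        Nat.mul_le_mul_right _ hB

example : StCnt.{u} := cnt

end Cfsg.Agent.H5.W4

#print axioms Cfsg.Agent.H5.W4.cnt
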