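import Mathlib
import Cfsg.Agent.H57.W4Defs
import Cfsg.Agent.H51.JcNORM

/-! W4-FPF (helper57's W4 project, S2948/S2949): an element `x` of `K` outside `O₂(K)` (of
index 3) has its cube in `O₂(K)`, acts fixed-point-freely on `W_K`, and `K = O ∪ O x ∪ O x⁻¹`. -/

set_option autoImplicit false

open Cfsg

universe u

namespace Cfsg.Agent.H5.W4

open Cfsg.Agent.H57.W4

open scoped commutatorElement

/-- In a group of order 3 every element is `1`, `g` or `g⁻¹` for any `g ≠ 1`. -/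
theorem fpf_card3 {H : Type u} [Group H] (h : Nat.card H = 3) (g : H) (hg : g ≠ 1) (y : H) :
    y = 1 ∨ y = g ∨ y = g⁻¹ := by
  have : Fact (Nat.Prime 3) := ⟨Nat.prime_three⟩
  have hfin : Finite H := Nat.finite_of_card_ne_zero (by rw [h]; norm_num)
  have hz : y ∈ Subgroup.zpowers g := by
    rw [zpowers_eq_top_of_prime_card (p := 3) h hg]
    trivial
  obtain ⟨e, he⟩ := hz
  rw [← he]
  show g ^ e = 1 ∨ g ^ e = g ∨ g ^ e = g⁻¹
  have hg3' : g ^ 3 = 1 := by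
    have := pow_card_eq_one' (G := H) (x := g)
    rwa [h] at this
  have hg3 : g ^ (3 : ℤ) = 1 := by exact_mod_cast hg3'
  rw [zpow_eq_zpow_emod e hg3]
  have h3 : e % 3 = 0 ∨ e % 3 = 1 ∨ e % 3 = 2 := by omega
  rcases h3 with h | h | h
  · left; rw [h, zpow_zero]
  · right; left; rw [h, zpow_one]
  · right; right
    rw [h]
    have h4 : g ^ (2 : ℤ) * g = 1 := by
      rw [← zpow_add_one]
      exact hg3
    exact eq_inv_of_mul_eq_one_left h4

theorem fpf : StFpf.{u} := by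
  intro G _ _ K hrel x hxK hxO
  classical
  obtain ⟨hOK, hKN, -⟩ := Cfsg.Agent.H51.Jc.pCoreOf_facts K
  -- notation
  obtain ⟨O, hOdef⟩ : ∃ O : Subgroup G, O = pCoreOf 2 K := ⟨_, rfl⟩
  rw [← hOdef] at hrel hxO hOK hKN ⊢
  have hN : (O.subgroupOf K).Normal := (Subgroup.normal_subgroupOf_iff_le_normalizer hOK).mpr hKN
  have hidx : (O.subgroupOf K).index = 3 := hrel
  have hcard : Nat.card (↥K ⧸ O.subgroupOf K) = 3 := hidx
  -- (1)
  have h1 : x * x * x ∈ O := by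
    have h := Subgroup.pow_index_mem (O.subgroupOf K) (⟨x, hxK⟩ : ↥K)
    rw [hidx, Subgroup.mem_subgroupOf] at h
    have e : (((⟨x, hxK⟩ : ↥K) ^ 3 : ↥K) : G) = x * x * x := by
      rw [Subgroup.coe_pow]
      show x ^ 3 = x * x * x
      rw [pow_succ, pow_two]
    rwa [e] at h
  -- (3)
  have h3 : ∀ k ∈ K, k ∈ O ∨ k * x⁻¹ ∈ O ∨ k * x ∈ O := by
    intro k hk
    have hg : (QuotientGroup.mk (⟨x, hxK⟩ : ↥K) : ↥K ⧸ O.subgroupOf K) ≠ 1 := by
      intro h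
      rw [QuotientGroup.eq_one_iff, Subgroup.mem_subgroupOf] at h
      exact hxO h
    rcases fpf_card3 hcard _ hg (QuotientGroup.mk (⟨k, hk⟩ : ↥K)) with h | h | h
    · left
      rw [QuotientGroup.eq_one_iff, Subgroup.mem_subgroupOf] at h
      exact h
    · right; left
      have h' : (QuotientGroup.mk ((⟨k, hk⟩ : ↥K) * (⟨x, hxK⟩ : ↥K)⁻¹) : ↥K ⧸ O.subgroupOf K) = 1 := by
        rw [QuotientGroup.mk_mul, QuotientGroup.mk_inv, h, mul_inv_cancel]
      rw [QuotientGroup.eq_one_iff, Subgroup.mem_subgroupOf] at h'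
      exact h'
    · right; right
      have h' : (QuotientGroup.mk ((⟨k, hk⟩ : ↥K) * (⟨x, hxK⟩ : ↥K)) : ↥K ⧸ O.subgroupOf K) = 1 := by
        rw [QuotientGroup.mk_mul, h, inv_mul_cancel]
      rw [QuotientGroup.eq_one_iff, Subgroup.mem_subgroupOf] at h'
      exact h'
  refine ⟨h1, ?_, h3⟩
  -- (2): facts on `Z`
  obtain ⟨Z, hZdef⟩ : ∃ Z : Subgroup G, Z = omegaCenterOf O := ⟨_, rfl⟩
  have hZle : Z ≤ O ⊓ Subgroup.centralizer (O : Set G) := by
    rw [hZdef]; exact Cfsg.Agent.H51.Jc.omegaCenterOf_le_inf O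
  have hZconj : ∀ k ∈ K, ∀ z ∈ Z, k * z * k⁻¹ ∈ Z := by
    intro k hk z hz
    rw [hZdef, hOdef] at hz ⊢
    exact Cfsg.Agent.H51.Jc.conj_mem_omegaCenterOf (Subgroup.le_normalizer hk) hz
  have hOZ : ∀ o ∈ O, ∀ z ∈ Z, o * z * o⁻¹ = z := by
    intro o ho z hz
    have h := Subgroup.mem_centralizer_iff.mp (hZle hz).2 o ho
    rw [h, mul_assoc, mul_inv_cancel, mul_one]
  have hZcomm : ∀ a ∈ Z, ∀ b ∈ Z, a * b = b * a := by
    intro a ha b hb
    exact Subgroup.mem_centralizer_iff.mp (hZle hb).2 a (hZle ha).1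
  have hZ2 : ∀ z ∈ Z, z * z = 1 := by
    let S : Subgroup G :=
      { carrier := {z | z ∈ O ⊓ Subgroup.centralizer (O : Set G) ∧ z * z = 1}
        mul_mem' := by
          rintro a b ⟨ha, ha2⟩ ⟨hb, hb2⟩
          refine ⟨Subgroup.mul_mem _ ha hb, ?_⟩
          have hc : b * a = a * b := Subgroup.mem_centralizer_iff.mp ha.2 b hb.1
          calc a * b * (a * b) = a * (b * a) * b := by group
            _ = a * (a * b) * b := by rw [hc]
            _ = (a * a) * (b * b) := by group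
            _ = 1 := by rw [ha2, hb2, one_mul]
        one_mem' := ⟨Subgroup.one_mem _, one_mul 1⟩
        inv_mem' := by
          rintro a ⟨ha, ha2⟩
          have e1 : a⁻¹ = a := (eq_inv_of_mul_eq_one_left ha2).symm
          rw [e1]
          exact ⟨ha, ha2⟩ }
    have hle : Z ≤ S := by
      rw [hZdef]
      unfold omegaCenterOf omegaOne
      rw [Subgroup.closure_le]
      rintro z ⟨hz, hz2⟩
      exact ⟨hz, by rw [← pow_two]; exact hz2⟩
    intro z hz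
    exact (hle hz).2
  have hZinv : ∀ z ∈ Z, z⁻¹ = z := fun z hz => (eq_inv_of_mul_eq_one_left (hZ2 z hz)).symm
  -- the conjugation by `x` on `Z`
  have hc : ∀ z ∈ Z, x * z * x⁻¹ ∈ Z := hZconj x hxK
  have hccc : ∀ z ∈ Z, x * (x * (x * z * x⁻¹) * x⁻¹) * x⁻¹ = z := by
    intro z hz
    have e : x * (x * (x * z * x⁻¹) * x⁻¹) * x⁻¹ = (x * x * x) * z * (x * x * x)⁻¹ := by group
    rw [e]
    exact hOZ _ h1 z hz
  have hcc' : ∀ z ∈ Z, x⁻¹ * z * x = x * (x * z * x⁻¹) * x⁻¹ := by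
    intro z hz
    have h := hccc z hz
    calc x⁻¹ * z * x = x⁻¹ * (x * (x * (x * z * x⁻¹) * x⁻¹) * x⁻¹) * x := by rw [h]
      _ = x * (x * z * x⁻¹) * x⁻¹ := by group
  -- the norm map
  obtain ⟨ν, hν⟩ : ∃ ν : G → G, ∀ z, ν z = z * (x * z * x⁻¹) * (x * (x * z * x⁻¹) * x⁻¹) :=
    ⟨fun z => z * (x * z * x⁻¹) * (x * (x * z * x⁻¹) * x⁻¹), fun _ => rfl⟩
  have hνZ : ∀ z ∈ Z, ν z ∈ Z := by
    intro z hz
    rw [hν]
    exact Z.mul_mem (Z.mul_mem hz (hc z hz)) (hc _ (hc z hz))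
  have hνmul : ∀ a ∈ Z, ∀ b ∈ Z, ν (a * b) = ν a * ν b := by
    intro a ha b hb
    rw [hν, hν, hν]
    have e1 : x * (a * b) * x⁻¹ = (x * a * x⁻¹) * (x * b * x⁻¹) := by group
    have e2 : x * ((x * a * x⁻¹) * (x * b * x⁻¹)) * x⁻¹
        = (x * (x * a * x⁻¹) * x⁻¹) * (x * (x * b * x⁻¹) * x⁻¹) := by group
    rw [e1, e2]
    have c1 : Commute b (x * a * x⁻¹) := hZcomm b hb _ (hc a ha)
    have c2 : Commute (b * (x * b * x⁻¹)) (x * (x * a * x⁻¹) * x⁻¹) :=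
      hZcomm _ (Z.mul_mem hb (hc b hb)) _ (hc _ (hc a ha))
    rw [c1.mul_mul_mul_comm, c2.mul_mul_mul_comm]
  have hνK : ∀ k ∈ K, ∀ z ∈ Z, ν (k * z * k⁻¹) = ν z := by
    intro k hk z hz
    rcases h3 k hk with h | h | h
    · rw [hOZ k h z hz]
    · have e : k * z * k⁻¹ = (k * x⁻¹) * (x * z * x⁻¹) * (k * x⁻¹)⁻¹ := by group
      rw [e, hOZ _ h _ (hc z hz), hν, hν, hccc z hz]
      have c1 : Commute (x * z * x⁻¹ * (x * (x * z * x⁻¹) * x⁻¹)) z :=
        hZcomm _ (Z.mul_mem (hc z hz) (hc _ (hc z hz))) z hz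
      rw [c1.eq]
      exact (mul_assoc _ _ _).symm
    · have e : k * z * k⁻¹ = (k * x) * (x⁻¹ * z * x) * (k * x)⁻¹ := by group
      have hm : x⁻¹ * z * x ∈ Z := by
        rw [hcc' z hz]; exact hc _ (hc z hz)
      rw [e, hOZ _ h _ hm, hcc' z hz, hν, hν, hccc z hz]
      have c1 : Commute (x * (x * z * x⁻¹) * x⁻¹) (z * (x * z * x⁻¹)) :=
        hZcomm _ (hc _ (hc z hz)) _ (Z.mul_mem hz (hc z hz))
      rw [mul_assoc, c1.eq]
  -- `ν` is trivial on `W`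
  let S : Subgroup G :=
    { carrier := {z | z ∈ Z ∧ ν z = 1}
      mul_mem' := by
        rintro a b ⟨ha, ha2⟩ ⟨hb, hb2⟩
        exact ⟨Z.mul_mem ha hb, by rw [hνmul a ha b hb, ha2, hb2, one_mul]⟩
      one_mem' := ⟨Z.one_mem, by rw [hν]; group⟩
      inv_mem' := by
        rintro a ⟨ha, ha2⟩
        rw [hZinv a ha]
        exact ⟨ha, ha2⟩ }
  have hWS : wOf K ≤ S := by
    unfold wOf
    rw [← hOdef, ← hZdef, Subgroup.commutator_le]
    intro z hz k hk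
    have e : ⁅z, k⁆ = z * (k * z * k⁻¹) := by
      rw [commutatorElement_def]
      have := hZinv z hz
      calc z * k * z⁻¹ * k⁻¹ = z * (k * z⁻¹ * k⁻¹) := by group
        _ = z * (k * z * k⁻¹) := by rw [this]
    rw [e]
    refine ⟨Z.mul_mem hz (hZconj k hk z hz), ?_⟩
    rw [hνmul z hz _ (hZconj k hk z hz), hνK k hk z hz]
    exact hZ2 _ (hνZ z hz)
  intro u hu hxu
  have hu' := hWS hu
  have huZ : u ∈ Z := hu'.1
  have hνu : ν u = 1 := hu'.2
  rw [hν, hxu, hxu, hZ2 u huZ, one_mul] at hνu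
  exact hνu

example : StFpf.{u} := fpf

end Cfsg.Agent.H5.W4

#print axioms Cfsg.Agent.H5.W4.fpf
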